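import Cfsg.Agent.H67.ClassTwoQuot
import Cfsg.Agent.H83.Metacyclic
import Cfsg.Agent.H85.Alperin
import Cfsg.Agent.H85.Saturation
import Cfsg.Agent.H87.Essential
import Cfsg.Agent.H6.Basic
/-!
In a saturated fusion system at an odd prime a strongly closed metacyclic subgroup lies in every
essential subgroup.
-/
set_option autoImplicit false

namespace H67

open Cfsg

/-- The map `Aut G → Aut (G ⧸ Φ(G))`. -/
noncomputable def frattiniQuotAut (G : Type*) [Group G] : MulAut G →* MulAut (G ⧸ frattini G) where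
  toFun α := QuotientGroup.congr (frattini G) (frattini G) α
    (Subgroup.characteristic_iff_map_eq.mp inferInstance α)
  map_one' := by
    ext x
    induction x using QuotientGroup.induction_on
    rfl
  map_mul' α β := by
    ext x
    induction x using QuotientGroup.induction_on
    rfl

theorem frattiniQuotAut_mk {G : Type*} [Group G] (α : MulAut G) (a : G) :
    frattiniQuotAut G α (a : G ⧸ frattini G) = ((α a : G) : G ⧸ frattini G) := rfl

/-- Some `p`-th power falls in a subgroup just outside it. -/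
theorem exists_pow_notMem {G : Type*} [Group G] {p : ℕ} {E : Subgroup G} {a : G} (ha : a ∉ E) :
    ∀ k : ℕ, a ^ p ^ k ∈ E → ∃ j, a ^ p ^ j ∉ E ∧ (a ^ p ^ j) ^ p ∈ E := by
  intro k
  induction k with
  | zero => intro h; exact absurd (by simpa using h) ha
  | succ k ih =>
    intro h
    by_cases hk : a ^ p ^ k ∈ E
    · exact ih hk
    · exact ⟨k, hk, by rwa [← pow_mul, ← pow_succ]⟩

theorem frattini_map_equiv {G H : Type*} [Group G] [Group H] (e : G ≃* H) :
    (frattini G).map (e : G →* H) = frattini H := by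
  refine le_antisymm ?_ ?_
  · exact Subgroup.map_le_iff_le_comap.mpr (frattini_le_comap_frattini_of_surjective e.surjective)
  · intro x hx
    have h1 := frattini_le_comap_frattini_of_surjective (φ := (e.symm : H →* G)) e.symm.surjective hx
    exact ⟨e.symm x, h1, by simp⟩

/-- Restriction of automorphisms to an invariant subgroup. -/
def restrictAut {G : Type*} [Group G] (A : Subgroup (MulAut G)) (D : Subgroup G)
    (hD : ∀ β ∈ A, ∀ d ∈ D, β d ∈ D) : A →* MulAut D where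
  toFun β :=
    { toFun := fun d => ⟨(β : MulAut G) d, hD β β.2 d d.2⟩
      invFun := fun d => ⟨(β : MulAut G)⁻¹ d, hD _ (inv_mem β.2) d d.2⟩
      left_inv := fun d => Subtype.ext (by simp)
      right_inv := fun d => Subtype.ext (by simp)
      map_mul' := fun d e => Subtype.ext (by simp) }
  map_one' := MulEquiv.ext fun d => Subtype.ext rfl
  map_mul' β γ := MulEquiv.ext fun d => Subtype.ext rfl

theorem restrictAut_apply {G : Type*} [Group G] (A : Subgroup (MulAut G)) (D : Subgroup G)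
    (hD : ∀ β ∈ A, ∀ d ∈ D, β d ∈ D) (β : A) (d : D) :
    ((restrictAut A D hD β d : D) : G) = (β : MulAut G) d := rfl

/-- In an essential subgroup an automorphism trivial modulo an invariant subgroup `D` whose image
on `D ⧸ Φ(D)` lies in an invariant `p`-group is inner. -/
theorem mem_inn_of_trivial_mod {Ω : Type*} [Group Ω] {S : Subgroup Ω} [Finite S] {p : ℕ}
    [Fact p.Prime] (hS : IsPGroup p S) {F : Cfsg.FusionSystem S} {E : Subgroup Ω}
    (hE : F.IsEssential p E) (D : Subgroup E) (hD : ∀ β ∈ F.autGroup E, ∀ d ∈ D, β d ∈ D)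
    (T : Subgroup (MulAut (D ⧸ frattini D))) (hT : IsPGroup p T)
    (hnorm : ∀ β, ∀ τ ∈ T,
      ((frattiniQuotAut D).comp (restrictAut _ D hD)) β * τ *
        (((frattiniQuotAut D).comp (restrictAut _ D hD)) β)⁻¹ ∈ T)
    (γ : F.autGroup E) (hγ : ∀ a : E, a⁻¹ * (γ : MulAut E) a ∈ D)
    (hγT : ((frattiniQuotAut D).comp (restrictAut _ D hD)) γ ∈ T) :
    (γ : MulAut E) ∈ Cfsg.Inn E := by
  haveI := H87.essential_finite hE
  have hEp : IsPGroup p E := hS.to_le hE.1.1
  have hDp : IsPGroup p D := hEp.to_subgroup D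
  set res := restrictAut (F.autGroup E) D hD with hres
  set ρ := (frattiniQuotAut D).comp res with hρ
  let K₀ : Subgroup (F.autGroup E) :=
    { carrier := {β | ∀ a : E, a⁻¹ * (β : MulAut E) a ∈ D}
      one_mem' := fun a => by simp
      mul_mem' := fun {β γ} hβ hγ a => by
        have := mul_mem (hγ a) (hβ ((γ : MulAut E) a))
        simpa [mul_assoc] using this
      inv_mem' := fun {β} hβ a => by
        have := inv_mem (hβ (((β : MulAut E))⁻¹ a))
        simpa using this }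
  let U : Subgroup (MulAut D) :=
    { carrier := {β | ∀ a : D, a⁻¹ * β a ∈ frattini D}
      one_mem' := fun a => by simp
      mul_mem' := fun {β γ} hβ hγ a => by
        have := mul_mem (hγ a) (hβ (γ a))
        simpa [mul_assoc] using this
      inv_mem' := fun {β} hβ a => by
        have := inv_mem (hβ (β⁻¹ a))
        simpa using this }
  have hU : IsPGroup p U := H87.isPGroup_of_trivial_mod_frattini hDp U fun β hβ => hβ
  let r : K₀ →* MulAut D := res.comp K₀.subtype
  have hr : IsPGroup p r.ker := by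
    let i : K₀ →* MulAut E := (F.autGroup E).subtype.comp K₀.subtype
    have hi : Function.Injective i := fun a b h => Subtype.ext (Subtype.ext h)
    have h1 := H87.isPGroup_of_stabilizes D hDp (r.ker.map i)
      (by rintro β ⟨γ, -, rfl⟩; exact γ.2)
      (by
        rintro β ⟨γ, hγ, rfl⟩ d hd
        exact congrArg (fun e : MulAut D => ((e ⟨d, hd⟩ : D) : E)) (MonoidHom.mem_ker.mp hγ))
    exact h1.of_equiv (r.ker.equivMapOfInjective i hi).symm
  have hkerp : IsPGroup p (ρ.comp K₀.subtype).ker := by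
    refine (hU.comap_of_ker_isPGroup r hr).to_le fun β hβ => ?_
    intro a
    have h2 : ρ (β : F.autGroup E) = 1 := hβ
    have h1 : ρ (β : F.autGroup E) (a : D ⧸ frattini D) = (a : D ⧸ frattini D) := by
      rw [h2]; rfl
    exact QuotientGroup.eq.mp h1.symm
  let L : Subgroup (F.autGroup E) := K₀ ⊓ T.comap ρ
  have hL : IsPGroup p L := by
    refine ((hT.comap_of_ker_isPGroup (ρ.comp K₀.subtype) hkerp).map K₀.subtype).to_le ?_
    rintro β ⟨h1, h2⟩
    exact Subgroup.mem_map.mpr ⟨⟨β, h1⟩, Subgroup.mem_comap.mpr h2, rfl⟩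
  refine H87.essential_mem_inn hE (L.map (F.autGroup E).subtype)
    ((hL.map _).to_le inf_le_left) ?_ (Subgroup.mem_map_of_mem _ (show γ ∈ L from ⟨hγ, hγT⟩)) γ.2
  intro β hβ δ hδ hδF
  rw [Subgroup.mem_map] at hδ ⊢
  obtain ⟨δ', ⟨h1, h2⟩, rfl⟩ := hδ
  refine ⟨⟨β, hβ⟩ * δ' * ⟨β, hβ⟩⁻¹, ⟨?_, ?_⟩, rfl⟩
  · intro a
    have := hD β hβ _ (h1 (β⁻¹ a))
    simpa using this
  · have h3 : ρ (⟨β, hβ⟩ * δ' * ⟨β, hβ⟩⁻¹) = ρ ⟨β, hβ⟩ * ρ δ' * (ρ ⟨β, hβ⟩)⁻¹ := by
      rw [map_mul, map_mul, map_inv]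
    exact Subgroup.mem_comap.mpr (h3 ▸ hnorm _ _ h2)

/-- A metacyclic group has no element acting like `g` below. -/
theorem false_of_inverted_power {G : Type*} [Group G] [Finite G] {p : ℕ} [Fact p.Prime]
    (hp2 : p ≠ 2) (hm : Cfsg.IsMetacyclic G) (D : Subgroup G) (hDp : IsPGroup p D) {g : G}
    (hgN : g ∈ Subgroup.normalizer (D : Set G)) (hg : g ∉ D) (hcard : Nat.card (D ⧸ frattini D) = p ^ 2)
    {d c c₀ : D} (hc₀ : g ^ p = c₀) (hc : ((d : G) * g) ^ p = c) (hinv : c * c₀ ∈ frattini D) :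
    False := by
  classical
  have hp := (Fact.out : p.Prime)
  set Φ : Subgroup G := (frattini D).map D.subtype with hΦ
  let M : Subgroup G := Subgroup.normalizer (Φ : Set G)
  have hDM : ∀ a : D, (a : G) ∈ M := fun a => by
    refine Subgroup.mem_normalizer_fintype ?_
    rintro _ ⟨b, hb, rfl⟩
    exact ⟨a * b * a⁻¹, (inferInstance : (frattini D).Normal).conj_mem b hb a, by simp⟩
  have hgM : g ∈ M := by
    refine Subgroup.mem_normalizer_fintype ?_
    rintro _ ⟨b, hb, rfl⟩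
    exact ⟨Subgroup.normalizerMonoidHom D ⟨g, hgN⟩ b,
      H87.apply_mem_of_characteristic inferInstance _ hb, rfl⟩
  haveI : (Φ.subgroupOf M).Normal := Subgroup.normal_subgroupOf_of_le_normalizer le_rfl
  let π := QuotientGroup.mk' (Φ.subgroupOf M)
  let h : D →* M ⧸ Φ.subgroupOf M := π.comp (D.subtype.codRestrict M hDM)
  have hker : ∀ a : D, h a = 1 ↔ a ∈ frattini D := fun a => by
    show π _ = 1 ↔ _
    rw [QuotientGroup.mk'_apply, QuotientGroup.eq_one_iff, Subgroup.mem_subgroupOf]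
    exact Subgroup.mem_map_iff_mem D.subtype_injective
  set W := h.range with hW
  have hWc : ∀ a ∈ W, ∀ b ∈ W, a * b = b * a := by
    rintro _ ⟨a, rfl⟩ _ ⟨b, rfl⟩
    rw [← map_mul, ← map_mul, ← inv_mul_eq_one, ← map_inv, ← map_mul, hker]
    have h1 := Subgroup.commutator_mem_commutator (Subgroup.mem_top b⁻¹) (Subgroup.mem_top a⁻¹)
    rw [← commutator_def, commutatorElement_def] at h1
    exact H6.commutator_le_frattini hDp (by simpa [mul_assoc] using h1)
  have hWexp : ∀ a ∈ W, a ^ p = 1 := by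
    rintro _ ⟨a, rfl⟩
    rw [← map_pow, hker]
    exact H6.pow_prime_mem_frattini hDp a
  have hWcard : Nat.card W = p ^ 2 := by
    rw [← hcard, hW, ← Nat.card_congr (QuotientGroup.quotientKerEquivRange h).toEquiv]
    rw [show h.ker = frattini D from SetLike.ext fun a => by rw [MonoidHom.mem_ker, hker]]
  set y : M ⧸ Φ.subgroupOf M := π ⟨g, hgM⟩ with hy
  have hyW : y ∈ Subgroup.normalizer (W : Set (M ⧸ Φ.subgroupOf M)) := by
    refine Subgroup.mem_normalizer_fintype ?_
    rintro _ ⟨a, rfl⟩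
    refine ⟨Subgroup.normalizerMonoidHom D ⟨g, hgN⟩ a, ?_⟩
    show π _ = π _ * π _ * (π _)⁻¹
    rw [← map_mul, ← map_inv, ← map_mul]
    rfl
  have hyp' : y ^ p = h c₀ := by
    rw [hy, ← map_pow]
    exact congrArg π (Subtype.ext hc₀)
  have hyp : ∀ a ∈ W, Commute (y ^ p) a := fun a ha => hWc _ (hyp' ▸ ⟨c₀, rfl⟩) _ ha
  have hy1 : y ^ p = 1 := by
    have h1 := mul_pow_prime_eq hp2 W hWc hWexp hWcard.le hyW hyp (x := h d) ⟨d, rfl⟩
    have h2 : (h d * y) ^ p = h c := by
      show (π _ * π _) ^ p = π _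
      rw [← map_mul, ← map_pow]
      exact congrArg π (Subtype.ext hc)
    rw [h2, hyp'] at h1
    have h3 : y ^ p ^ 1 * y ^ p ^ 1 = 1 := by
      rw [pow_one, hyp']
      nth_rewrite 1 [← h1]
      rw [← map_mul, hker]
      exact hinv
    have h5 : orderOf (y ^ p) ∣ Nat.gcd p 2 :=
      Nat.dvd_gcd (orderOf_dvd_of_pow_eq_one (hWexp _ (hyp' ▸ ⟨c₀, rfl⟩)))
        (orderOf_dvd_of_pow_eq_one (by rw [sq]; simpa using h3))
    rw [show Nat.gcd p 2 = 1 from (Nat.coprime_primes hp Nat.prime_two).mpr hp2] at h5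
    exact orderOf_eq_one_iff.mp (Nat.dvd_one.mp h5)
  let X : Subgroup (M ⧸ Φ.subgroupOf M) := Subgroup.zpowers y ⊔ W
  have hXexp : ∀ x : X, x ^ p = 1 := by
    rintro ⟨x, hx⟩
    apply Subtype.ext
    change x ∈ Subgroup.zpowers y ⊔ W at hx
    rw [sup_comm, ← SetLike.mem_coe, Subgroup.coe_mul_of_right_le_normalizer_left W
      (Subgroup.zpowers y) (Subgroup.zpowers_le.mpr hyW)] at hx
    obtain ⟨w, hw, _, hz, rfl⟩ := Set.mem_mul.mp hx
    obtain ⟨i, rfl⟩ := (mem_powers_iff_mem_zpowers (x := y)).mpr hz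
    show (w * y ^ i) ^ p = 1
    have hyi : (y ^ i) ^ p = 1 := by rw [← pow_mul, mul_comm, pow_mul, hy1, one_pow]
    rw [mul_pow_prime_eq hp2 W hWc hWexp hWcard.le (pow_mem hyW i)
      (fun a _ => by rw [hyi]; exact Commute.one_left a) hw, hyi]
  have hQm : Cfsg.IsMetacyclic (M ⧸ Φ.subgroupOf M) :=
    H83.isMetacyclic_of_surjective π (QuotientGroup.mk'_surjective _)
      (H83.isMetacyclic_of_injective M.subtype M.subtype_injective hm)
  have hXle : Nat.card X ≤ p ^ 2 :=
    H83.card_le_sq_of_isMetacyclic hp.pos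
      (H83.isMetacyclic_of_injective X.subtype X.subtype_injective hQm) hXexp
  have hWX : W = X := Subgroup.eq_of_le_of_card_ge le_sup_right (hWcard ▸ hXle)
  obtain ⟨a, ha⟩ := (hWX ▸ (le_sup_left : Subgroup.zpowers y ≤ X) (Subgroup.mem_zpowers y) :
    y ∈ W)
  have h1 := QuotientGroup.eq.mp ha
  rw [Subgroup.mem_subgroupOf] at h1
  obtain ⟨b, -, hb⟩ := h1
  apply hg
  have h2 : ((a * b : D) : G) = g := by
    rw [Subgroup.coe_mul]
    simp at hb
    rw [hb]
    exact mul_inv_cancel_left _ _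
  rw [← h2]
  exact (a * b).2

theorem le_essential_of_stronglyClosed_odd {Ω : Type*} [Group Ω] {S : Subgroup Ω} [Finite S]
    {p : ℕ} [Fact p.Prime] (hp2 : p ≠ 2) (hS : IsPGroup p S) {F : Cfsg.FusionSystem S}
    (hF : F.IsSaturated p) {P : Subgroup Ω} (hP : F.StronglyClosed P)
    (hm : Cfsg.IsMetacyclic P) {E : Subgroup Ω} (hE : F.IsEssential p E) : P ≤ E := by
  classical
  have hp := (Fact.out : p.Prime)
  haveI := H87.essential_finite hE
  have hES : E ≤ S := hE.1.1
  haveI : Finite P := H85.finite_of_le hP.1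
  by_contra hPE
  have hEp : IsPGroup p E := hS.to_le hES
  have hPp : IsPGroup p P := hS.to_le hP.1
  have hPn : ∀ g ∈ S, ∀ a ∈ P, g * a * g⁻¹ ∈ P := fun g hg a ha => by
    simpa [Cfsg.conjHom] using hP.2 P le_rfl _ (F.conj_mem hP.1 hg) ⟨a, ha⟩
  -- an element of `P` normalising `E`, with `p`-th power in `E`
  obtain ⟨g, hgP, hgN, hgE, hgp⟩ : ∃ g, g ∈ P ∧ g ∈ Subgroup.normalizer (E : Set Ω) ∧ g ∉ E ∧
      g ^ p ∈ E := by
    set W := E ⊔ P with hW
    have hWS : W ≤ S := sup_le hES hP.1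
    haveI : Finite W := H85.finite_of_le hWS
    have hnorm : E ≤ Subgroup.normalizer (P : Set Ω) := fun e he =>
      H85.mem_normalizer_of_conj fun a ha => hPn e (hES he) a ha
    obtain ⟨g₀, hg₀, hg₀E⟩ := SetLike.exists_of_lt (H85.lt_normalizerIn (hS.to_le hWS)
      (lt_of_le_of_ne le_sup_left fun h : E = W => hPE (h ▸ le_sup_right)))
    obtain ⟨g₀W, g₀N⟩ := H85.mem_normalizerIn.mp hg₀
    have : g₀ ∈ ((E ⊔ P : Subgroup Ω) : Set Ω) := g₀W
    rw [Subgroup.coe_mul_of_left_le_normalizer_right E P hnorm] at this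
    obtain ⟨e, he, a, ha, rfl⟩ := Set.mem_mul.mp this
    have haN : a ∈ Subgroup.normalizer (E : Set Ω) := by
      have := mul_mem (inv_mem (Subgroup.le_normalizer he)) g₀N
      rwa [inv_mul_cancel_left] at this
    have haE : a ∉ E := fun h => hg₀E (mul_mem he h)
    obtain ⟨k, hk⟩ := hPp ⟨a, ha⟩
    obtain ⟨j, h1, h2⟩ := exists_pow_notMem haE k (by
      rw [show a ^ p ^ k = 1 from congrArg Subtype.val hk]; exact one_mem E)
    exact ⟨_, pow_mem ha _, pow_mem haN _, h1, h2⟩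
  have hgS := hP.1 hgP
  set α : MulAut E := Subgroup.normalizerMonoidHom E ⟨g, hgN⟩ with hα
  have hαv : ∀ a : E, ((α a : E) : Ω) = g * (a : Ω) * g⁻¹ := fun a => rfl
  have hαF : α ∈ F.autGroup E := H85.autInducedBy_le_autGroup F hES
    (H85.mem_autInducedBy.mpr ⟨g, hgS, hαv⟩)
  set D : Subgroup E := P.subgroupOf E with hD
  have hβD : ∀ β ∈ F.autGroup E, ∀ d ∈ D, β d ∈ D := by
    intro β hβ d hd
    exact hP.2 (P ⊓ E) inf_le_left _
      (H85.restrict ((H85.mem_autGroup hES).1 hβ) (inf_le_right (a := P))) ⟨d, hd, d.2⟩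
  have hDp : IsPGroup p D := hEp.to_subgroup D
  -- restriction to `D` and to its Frattini quotient
  set res := restrictAut (F.autGroup E) D hβD with hres
  set ρ := (frattiniQuotAut D).comp res with hρdef
  have hρ : ∀ (β : F.autGroup E) (d : D),
      ρ β (d : D ⧸ frattini D) = ((res β d : D) : D ⧸ frattini D) := fun β d => rfl
  set α' : F.autGroup E := ⟨α, hαF⟩ with hα'
  have hαK : ∀ a : E, a⁻¹ * (α' : MulAut E) a ∈ D := by
    intro a
    show (((a⁻¹ * α a : E) : E) : Ω) ∈ P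
    rw [Subgroup.coe_mul, Subgroup.coe_inv, hαv,
      show (a : Ω)⁻¹ * (g * a * g⁻¹) = ((a : Ω)⁻¹ * g * (a : Ω)⁻¹⁻¹) * g⁻¹ by group]
    exact mul_mem (hPn _ (inv_mem (hES a.2)) g hgP) (inv_mem hgP)
  have hinn : ∀ T : Subgroup (MulAut (D ⧸ frattini D)), IsPGroup p T →
      (∀ β, ∀ τ ∈ T, ρ β * τ * (ρ β)⁻¹ ∈ T) →
      ∀ γ : F.autGroup E, (∀ a : E, a⁻¹ * (γ : MulAut E) a ∈ D) → ρ γ ∈ T →
      (γ : MulAut E) ∈ Cfsg.Inn E :=
    fun T hT hnorm γ h1 h2 => mem_inn_of_trivial_mod hS hE D hβD T hT hnorm γ h1 h2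
  have hαinn : α ∉ Cfsg.Inn E := by
    rintro ⟨e, he⟩
    refine hgE ?_
    have hc := H87.essential_centric hE (x := (e : Ω)⁻¹ * g) (mul_mem (inv_mem (hES e.2)) hgS)
      fun a ha => by
        have h1 : (e : Ω) * a * (e : Ω)⁻¹ = g * a * g⁻¹ := by
          rw [← hαv ⟨a, ha⟩]
          exact congrArg (fun f : MulAut E => ((f ⟨a, ha⟩ : E) : Ω)) he
        calc a * ((e : Ω)⁻¹ * g) = (e : Ω)⁻¹ * ((e : Ω) * a * (e : Ω)⁻¹) * g := by group
          _ = (e : Ω)⁻¹ * g * a := by rw [h1]; group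
    have := mul_mem e.2 hc
    rwa [mul_inv_cancel_left] at this
  -- the Frattini quotient of `D` is elementary abelian of order `p ^ 2`
  letI : CommGroup (D ⧸ frattini D) :=
    { (inferInstance : Group (D ⧸ frattini D)) with
      mul_comm := fun x y => by
        obtain ⟨a, rfl⟩ := QuotientGroup.mk_surjective x
        obtain ⟨b, rfl⟩ := QuotientGroup.mk_surjective y
        refine (QuotientGroup.eq (s := frattini D)).mpr
          (H6.commutator_le_frattini hDp ?_)
        have h1 := Subgroup.commutator_mem_commutator (Subgroup.mem_top b⁻¹) (Subgroup.mem_top a⁻¹)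
        rw [← commutator_def, commutatorElement_def] at h1
        simpa [mul_assoc] using h1 }
  have hVexp : ∀ v : D ⧸ frattini D, v ^ p = 1 := fun v => by
    obtain ⟨a, rfl⟩ := QuotientGroup.mk_surjective v
    rw [← QuotientGroup.mk_pow, QuotientGroup.eq_one_iff]
    exact H6.pow_prime_mem_frattini hDp a
  let j : D →* P := (E.subtype.comp D.subtype).codRestrict P fun d => d.2
  have hj : Function.Injective j := fun a b h =>
    Subtype.ext (Subtype.ext (congrArg (Subtype.val (p := (· ∈ P))) h))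
  have hDm : Cfsg.IsMetacyclic D := H83.isMetacyclic_of_injective j hj hm
  have hVle : Nat.card (D ⧸ frattini D) ≤ p ^ 2 :=
    H83.card_le_sq_of_isMetacyclic hp.pos
      (H83.isMetacyclic_of_surjective (QuotientGroup.mk' _) (QuotientGroup.mk'_surjective _) hDm)
      hVexp
  set d₀ : D := ⟨⟨g ^ p, hgp⟩, pow_mem hgP p⟩ with hd₀
  have hαpow : ∀ (k : ℕ) (a : E), (((α ^ k) a : E) : Ω) = g ^ k * (a : Ω) * (g ^ k)⁻¹ := by
    intro k
    induction k with
    | zero => intro a; simp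
    | succ k ih =>
      intro a
      rw [pow_succ', MulAut.mul_apply, hαv, ih, pow_succ']
      group
  have hσp : ρ α' ^ p = 1 := by
    rw [← map_pow]
    refine MulEquiv.ext fun v => ?_
    obtain ⟨a, rfl⟩ := QuotientGroup.mk_surjective v
    rw [hρ, show res (α' ^ p) a = d₀ * a * d₀⁻¹ from Subtype.ext (Subtype.ext (hαpow p a.1)),
      QuotientGroup.mk_mul, QuotientGroup.mk_mul, QuotientGroup.mk_inv, mul_comm _ (a : D ⧸ frattini D),
      mul_inv_cancel_right]
    rfl
  have hσ1 : ρ α' ≠ 1 := fun h =>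
    hαinn (hinn ⊥ IsPGroup.of_bot (fun β τ hτ => by
      rw [Subgroup.mem_bot.mp hτ]; simp) α' hαK (Subgroup.mem_bot.mpr h))
  have hVcard : Nat.card (D ⧸ frattini D) = p ^ 2 := by
    have hVp : IsPGroup p (D ⧸ frattini D) := hDp.to_quotient _
    refine le_antisymm hVle (not_lt.mp fun hlt => hσ1 ?_)
    obtain ⟨k, hk⟩ := IsPGroup.iff_card.mp hVp
    have hk1 : Nat.card (D ⧸ frattini D) ≤ p := by
      rw [hk] at hlt ⊢
      exact (Nat.pow_le_pow_right hp.pos
        (Nat.lt_succ_iff.mp ((Nat.pow_lt_pow_iff_right hp.one_lt).mp hlt))).trans (pow_one p).le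
    rcases subsingleton_or_nontrivial (D ⧸ frattini D) with h | h
    · exact MulEquiv.ext fun v => Subsingleton.elim _ _
    · obtain ⟨f, -, hf1, hff⟩ := exists_fixed_mem (⊤ : Subgroup (D ⧸ frattini D)) hVp top_ne_bot
        (ρ α') hσp fun _ _ => Subgroup.mem_top _
      have htop : Subgroup.zpowers f = ⊤ := Subgroup.eq_top_of_le_card _ (by
        rw [Nat.card_zpowers, orderOf_eq_prime (hVexp f) hf1]; exact hk1)
      refine MulEquiv.ext fun v => ?_
      obtain ⟨i, rfl⟩ := Subgroup.mem_zpowers_iff.mp (htop ▸ Subgroup.mem_top v)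
      rw [map_zpow, hff]
      rfl
  -- the inversion
  obtain ⟨_, ⟨β₀, rfl⟩, hτ⟩ := exists_inversion hVexp hVcard ρ.range ⟨α', rfl⟩ hσp hσ1
    fun T hT hnorm hmem => hαinn (hinn T hT (fun β => hnorm _ ⟨β, rfl⟩) α' hαK hmem)
  obtain ⟨e, he⟩ := hinn ⊥ IsPGroup.of_bot (fun β τ hτ => by
      rw [Subgroup.mem_bot.mp hτ]; simp) (β₀ * α' * β₀⁻¹ * α'⁻¹)
    (fun a => by
      set x : E := (α' : MulAut E)⁻¹ a with hx
      have h1 := hβD β₀ β₀.2 _ (hαK ((β₀ : MulAut E)⁻¹ x))
      have h2 := inv_mem (hαK x)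
      have h3 := mul_mem h2 h1
      have hxa : (α' : MulAut E) x = a := by rw [hx]; simp
      rw [hxa] at h3
      simp only [map_mul, map_inv, MulAut.apply_inv_self] at h3
      have e : ((β₀ * α' * β₀⁻¹ * α'⁻¹ : F.autGroup E) : MulAut E) a =
          (β₀ : MulAut E) ((α' : MulAut E) ((β₀ : MulAut E)⁻¹ x)) := rfl
      rw [e]
      simpa [mul_assoc] using h3) (Subgroup.mem_bot.mpr (by
      rw [map_mul, map_mul, map_mul, map_inv, map_inv, mul_inv_eq_one, mul_inv_eq_iff_eq_mul]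
      refine MulEquiv.ext fun v => ?_
      rw [MulAut.mul_apply, MulAut.mul_apply, hτ, hτ, map_inv]))
  -- extend it to `g`
  set φ : E →* Ω := E.subtype.comp (β₀ : MulAut E).toMonoidHom with hφ
  have hiso : H85.IsFIso F (β₀ : MulAut E) := (H85.mem_autGroup hES).1 β₀.2
  have heg : ∀ a : E, (((β₀ : MulAut E) (α a) : E) : Ω) =
      ((e : Ω) * g) * ((β₀ : MulAut E) a : Ω) * ((e : Ω) * g)⁻¹ := by
    intro a
    have h1 := congrArg (fun f : MulAut E => ((f (α ((β₀ : MulAut E) a)) : E) : Ω)) he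
    simp only [hα'] at h1
    simp at h1
    rw [hαv] at h1
    rw [← h1]
    group
  have hgT : g ∈ Cfsg.FusionSystem.extender S E φ :=
    H85.mem_extender.mpr ⟨hgS, hgN, (e : Ω) * g, mul_mem (hES e.2) hgS,
      fun a ha => heg a⟩
  obtain ⟨ψ, hψ, hext⟩ := H85.receptive_extend
    (H85.receptive_of_fullyNormalized hS hF hE.2.1) hiso
  have hET : E ≤ Cfsg.FusionSystem.extender S E φ :=
    H85.le_extender hES fun x => H85.map_mem hiso x
  have hext' : ∀ x : E, ψ (Subgroup.inclusion hET x) = ((β₀ : MulAut E) x : Ω) :=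
    fun x => hext x x.2 (hET x.2)
  set tg : Cfsg.FusionSystem.extender S E φ := ⟨g, hgT⟩ with htg
  have hψgS : ψ tg ∈ S := H85.map_mem hψ tg
  have hψgP : ψ tg ∈ P := by
    have h1 := hP.2 (Subgroup.zpowers g) (Subgroup.zpowers_le.mpr hgP) _
      (H85.restrict hψ (Subgroup.zpowers_le.mpr hgT)) ⟨g, Subgroup.mem_zpowers g⟩
    exact h1
  have hz : ((e : Ω) * g)⁻¹ * ψ tg ∈ E := by
    refine H87.essential_centric hE (mul_mem (inv_mem (mul_mem (hES e.2) hgS)) hψgS) fun y hy => ?_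
    obtain ⟨x, hx⟩ := (β₀ : MulAut E).surjective ⟨y, hy⟩
    have h1 := H85.extend_conj hET hext' (g := tg) (x := x)
      (H85.conj_mem_of_mem_normalizer hgN x.2)
    have h3 := h1.symm.trans (heg x)
    rw [hx] at h3
    simp only at h3
    calc y * (((e : Ω) * g)⁻¹ * ψ tg)
        = ((e : Ω) * g)⁻¹ * (((e : Ω) * g) * y * ((e : Ω) * g)⁻¹) * ψ tg := by group
      _ = ((e : Ω) * g)⁻¹ * (ψ tg * y * (ψ tg)⁻¹) * ψ tg := by rw [h3]
      _ = ((e : Ω) * g)⁻¹ * ψ tg * y := by group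
  obtain ⟨d, hd⟩ : ∃ d : D, ψ tg = (d : Ω) * g := by
    have h1 : ψ tg * g⁻¹ ∈ E := by
      have := mul_mem e.2 (H85.conj_mem_of_mem_normalizer hgN hz)
      rwa [show (e : Ω) * (g * (((e : Ω) * g)⁻¹ * ψ tg) * g⁻¹) = ψ tg * g⁻¹ by group] at this
    exact ⟨⟨⟨_, h1⟩, mul_mem hψgP (inv_mem hgP)⟩, (inv_mul_cancel_right _ _).symm⟩
  have hdgp : ((d : Ω) * g) ^ p = ((res β₀ d₀ : D) : Ω) := by
    rw [← hd, ← map_pow]
    exact hext _ hgp _
  set gP : P := ⟨g, hgP⟩ with hgP'
  have h4 : ((res β₀ d₀ : D) : D ⧸ frattini D) = (d₀ : D ⧸ frattini D)⁻¹ := by rw [← hρ, hτ]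
  rw [← mul_eq_one_iff_eq_inv, ← QuotientGroup.mk_mul, QuotientGroup.eq_one_iff] at h4
  let eD : D ≃* j.range := MonoidHom.ofInjective hj
  have hfr : ∀ a : D, a ∈ frattini D → eD a ∈ frattini j.range := by
    intro a ha
    rw [← frattini_map_equiv eD] 
    exact Subgroup.mem_map_of_mem _ ha
  refine false_of_inverted_power hp2 hm j.range (hDp.of_equiv eD) (g := gP) ?_ ?_ ?_
    (d := eD d) (c := eD (res β₀ d₀)) (c₀ := eD d₀) rfl (Subtype.ext hdgp)
    (by rw [← map_mul]; exact hfr _ h4)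
  · refine Subgroup.mem_normalizer_fintype ?_
    rintro _ ⟨a, rfl⟩
    exact ⟨res α' a, Subtype.ext rfl⟩
  · rintro ⟨a, ha⟩
    apply hgE
    have : ((j a : P) : Ω) ∈ E := a.1.2
    rwa [ha] at this
  · rw [← hVcard]
    exact (Nat.card_congr (QuotientGroup.congr (frattini D) (frattini j.range) eD
      (frattini_map_equiv eD)).toEquiv).symm

end H67
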