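import Cfsg.Agent.S1896
import Cfsg.Agent.H31.MaxClassSectional
import Cfsg.Agent.H65.Dihedral
import Cfsg.Agent.H83.Metacyclic
import Cfsg.Agent.H85.Alperin
import Cfsg.Agent.H87.Essential
import Cfsg.Agent.H6.Basic
/-!
Saturated fusion systems on metacyclic 2-groups that are not of maximal class have no essential
subgroups.
-/
set_option autoImplicit false

namespace H67

open Cfsg

/-- Metacyclic groups have sectional rank at most two. -/
theorem sectional_of_metacyclic {G : Type*} [Group G] [Finite G] {p : ℕ} (hp : 0 < p)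
    (hm : Cfsg.IsMetacyclic G) : Cfsg.SectionalPRankLE p 2 G := by
  intro H N _ A _ hA
  have hH := H83.isMetacyclic_of_injective H.subtype H.subtype_injective hm
  have hQ := H83.isMetacyclic_of_surjective (QuotientGroup.mk' N) (QuotientGroup.mk'_surjective N) hH
  exact H83.card_le_sq_of_isMetacyclic hp
    (H83.isMetacyclic_of_injective A.subtype A.subtype_injective hQ)
    fun a => Subtype.ext (by simpa using hA a a.2)

/-- The facts about a homocyclic group of rank two and exponent `2 ^ (m + 1)` that are used. -/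
theorem homocyclic_facts {E : Type*} [Group E] (m : ℕ)
    (e : E ≃* Multiplicative (ZMod (2 ^ (m + 1))) × Multiplicative (ZMod (2 ^ (m + 1)))) :
    (∀ a b : E, a * b = b * a) ∧ (∀ a : E, a ^ 2 ^ (m + 1) = 1) ∧
      (∀ a : E, a ^ 2 ^ m = 1 → ∃ b : E, b ^ 2 = a) ∧ Nat.card E = (2 ^ (m + 1)) ^ 2 := by
  have key : ∀ a : ZMod (2 ^ (m + 1)), (2 ^ m : ℕ) • a = 0 → ∃ b : ZMod (2 ^ (m + 1)), 2 • b = a := by
    intro a h
    have h1 : ((2 ^ m * a.val : ℕ) : ZMod (2 ^ (m + 1))) = 0 := by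
      rw [Nat.cast_mul, ZMod.natCast_zmod_val, ← nsmul_eq_mul]
      exact h
    rw [ZMod.natCast_eq_zero_iff] at h1
    obtain ⟨c, hc⟩ := (Nat.mul_dvd_mul_iff_left (by positivity : 0 < 2 ^ m)).mp
      ((pow_succ 2 m).symm.dvd.trans h1)
    exact ⟨(c : ZMod (2 ^ (m + 1))), by
      rw [nsmul_eq_mul, ← Nat.cast_mul, ← hc, ZMod.natCast_zmod_val]⟩
  have hN : ∀ u : Multiplicative (ZMod (2 ^ (m + 1))), u ^ 2 ^ (m + 1) = 1 := fun u => by
    apply Multiplicative.toAdd.injective
    simp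
  refine ⟨fun a b => e.injective (by rw [map_mul, map_mul, mul_comm]), fun a => e.injective ?_,
    fun a ha => ?_, ?_⟩
  · rw [map_pow, map_one]
    exact Prod.ext (hN _) (hN _)
  · have h' : (e a) ^ 2 ^ m = 1 := by rw [← map_pow, ha, map_one]
    obtain ⟨b₁, h₁⟩ := key (e a).1.toAdd (by
      rw [← toAdd_pow, show (e a).1 ^ 2 ^ m = 1 from congrArg Prod.fst h', toAdd_one])
    obtain ⟨b₂, h₂⟩ := key (e a).2.toAdd (by
      rw [← toAdd_pow, show (e a).2 ^ 2 ^ m = 1 from congrArg Prod.snd h', toAdd_one])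
    refine ⟨e.symm (Multiplicative.ofAdd b₁, Multiplicative.ofAdd b₂), e.injective ?_⟩
    rw [map_pow, MulEquiv.apply_symm_apply]
    refine Prod.ext ?_ ?_ <;> apply Multiplicative.toAdd.injective
    · rw [Prod.pow_fst, toAdd_pow]; exact h₁
    · rw [Prod.pow_snd, toAdd_pow]; exact h₂
  · rw [Nat.card_congr e.toEquiv, Nat.card_prod]
    simp [sq]

/-- An involutory action on a homocyclic group of rank two that is nontrivial modulo squares
provides a dihedral subgroup of order eight. -/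
theorem exists_dihedral_eight {G : Type*} [Group G] [Finite G] (E : Subgroup G) (m : ℕ)
    (hcomm : ∀ a ∈ E, ∀ b ∈ E, a * b = b * a) (hexp : ∀ a ∈ E, a ^ 2 ^ (m + 1) = 1)
    (hsq : ∀ a ∈ E, a ^ 2 ^ m = 1 → ∃ b ∈ E, b ^ 2 = a)
    (hcard : Nat.card E = (2 ^ (m + 1)) ^ 2) {g x : G} (hg : g ∉ E) (hg2 : g * g ∈ E)
    (hconj : ∀ a ∈ E, g * a * g⁻¹ ∈ E) (hx : x ∈ E)
    (hns : ¬ ∃ b ∈ E, b ^ 2 = x⁻¹ * (g * x * g⁻¹)) :
    ∃ H : Subgroup G, Nat.card H = 2 ^ 3 ∧ ¬ IsMulCommutative H := by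
  set y := g * x * g⁻¹ with hy
  have hyE : y ∈ E := hconj x hx
  have hgy : g * y * g⁻¹ = x := by
    calc g * y * g⁻¹ = (g * g) * x * (g * g)⁻¹ := by rw [hy]; group
      _ = x := by rw [hcomm _ hg2 x hx, mul_inv_cancel_right]
  set v := x ^ 2 ^ m with hv
  set v' := y ^ 2 ^ m with hv'
  have hvv : v * v = 1 := by rw [hv, ← pow_add, ← two_mul, ← pow_succ']; exact hexp x hx
  have hvv' : v' * v' = 1 := by rw [hv', ← pow_add, ← two_mul, ← pow_succ']; exact hexp y hyE
  have hgv : g * v * g⁻¹ = v' := by rw [hv, hv', hy, conj_pow]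
  have hne : v ≠ v' := by
    intro e
    apply hns
    refine hsq _ (mul_mem (inv_mem hx) hyE) ?_
    rw [(show Commute x⁻¹ y from hcomm _ (inv_mem hx) _ hyE).mul_pow, inv_pow, ← hv, ← hv', e,
      inv_mul_cancel]
  have hv1 : v ≠ 1 := fun e => hne (by rw [← hgv, e, mul_one, mul_inv_cancel])
  have hv'1 : v' ≠ 1 := fun e => hv1 (by
    rw [← hgv] at e
    exact conj_eq_one_iff.mp e)
  -- orders and independence
  have hord : ∀ a ∈ E, a ^ 2 ^ m ≠ 1 → orderOf a = 2 ^ (m + 1) := fun a ha hne =>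
    orderOf_eq_prime_pow hne (hexp a ha)
  have hox : orderOf x = 2 ^ (m + 1) := hord x hx hv1
  have hoy : orderOf y = 2 ^ (m + 1) := hord y hyE hv'1
  have hdisj : Disjoint (Subgroup.zpowers x) (Subgroup.zpowers y) := by
    rw [disjoint_iff, Subgroup.eq_bot_iff_forall]
    intro w hw
    obtain ⟨hwx, hwy⟩ := Subgroup.mem_inf.mp hw
    by_contra hw1
    have hwE : w ∈ E := (Subgroup.zpowers_le.mpr hx) hwx
    obtain ⟨j, hj, hjo⟩ := (Nat.dvd_prime_pow Nat.prime_two).mp
      (orderOf_dvd_of_pow_eq_one (hexp w hwE))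
    obtain ⟨j, rfl⟩ : ∃ j', j = j' + 1 := Nat.exists_eq_succ_of_ne_zero fun h => hw1 (by
      rw [h, pow_zero] at hjo; exact orderOf_eq_one_iff.mp hjo)
    set u := w ^ 2 ^ j with hu
    have hu2 : u * u = 1 := by
      rw [hu, ← pow_add, ← two_mul, ← pow_succ', ← hjo, pow_orderOf_eq_one]
    have hu1 : u ≠ 1 := fun h => by
      have h1 := Nat.le_of_dvd (by positivity) (orderOf_dvd_of_pow_eq_one h)
      rw [hjo, pow_succ] at h1
      have := Nat.one_le_two_pow (n := j)
      omega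
    have huniq : ∀ a : G, orderOf a = 2 ^ (m + 1) → ∀ z ∈ Subgroup.zpowers a, z * z = 1 → z ≠ 1 →
        z = a ^ 2 ^ m := by
      intro a ha z hz hz2 hz1
      obtain ⟨i, rfl⟩ := Subgroup.mem_zpowers_iff.mp hz
      have h1 : ((2 ^ (m + 1) : ℕ) : ℤ) ∣ i + i := by
        rw [← ha]; exact orderOf_dvd_iff_zpow_eq_one.mpr (by rw [zpow_add]; exact hz2)
      have h2 : (2 ^ m : ℤ) ∣ i := by
        rw [← two_mul, Nat.cast_pow, pow_succ', Nat.cast_ofNat] at h1
        exact (Int.mul_dvd_mul_iff_left two_ne_zero).mp h1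
      obtain ⟨c, rfl⟩ := h2
      rcases Int.even_or_odd c with ⟨d, rfl⟩ | ⟨d, rfl⟩
      · refine absurd ?_ hz1
        apply orderOf_dvd_iff_zpow_eq_one.mp
        rw [ha]
        exact ⟨d, by push_cast; ring⟩
      · have hpow : a ^ ((2 : ℤ) ^ (m + 1) * d) = 1 := by
          apply orderOf_dvd_iff_zpow_eq_one.mp
          rw [ha]; exact ⟨d, by push_cast; ring⟩
        rw [show (2 : ℤ) ^ m * (2 * d + 1) = 2 ^ (m + 1) * d + (2 ^ m : ℕ) by push_cast; ring,
          zpow_add, hpow, one_mul, zpow_natCast]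
    exact hne ((huniq x hox u (pow_mem hwx _) hu2 hu1).symm.trans
      (huniq y hoy u (pow_mem hwy _) hu2 hu1))
  -- `x` and `y` generate `E`
  have hgen : ∀ a ∈ E, ∃ i j : ℤ, x ^ i * y ^ j = a := by
    let f : Subgroup.zpowers x × Subgroup.zpowers y → E := fun z =>
      ⟨(z.1 : G) * z.2, mul_mem ((Subgroup.zpowers_le.mpr hx) z.1.2)
        ((Subgroup.zpowers_le.mpr hyE) z.2.2)⟩
    have hf : Function.Injective f := fun a b e =>
      Subgroup.mul_injective_of_disjoint hdisj (congrArg Subtype.val e)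
    have hc : Nat.card (Subgroup.zpowers x × Subgroup.zpowers y) = Nat.card E := by
      rw [Nat.card_prod, Nat.card_zpowers, Nat.card_zpowers, hox, hoy, hcard, sq]
    intro a ha
    obtain ⟨⟨⟨_, i, rfl⟩, ⟨_, j, rfl⟩⟩, e⟩ := (hf.bijective_of_nat_card_le hc.ge).2 ⟨a, ha⟩
    exact ⟨i, j, congrArg Subtype.val e⟩
  -- correct `g` to an involution
  obtain ⟨i, j, hij⟩ := hgen _ hg2
  have hswap : ∀ i j : ℤ, g * (x ^ i * y ^ j) * g⁻¹ = y ^ i * x ^ j := by
    intro i j
    rw [← conj_mul, ← conj_zpow, ← conj_zpow, ← hy, hgy]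
  have hij' : x ^ (i - j) = y ^ (i - j) := by
    have h1 : g * (x ^ i * y ^ j) * g⁻¹ = x ^ i * y ^ j := by
      rw [hij]; group
    rw [hswap] at h1
    have c1 : Commute (x ^ j) (y ^ j) := (show Commute x y from hcomm _ hx _ hyE).zpow_zpow j j
    rw [zpow_sub, zpow_sub]
    rw [eq_comm, ← eq_mul_inv_iff_mul_eq] at h1
    rw [h1]
    calc y ^ i * x ^ j * (y ^ j)⁻¹ * (x ^ j)⁻¹ = y ^ i * (x ^ j * (y ^ j)⁻¹) * (x ^ j)⁻¹ := by group
      _ = y ^ i * ((y ^ j)⁻¹ * x ^ j) * (x ^ j)⁻¹ := by rw [c1.inv_right.eq]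
      _ = y ^ i * (y ^ j)⁻¹ := by group
  have hxij : x ^ i = x ^ j := by
    have h1 : x ^ (i - j) = 1 := by
      have : x ^ (i - j) ∈ Subgroup.zpowers x ⊓ Subgroup.zpowers y :=
        ⟨Subgroup.zpow_mem_zpowers _ _, hij' ▸ Subgroup.zpow_mem_zpowers _ _⟩
      rwa [disjoint_iff.mp hdisj, Subgroup.mem_bot] at this
    rwa [zpow_sub, mul_inv_eq_one] at h1
  have hyij : y ^ i = y ^ j := by
    rw [hy, conj_zpow, conj_zpow, hxij]
  set g' := g * (x ^ i)⁻¹ with hg'
  have hg'g : g' * g' = 1 := by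
    calc g' * g' = (g * x ^ i * g⁻¹)⁻¹ * (g * g) * (x ^ i)⁻¹ := by rw [hg']; group
      _ = (y ^ i)⁻¹ * (x ^ i * y ^ i) * (x ^ i)⁻¹ := by
        rw [← hij, ← hyij, ← conj_zpow, ← hy]
      _ = 1 := by
        rw [(((show Commute x y from hcomm _ hx _ hyE).zpow_zpow i i)).eq]
        group
  have hg'1 : g' ≠ 1 := fun e => hg (by
    rw [hg', mul_inv_eq_one] at e
    rw [e]; exact zpow_mem hx i)
  have hvE : v ∈ E := pow_mem hx _
  have hg'v : g' * v * g'⁻¹ = v' := by
    calc g' * v * g'⁻¹ = g * ((x ^ i)⁻¹ * v * x ^ i) * g⁻¹ := by rw [hg']; group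
      _ = g * v * g⁻¹ := by
        rw [hcomm _ (inv_mem (zpow_mem hx i)) _ hvE, inv_mul_cancel_right]
      _ = v' := hgv
  have ho : orderOf v = 2 := H65.two_iff.mpr ⟨hvv, hv1⟩
  have ho' : orderOf g' = 2 := H65.two_iff.mpr ⟨hg'g, hg'1⟩
  have hne' : v ≠ g' := fun e => hne (by rw [← hg'v, ← e, mul_inv_cancel_right])
  have hsqp : (v * g') ^ 2 = v * v' := by
    rw [← hg'v, sq, inv_eq_of_mul_eq_one_right hg'g]
    group
  have h4 : orderOf (v * g') = 2 ^ (1 + 1) := by
    refine orderOf_eq_prime_pow ?_ ?_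
    · rw [pow_one, hsqp]
      intro e
      exact hne ((mul_eq_one_iff_inv_eq.mp e) ▸ (inv_eq_of_mul_eq_one_right hvv).symm)
    · rw [pow_succ, pow_mul, pow_one, hsqp,
        (show Commute v v' from hcomm _ hvE _ (pow_mem hyE _)).mul_pow, sq, sq, hvv, hvv', one_mul]
  refine ⟨Subgroup.closure {v, g'}, ?_, fun hc => hne ?_⟩
  · rw [H65.card_closure_pair ho ho' hne', h4]
    norm_num
  · rw [← hg'v]
    have := hc.is_comm.comm (⟨g', Subgroup.subset_closure (by simp)⟩ : Subgroup.closure {v, g'})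
      ⟨v, Subgroup.subset_closure (by simp)⟩
    rw [show g' * v = v * g' from congrArg Subtype.val this, mul_inv_cancel_right]

variable {Ω : Type*} [Group Ω] {S : Subgroup Ω}

theorem nonabelian_of_map {G : Type*} [Group G] (H : Subgroup G) {a b : G} (ha : a ∈ H)
    (hb : b ∈ H) (h : a * b ≠ b * a) : ¬ IsMulCommutative H := fun hc =>
  h (congrArg Subtype.val (hc.is_comm.comm (⟨a, ha⟩ : H) ⟨b, hb⟩))

/-- A metacyclic 2-group with an essential subgroup has maximal class. -/
theorem maxClass_of_essential [Finite S] (hS : IsPGroup 2 S) (hm : Cfsg.IsMetacyclic S)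
    {F : Cfsg.FusionSystem S} {E : Subgroup Ω} (hE : F.IsEssential 2 E) (hne : E ≠ S) :
    H31.IsMaxClassTwo S := by
  haveI : Fact (Nat.Prime 2) := ⟨Nat.prime_two⟩
  haveI := H87.essential_finite hE
  have hES : E ≤ S := hE.1.1
  have hEm : Cfsg.IsMetacyclic E :=
    H83.isMetacyclic_of_injective (Subgroup.inclusion hES) (Subgroup.inclusion_injective hES) hm
  have hA : ¬ IsPGroup 2 (MulAut E) := fun h =>
    H85.not_isEssential_of_isPGroup (h.to_subgroup _) hE
  suffices ∃ H : Subgroup S, Nat.card H = 2 ^ 3 ∧ ¬ IsMulCommutative H by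
    obtain ⟨H, hH, hna⟩ := this
    exact H31.maxClassTwo_of_sectional hS (sectional_of_metacyclic two_pos hm) H hH hna
  have hEp : IsPGroup 2 E := hS.to_le hES
  rcases Cfsg.Agent.S1896.result hEp hEm hA with ⟨⟨q⟩⟩ | ⟨n, ⟨e⟩⟩
  · refine ⟨E.subgroupOf S, ?_, ?_⟩
    · rw [Nat.card_congr (Subgroup.subgroupOfEquivOfLe hES).toEquiv, Nat.card_congr q.toEquiv,
        Nat.card_eq_fintype_card, QuaternionGroup.card]
      norm_num
    · intro hc
      have := hc.is_comm.comm ((Subgroup.subgroupOfEquivOfLe hES).symm (q.symm (.a 1)))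
        ((Subgroup.subgroupOfEquivOfLe hES).symm (q.symm (.xa 0)))
      have h2 : (.a 1 * .xa 0 : QuaternionGroup 2) = .xa 0 * .a 1 :=
        q.symm.injective ((Subgroup.subgroupOfEquivOfLe hES).symm.injective
          (by simpa only [map_mul] using this))
      revert h2
      decide
  · rcases n with _ | m
    · exfalso
      apply hA
      have : Subsingleton E :=
        (Nat.card_eq_one_iff_unique.mp (by rw [Nat.card_congr e.toEquiv, Nat.card_prod]; simp)).1
      intro a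
      exact ⟨0, MulEquiv.ext fun w => Subsingleton.elim _ _⟩
    obtain ⟨hcomm, hexp, hsq, hcard⟩ := homocyclic_facts m e
    have hcommI : IsMulCommutative E := ⟨⟨hcomm⟩⟩
    -- an element of the normaliser inducing an involution
    have hlt : E < Cfsg.FusionSystem.normalizerIn S E :=
      H85.lt_normalizerIn hS (lt_of_le_of_ne hES hne)
    obtain ⟨g₀, hg₀, hg₀E⟩ := SetLike.exists_of_lt hlt
    obtain ⟨g₀S, g₀N⟩ := H85.mem_normalizerIn.mp hg₀
    obtain ⟨g, hgS, hgN, hgE, hg2⟩ : ∃ g, g ∈ S ∧ g ∈ Subgroup.normalizer (E : Set Ω) ∧ g ∉ E ∧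
        g * g ∈ E := by
      obtain ⟨k, hk⟩ := hS ⟨g₀, g₀S⟩
      have hk' : g₀ ^ 2 ^ k ∈ E := by
        rw [show g₀ ^ 2 ^ k = 1 from congrArg Subtype.val hk]; exact one_mem E
      have key : ∀ k : ℕ, g₀ ^ 2 ^ k ∈ E → ∃ j, g₀ ^ 2 ^ j ∉ E ∧ g₀ ^ 2 ^ j * g₀ ^ 2 ^ j ∈ E := by
        intro k
        induction k with
        | zero => intro h; exact absurd (by simpa using h) hg₀E
        | succ k ih =>
          intro h
          by_cases hk : g₀ ^ 2 ^ k ∈ E
          · exact ih hk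
          · exact ⟨k, hk, by rwa [← pow_add, ← two_mul, ← pow_succ']⟩
      obtain ⟨j, h1, h2⟩ := key k hk'
      exact ⟨_, pow_mem g₀S _, pow_mem g₀N _, h1, h2⟩
    have hconjE : ∀ a ∈ E, g * a * g⁻¹ ∈ E := fun a ha =>
      (Subgroup.mem_normalizer_iff.mp hgN a).mp ha
    -- it acts nontrivially modulo squares
    obtain ⟨x, hx, hns⟩ : ∃ x ∈ E, ¬ ∃ b ∈ E, b ^ 2 = x⁻¹ * (g * x * g⁻¹) := by
      by_contra hno
      push Not at hno
      let K : Subgroup (MulAut E) :=
        { carrier := {β | ∀ x : E, x⁻¹ * β x ∈ frattini E}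
          one_mem' := fun x => by simp
          mul_mem' := fun {β γ} hβ hγ x => by
            have := mul_mem (hγ x) (hβ (γ x))
            simpa [mul_assoc] using this
          inv_mem' := fun {β} hβ x => by
            have := inv_mem (hβ (β⁻¹ x))
            simpa using this }
      have hK : IsPGroup 2 K :=
        H87.isPGroup_of_trivial_mod_frattini hEp K fun β hβ => hβ
      let α : MulAut E :=
        { toFun := fun a => ⟨g * a * g⁻¹, hconjE a a.2⟩
          invFun := fun a => ⟨g⁻¹ * a * g, by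
            have := (Subgroup.mem_normalizer_iff.mp hgN (g⁻¹ * a * g)).mpr
              (by simp [mul_assoc])
            exact this⟩
          left_inv := fun a => Subtype.ext (by simp [mul_assoc])
          right_inv := fun a => Subtype.ext (by simp [mul_assoc])
          map_mul' := fun a b => Subtype.ext (by simp [mul_assoc]) }
      have hαK : α ∈ K := by
        intro a
        obtain ⟨b, hb, hb2⟩ := hno a a.2
        have e1 : a⁻¹ * α a = (⟨b, hb⟩ : E) ^ 2 := Subtype.ext (by simp [α, hb2])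
        rw [e1]
        exact H6.pow_prime_mem_frattini hEp _
      have hαF : α ∈ F.autGroup E := H85.autInducedBy_le_autGroup F hES
        (H85.mem_autInducedBy.mpr ⟨g, hgS, fun a => rfl⟩)
      have hαI := H87.essential_mem_inn hE K (hK.to_le inf_le_left)
        (fun β _ γ hγ _ a => by
          have h1 := hγ (β⁻¹ a)
          have h2 := H87.apply_mem_of_characteristic (R := frattini E) inferInstance β h1
          simpa using h2) hαK hαF
      have hα1 := H87.inn_eq_one_of_comm hcommI hαI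
      refine hgE (H87.essential_centric hE hgS fun a ha => ?_)
      have : g * a * g⁻¹ = a := congrArg Subtype.val (DFunLike.congr_fun hα1 ⟨a, ha⟩)
      exact (mul_inv_eq_iff_eq_mul.mp this).symm
    -- work inside `S`
    obtain ⟨H, hH, hna⟩ := exists_dihedral_eight (G := S) (E.subgroupOf S) m
      (g := ⟨g, hgS⟩) (x := ⟨x, hES hx⟩)
      (fun a ha b hb => Subtype.ext (show (a : Ω) * b = b * a from
        congrArg Subtype.val (hcomm (⟨(a : Ω), ha⟩ : E) ⟨(b : Ω), hb⟩)))
      (fun a ha => Subtype.ext (by simpa using congrArg Subtype.val (hexp ⟨(a : Ω), ha⟩)))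
      (fun a ha h => by
        obtain ⟨b, hb⟩ := hsq ⟨(a : Ω), ha⟩ (Subtype.ext (by simpa using congrArg Subtype.val h))
        exact ⟨⟨(b : Ω), hES b.2⟩, b.2, Subtype.ext (by simpa using congrArg Subtype.val hb)⟩)
      ((Nat.card_congr (Subgroup.subgroupOfEquivOfLe hES).toEquiv).trans hcard)
      hgE hg2 (fun a ha => hconjE _ ha) hx
      (fun ⟨b, hb, e⟩ => hns ⟨(b : Ω), hb, by simpa using congrArg Subtype.val e⟩)
    exact ⟨H, hH, hna⟩

/-- Off the maximal class and exceptional cases all saturated systems are inner. -/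
theorem inner_of_metacyclic [Finite S] (hS : IsPGroup 2 S) (hm : Cfsg.IsMetacyclic S)
    (hA : IsPGroup 2 (MulAut S)) (hmax : ¬ H31.IsMaxClassTwo S) {F : Cfsg.FusionSystem S}
    (hF : F.IsSaturated 2) : F = Cfsg.innerFusionSystem S := by
  haveI : Fact (Nat.Prime 2) := ⟨Nat.prime_two⟩
  refine H85.fusionSystem_le_antisymm (H85.le_of_essential hS hF _ ?_) ?_
  · rintro P (rfl | hP)
    · have h1 := (H85.isFullyAutomized_iff hS).1
        (H85.fullyAutomized_of_fullyNormalized hS hF (H85.fullyNormalized_top F))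
      rw [h1.2 _ le_rfl (hA.to_subgroup _) (H85.autInducedBy_le_autGroup F le_rfl)]
      exact H85.autInducedBy_le_autGroup _ le_rfl
    · by_cases hPS : P = S
      · exact absurd hP (H85.not_isEssential_of_isPGroup (by subst hPS; exact hA.to_subgroup _))
      · exact absurd (maxClass_of_essential hS hm hP hPS) hmax
  · intro P φ hφ
    obtain ⟨hP, g, hg, hgx⟩ := hφ
    exact H85.hom_congr (F.conj_mem hP hg) fun x => (hgx x).symm

end H67

namespace H67

open Cfsg

/-- A strongly closed metacyclic 2-subgroup lies in every essential subgroup, unless it is of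
maximal class. -/
theorem le_essential_of_stronglyClosed {Ω : Type*} [Group Ω] {S : Subgroup Ω} [Finite S]
    (hS : IsPGroup 2 S) {F : Cfsg.FusionSystem S} {P : Subgroup Ω} (hP : F.StronglyClosed P)
    (hm : Cfsg.IsMetacyclic P) (hmax : ¬ H31.IsMaxClassTwo P) {E : Subgroup Ω}
    (hE : F.IsEssential 2 E) : P ≤ E := by
  haveI : Fact (Nat.Prime 2) := ⟨Nat.prime_two⟩
  haveI := H87.essential_finite hE
  have hES : E ≤ S := hE.1.1
  haveI : Finite P := H85.finite_of_le hP.1
  by_contra hPE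
  have hEp : IsPGroup 2 E := hS.to_le hES
  have hPp : IsPGroup 2 P := hS.to_le hP.1
  have hPn : ∀ g ∈ S, ∀ a ∈ P, g * a * g⁻¹ ∈ P := fun g hg a ha => by
    simpa [Cfsg.conjHom] using hP.2 P le_rfl _ (F.conj_mem hP.1 hg) ⟨a, ha⟩
  -- an element of `P` normalising `E`, with square in `E`
  obtain ⟨g, hgP, hgN, hgE, hg2⟩ : ∃ g, g ∈ P ∧ g ∈ Subgroup.normalizer (E : Set Ω) ∧ g ∉ E ∧
      g * g ∈ E := by
    set W := E ⊔ P with hW
    have hWS : W ≤ S := sup_le hES hP.1
    haveI : Finite W := H85.finite_of_le hWS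
    have hnorm : E ≤ Subgroup.normalizer (P : Set Ω) := fun e he =>
      H85.mem_normalizer_of_conj fun a ha => hPn e (hES he) a ha
    obtain ⟨g₀, hg₀, hg₀E⟩ := SetLike.exists_of_lt (H85.lt_normalizerIn (hS.to_le hWS)
      (lt_of_le_of_ne le_sup_left fun h : E = W => hPE (h ▸ le_sup_right)))
    obtain ⟨g₀W, g₀N⟩ := H85.mem_normalizerIn.mp hg₀
    have : g₀ ∈ ((E ⊔ P : Subgroup Ω) : Set Ω) := g₀W
    rw [Subgroup.coe_mul_of_left_le_normalizer_right E P hnorm] at this
    obtain ⟨e, he, a, ha, rfl⟩ := Set.mem_mul.mp this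
    have haN : a ∈ Subgroup.normalizer (E : Set Ω) := by
      have := mul_mem (inv_mem (Subgroup.le_normalizer he)) g₀N
      rwa [inv_mul_cancel_left] at this
    have haE : a ∉ E := fun h => hg₀E (mul_mem he h)
    obtain ⟨k, hk⟩ := hPp ⟨a, ha⟩
    have key : ∀ k : ℕ, a ^ 2 ^ k ∈ E → ∃ j, a ^ 2 ^ j ∉ E ∧ a ^ 2 ^ j * a ^ 2 ^ j ∈ E := by
      intro k
      induction k with
      | zero => intro h; exact absurd (by simpa using h) haE
      | succ k ih =>
        intro h
        by_cases hk : a ^ 2 ^ k ∈ E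
        · exact ih hk
        · exact ⟨k, hk, by rwa [← pow_add, ← two_mul, ← pow_succ']⟩
    obtain ⟨j, h1, h2⟩ := key k (by
      rw [show a ^ 2 ^ k = 1 from congrArg Subtype.val hk]; exact one_mem E)
    exact ⟨_, pow_mem ha _, pow_mem haN _, h1, h2⟩
  have hgS := hP.1 hgP
  have hconjE : ∀ a ∈ E, g * a * g⁻¹ ∈ E := fun a ha =>
    (Subgroup.mem_normalizer_iff.mp hgN a).mp ha
  set α : MulAut E := Subgroup.normalizerMonoidHom E ⟨g, hgN⟩ with hα
  have hαv : ∀ a : E, ((α a : E) : Ω) = g * (a : Ω) * g⁻¹ := fun a => rfl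
  have hαF : α ∈ F.autGroup E := H85.autInducedBy_le_autGroup F hES
    (H85.mem_autInducedBy.mpr ⟨g, hgS, hαv⟩)
  set D : Subgroup E := P.subgroupOf E with hD
  have hβD : ∀ β ∈ F.autGroup E, ∀ d ∈ D, β d ∈ D := by
    intro β hβ d hd
    have h1 := hP.2 (P ⊓ E) inf_le_left _
      (H85.restrict ((H85.mem_autGroup hES).1 hβ) (inf_le_right (a := P))) ⟨d, hd, d.2⟩
    exact h1
  -- the automorphisms trivial modulo `D`
  let K₀ : Subgroup (MulAut E) :=
    { carrier := {β | ∀ a : E, a⁻¹ * β a ∈ D}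
      one_mem' := fun a => by simp
      mul_mem' := fun {β γ} hβ hγ a => by
        have := mul_mem (hγ a) (hβ (γ a))
        simpa [mul_assoc] using this
      inv_mem' := fun {β} hβ a => by
        have := inv_mem (hβ (β⁻¹ a))
        simpa using this }
  have hK₀D : ∀ β ∈ K₀, ∀ d ∈ D, β d ∈ D := fun β hβ d hd => by
    simpa using mul_mem hd (hβ d)
  let r : K₀ →* MulAut D := MonoidHom.mk' (fun β =>
    { toFun := fun d => ⟨β.1 d, hK₀D β.1 β.2 d d.2⟩
      invFun := fun d => ⟨(β.1)⁻¹ d, hK₀D _ (inv_mem β.2) d d.2⟩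
      left_inv := fun d => Subtype.ext (by simp)
      right_inv := fun d => Subtype.ext (by simp)
      map_mul' := fun d e => Subtype.ext (by simp) }) (fun β γ => MulEquiv.ext fun d => Subtype.ext rfl)
  have hαK : α ∈ K₀ := by
    intro a
    show (((a⁻¹ * α a : E) : E) : Ω) ∈ P
    rw [Subgroup.coe_mul, Subgroup.coe_inv, hαv,
      show (a : Ω)⁻¹ * (g * a * g⁻¹) = ((a : Ω)⁻¹ * g * (a : Ω)⁻¹⁻¹) * g⁻¹ by group]
    exact mul_mem (hPn _ (inv_mem (hES a.2)) g hgP) (inv_mem hgP)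
  have hkerp : IsPGroup 2 r.ker := by
    have h1 := H87.isPGroup_of_stabilizes D (hEp.to_subgroup D) (r.ker.map K₀.subtype)
      (by rintro β ⟨γ, -, rfl⟩; exact γ.2)
      (by
        rintro β ⟨γ, hγ, rfl⟩ d hd
        exact congrArg (fun e : MulAut D => ((e ⟨d, hd⟩ : D) : E)) (MonoidHom.mem_ker.mp hγ))
    exact h1.of_equiv (r.ker.equivMapOfInjective K₀.subtype K₀.subtype_injective).symm
  -- no normal 2-subgroup of `Aut D` contains the image of `α`
  have key : ∀ T : Subgroup (MulAut D), IsPGroup 2 T → T.Normal → r ⟨α, hαK⟩ ∉ T := by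
    intro T hT hTn hαT
    set K : Subgroup (MulAut E) := (T.comap r).map K₀.subtype with hK
    have hKp : IsPGroup 2 K := (hT.comap_of_ker_isPGroup r hkerp).map _
    obtain ⟨e, he⟩ := H87.essential_mem_inn hE K (hKp.to_le inf_le_left) (by
      rintro β hβ γ ⟨⟨γ', hγ'⟩, hγT, rfl⟩ -
      have hmem : β * γ' * β⁻¹ ∈ K₀ := fun a => by
        have := hβD β hβ _ (hγ' (β⁻¹ a))
        simpa using this
      refine ⟨⟨_, hmem⟩, ?_, rfl⟩
      let βD : MulAut D :=
        { toFun := fun d => ⟨β d, hβD β hβ d d.2⟩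
          invFun := fun d => ⟨β⁻¹ d, hβD _ (inv_mem hβ) d d.2⟩
          left_inv := fun d => Subtype.ext (by simp)
          right_inv := fun d => Subtype.ext (by simp)
          map_mul' := fun d e => Subtype.ext (by simp) }
      have e1 : r ⟨_, hmem⟩ = βD * r ⟨γ', hγ'⟩ * βD⁻¹ := MulEquiv.ext fun d => Subtype.ext rfl
      show r ⟨_, hmem⟩ ∈ T
      rw [e1]
      exact hTn.conj_mem _ hγT βD) ⟨⟨α, hαK⟩, hαT, rfl⟩ hαF
    refine hgE ?_
    have hc := H87.essential_centric hE (x := (e : Ω)⁻¹ * g) (mul_mem (inv_mem (hES e.2)) hgS)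
      fun a ha => by
        have h1 : (e : Ω) * a * (e : Ω)⁻¹ = g * a * g⁻¹ := by
          rw [← hαv ⟨a, ha⟩]
          exact congrArg (fun f : MulAut E => ((f ⟨a, ha⟩ : E) : Ω)) he
        calc a * ((e : Ω)⁻¹ * g) = (e : Ω)⁻¹ * ((e : Ω) * a * (e : Ω)⁻¹) * g := by group
          _ = (e : Ω)⁻¹ * g * a := by rw [h1]; group
    have := mul_mem e.2 hc
    rwa [mul_inv_cancel_left] at this
  have hDm : Cfsg.IsMetacyclic D :=
    H83.isMetacyclic_of_injective
      ((E.subtype.comp D.subtype).codRestrict P fun d => d.2)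
      (fun a b h => Subtype.ext (Subtype.ext (congrArg (Subtype.val (p := (· ∈ P))) h))) hm
  have hAD : ¬ IsPGroup 2 (MulAut D) := fun h =>
    key ⊤ (h.to_subgroup ⊤) inferInstance (Subgroup.mem_top _)
  apply hmax
  suffices ∃ H : Subgroup P, Nat.card H = 2 ^ 3 ∧ ¬ IsMulCommutative H by
    obtain ⟨H, hH, hna⟩ := this
    exact H31.maxClassTwo_of_sectional hPp (sectional_of_metacyclic two_pos hm) H hH hna
  let j : D →* P := (E.subtype.comp D.subtype).codRestrict P fun d => d.2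
  have hj : Function.Injective j := fun a b h =>
    Subtype.ext (Subtype.ext (congrArg (Subtype.val (p := (· ∈ P))) h))
  let eD : D ≃* j.range := MonoidHom.ofInjective hj
  rcases Cfsg.Agent.S1896.result (hEp.to_subgroup D) hDm hAD with ⟨⟨q⟩⟩ | ⟨n, ⟨e⟩⟩
  · refine ⟨j.range, ?_, ?_⟩
    · rw [← Nat.card_congr eD.toEquiv, Nat.card_congr q.toEquiv,
        Nat.card_eq_fintype_card, QuaternionGroup.card]
      norm_num
    · intro hc
      have h2 : (.a 1 * .xa 0 : QuaternionGroup 2) = .xa 0 * .a 1 :=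
        q.symm.injective (eD.injective (by
          simpa only [map_mul] using hc.is_comm.comm (eD (q.symm (.a 1))) (eD (q.symm (.xa 0)))))
      revert h2
      decide
  · rcases n with _ | m
    · exfalso
      apply hAD
      have : Subsingleton D :=
        (Nat.card_eq_one_iff_unique.mp (by rw [Nat.card_congr e.toEquiv, Nat.card_prod]; simp)).1
      intro a
      exact ⟨0, MulEquiv.ext fun w => Subsingleton.elim _ _⟩
    obtain ⟨hcomm, hexp, hsq, hcard⟩ := homocyclic_facts m e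
    obtain ⟨x, hns⟩ : ∃ x : D, ¬ ∃ b : D, b ^ 2 = x⁻¹ * r ⟨α, hαK⟩ x := by
      by_contra hno
      push Not at hno
      let T : Subgroup (MulAut D) :=
        { carrier := {β | ∀ a : D, a⁻¹ * β a ∈ frattini D}
          one_mem' := fun a => by simp
          mul_mem' := fun {β γ} hβ hγ a => by
            have := mul_mem (hγ a) (hβ (γ a))
            simpa [mul_assoc] using this
          inv_mem' := fun {β} hβ a => by
            have := inv_mem (hβ (β⁻¹ a))
            simpa using this }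
      refine key T (H87.isPGroup_of_trivial_mod_frattini (hEp.to_subgroup D) T fun β hβ => hβ)
        ⟨fun γ hγ β a => ?_⟩ fun a => ?_
      · have h1 := hγ (β⁻¹ a)
        have h2 := H87.apply_mem_of_characteristic (R := frattini D) inferInstance β h1
        simpa using h2
      · obtain ⟨b, hb⟩ := hno a
        rw [← hb]
        exact H6.pow_prime_mem_frattini (hEp.to_subgroup D) _
    have hgP' : g * g ∈ P := mul_mem hgP hgP
    refine exists_dihedral_eight j.range m (g := (⟨g, hgP⟩ : P)) (x := j x) ?_ ?_ ?_ ?_ ?_ ?_ ?_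
      ⟨x, rfl⟩ ?_
    · rintro _ ⟨a, rfl⟩ _ ⟨b, rfl⟩
      rw [← map_mul, ← map_mul, hcomm]
    · rintro _ ⟨a, rfl⟩
      rw [← map_pow, hexp, map_one]
    · rintro _ ⟨a, rfl⟩ h
      rw [← map_pow, ← map_one j] at h
      obtain ⟨b, hb⟩ := hsq a (hj h)
      exact ⟨j b, ⟨b, rfl⟩, by rw [← map_pow, hb]⟩
    · rw [← Nat.card_congr eD.toEquiv, hcard]
    · rintro ⟨d, hd⟩
      exact hgE (by
        have : ((j d : P) : Ω) ∈ E := d.1.2
        rwa [hd] at this)
    · exact ⟨⟨⟨g * g, hg2⟩, hgP'⟩, rfl⟩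
    · rintro _ ⟨a, rfl⟩
      exact ⟨r ⟨α, hαK⟩ a, rfl⟩
    · rintro ⟨_, ⟨b, rfl⟩, hb⟩
      apply hns
      refine ⟨b, hj ?_⟩
      rw [map_pow, hb]
      rfl

end H67
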