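import Mathlib

/-!
Monomial permutations of `m` blocks of size `p`, `m ≥ p`, and at most one further point.
-/
set_option autoImplicit false

namespace H67
namespace AltBlocks

open Equiv Equiv.Perm

variable (p k r : ℕ)

/-- Block indices. -/
abbrev Blk := ZMod p ⊕ Fin k

/-- Points. -/
abbrev Pt := (Blk p k × ZMod p) ⊕ Fin r

variable {p k r}

/-- A permutation of the blocks with multipliers. -/
def mon (σ : Perm (Blk p k)) (a : Blk p k → (ZMod p)ˣ) : Perm (Pt p k r) where
  toFun := Sum.map (fun q => (σ q.1, (a q.1 : ZMod p) * q.2)) id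
  invFun := Sum.map (fun q => (σ⁻¹ q.1, ((a (σ⁻¹ q.1))⁻¹ : (ZMod p)ˣ) * q.2)) id
  left_inv := by rintro (⟨i, y⟩ | u) <;> simp
  right_inv := by rintro (⟨i, y⟩ | u) <;> simp

@[simp] theorem mon_inl (σ : Perm (Blk p k)) (a : Blk p k → (ZMod p)ˣ) (i : Blk p k) (y : ZMod p) :
    mon (r := r) σ a (Sum.inl (i, y)) = Sum.inl (σ i, (a i : ZMod p) * y) := rfl

@[simp] theorem mon_inr (σ : Perm (Blk p k)) (a : Blk p k → (ZMod p)ˣ) (u : Fin r) :
    mon (r := r) σ a (Sum.inr u) = Sum.inr u := rfl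

theorem mon_mul (σ τ : Perm (Blk p k)) (a b : Blk p k → (ZMod p)ˣ) :
    mon (r := r) σ a * mon τ b = mon (σ * τ) (fun i => a (τ i) * b i) := by
  refine Equiv.ext ?_
  rintro (⟨i, y⟩ | u) <;> simp [mul_assoc]

theorem mon_one : mon (r := r) (1 : Perm (Blk p k)) 1 = 1 := by
  refine Equiv.ext ?_
  rintro (⟨i, y⟩ | u) <;> simp

/-- The torus. -/
def torus : (Blk p k → (ZMod p)ˣ) →* Perm (Pt p k r) where
  toFun a := mon 1 a
  map_one' := mon_one
  map_mul' a b := by rw [mon_mul]; rfl

theorem torus_apply (a : Blk p k → (ZMod p)ˣ) : torus (r := r) a = mon 1 a := rfl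

/-- Translations of the blocks. -/
def transl (v : Blk p k → ZMod p) : Perm (Pt p k r) where
  toFun := Sum.map (fun q => (q.1, q.2 + v q.1)) id
  invFun := Sum.map (fun q => (q.1, q.2 - v q.1)) id
  left_inv := by rintro (⟨i, y⟩ | u) <;> simp
  right_inv := by rintro (⟨i, y⟩ | u) <;> simp

@[simp] theorem transl_inl (v : Blk p k → ZMod p) (i : Blk p k) (y : ZMod p) :
    transl (r := r) v (Sum.inl (i, y)) = Sum.inl (i, y + v i) := rfl

@[simp] theorem transl_inr (v : Blk p k → ZMod p) (u : Fin r) :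
    transl (r := r) v (Sum.inr u) = Sum.inr u := rfl

theorem transl_add (v w : Blk p k → ZMod p) : transl (r := r) (v + w) = transl v * transl w := by
  refine Equiv.ext ?_
  rintro (⟨i, y⟩ | u) <;> simp [add_assoc, add_comm (v _)]

theorem transl_zero : transl (r := r) (0 : Blk p k → ZMod p) = 1 := by
  refine Equiv.ext ?_
  rintro (⟨i, y⟩ | u) <;> simp

theorem transl_nsmul (n : ℕ) (v : Blk p k → ZMod p) : transl (r := r) v ^ n = transl (n • v) := by
  induction n with
  | zero => simp [transl_zero]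
  | succ n ih => rw [pow_succ, ih, succ_nsmul, transl_add]

theorem transl_pow_p (v : Blk p k → ZMod p) : transl (r := r) v ^ p = 1 := by
  rw [transl_nsmul, show p • v = 0 from funext fun i => by simp, transl_zero]

theorem transl_inv (v : Blk p k → ZMod p) : (transl (r := r) v)⁻¹ = transl (-v) := by
  rw [inv_eq_iff_mul_eq_one, ← transl_add, add_neg_cancel, transl_zero]

/-- The group of translations of the blocks. -/
def Emod : Subgroup (Perm (Pt p k r)) where
  carrier := {σ | ∃ v, σ = transl v}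
  one_mem' := ⟨0, transl_zero.symm⟩
  mul_mem' := by rintro _ _ ⟨v, rfl⟩ ⟨w, rfl⟩; exact ⟨v + w, (transl_add v w).symm⟩
  inv_mem' := by rintro _ ⟨v, rfl⟩; exact ⟨-v, transl_inv v⟩

theorem mon_transl (σ : Perm (Blk p k)) (a : Blk p k → (ZMod p)ˣ) (v : Blk p k → ZMod p) :
    mon (r := r) σ a * transl v * (mon σ a)⁻¹ =
      transl (fun j => (a (σ⁻¹ j) : ZMod p) * v (σ⁻¹ j)) := by
  rw [mul_inv_eq_iff_eq_mul]
  refine Equiv.ext ?_
  rintro (⟨i, y⟩ | u) <;> simp [mul_add]

theorem mon_mem_normalizer [NeZero p] (σ : Perm (Blk p k)) (a : Blk p k → (ZMod p)ˣ) :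
    mon (r := r) σ a ∈ Subgroup.normalizer (Emod (p := p) (k := k) (r := r) : Set (Perm (Pt p k r))) := by
  refine Subgroup.mem_normalizer_iff.2 fun x => ⟨?_, ?_⟩
  · rintro ⟨v, rfl⟩
    exact ⟨_, mon_transl σ a v⟩
  · rintro ⟨w, hw⟩
    refine ⟨fun i => ((a i)⁻¹ : (ZMod p)ˣ) * w (σ i), ?_⟩
    have h : mon (r := r) σ a * transl (fun i => ((a i)⁻¹ : (ZMod p)ˣ) * w (σ i)) * (mon σ a)⁻¹ =
        mon σ a * x * (mon σ a)⁻¹ := by
      rw [hw, mon_transl]
      congr 1
      funext j
      simp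
    exact (mul_left_cancel (mul_right_cancel h)).symm

/-- The translation by `1` of block `i`. -/
def cyc (i : Blk p k) : Perm (Pt p k r) := transl (Pi.single i 1)

theorem cyc_pow_apply [NeZero p] (i : Blk p k) (y : ZMod p) :
    ((cyc (r := r) i) ^ y.val) (Sum.inl (i, 0)) = Sum.inl (i, y) := by
  rw [cyc, transl_nsmul, transl_inl]
  simp

theorem eq_mon_mul_transl [Fact p.Prime] (hr : r ≤ 1) {g : Perm (Pt p k r)}
    (hg : g ∈ Subgroup.normalizer (Emod (p := p) (k := k) (r := r) : Set (Perm (Pt p k r)))) :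
    ∃ σ a v, g = mon σ a * transl v ∧ ∀ i, g * cyc i * g⁻¹ = transl (Pi.single (σ i) (a i : ZMod p)) := by
  have hv : ∀ i, ∃ v, g * cyc i * g⁻¹ = transl v := fun i =>
    (Subgroup.mem_normalizer_iff.1 hg _).1 ⟨_, rfl⟩
  choose v hv using hv
  have hmove : ∀ i, ∃ j b, g (Sum.inl (i, 0)) = Sum.inl (j, b) ∧ v i j ≠ 0 ∧
      ∀ y, g (Sum.inl (i, y)) = Sum.inl (j, b + y * v i j) := by
    intro i
    have h1 : ∀ (n : ℕ) q, g ((cyc i ^ n) q) = transl (n • v i) (g q) := by
      intro n q
      rw [← Perm.mul_apply, ← Perm.mul_apply]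
      congr 1
      rw [← transl_nsmul, ← hv i, conj_pow, inv_mul_cancel_right]
    rcases hq : g (Sum.inl (i, 0)) with ⟨j, b⟩ | u
    · refine ⟨j, b, rfl, ?_, fun y => ?_⟩
      · intro h0
        have h2 := h1 1 (Sum.inl (i, 0))
        rw [pow_one, one_nsmul, hq, transl_inl, h0, add_zero, ← hq] at h2
        have h3 := g.injective h2
        simp [cyc] at h3
      · have h2 := h1 y.val (Sum.inl (i, 0))
        rw [cyc_pow_apply, hq, transl_inl] at h2
        rw [h2]
        simp
    · have h2 := h1 1 (Sum.inl (i, 0))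
      rw [pow_one, one_nsmul, hq, transl_inr, ← hq] at h2
      have h3 := g.injective h2
      simp [cyc] at h3
  choose s b hb hs hy using hmove
  have hinj : Function.Injective s := by
    intro i i' h
    have h1 := hy i' ((b i - b i') / v i' (s i'))
    rw [div_mul_cancel₀ _ (hs i'), add_sub_cancel, ← h, ← hb i] at h1
    exact (congrArg Prod.fst (Sum.inl.inj (g.injective h1))).symm
  let σ : Perm (Blk p k) := Equiv.ofBijective s (Finite.injective_iff_bijective.1 hinj)
  let a : Blk p k → (ZMod p)ˣ := fun i => Units.mk0 (v i (s i)) (hs i)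
  refine ⟨σ, a, fun i => b i / v i (s i), ?_, fun i => ?_⟩
  · refine Equiv.ext ?_
    rintro (⟨i, y⟩ | u)
    · rw [hy i y, Perm.mul_apply, transl_inl, mon_inl]
      show Sum.inl (s i, _) = Sum.inl (s i, v i (s i) * (y + b i / v i (s i)))
      rw [mul_add, mul_div_cancel₀ _ (hs i)]
      congr 2
      ring
    · rw [Perm.mul_apply, transl_inr, mon_inr]
      rcases hq : g (Sum.inr u) with ⟨j, c⟩ | u'
      · obtain ⟨i, rfl⟩ := (Finite.injective_iff_bijective.1 hinj).2 j
        have h1 := hy i ((c - b i) / v i (s i))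
        rw [div_mul_cancel₀ _ (hs i), add_sub_cancel, ← hq] at h1
        simp at h1
      · have : Subsingleton (Fin r) := Fin.subsingleton_iff_le_one.2 hr
        rw [Subsingleton.elim u' u]
  · rw [hv i]
    congr 1
    funext j
    obtain ⟨i', rfl⟩ := (Finite.injective_iff_bijective.1 hinj).2 j
    have hE := congrArg (fun f : Perm (Pt p k r) => f (g (Sum.inl (i', 0)))) (hv i)
    simp only [Perm.mul_apply, Perm.inv_def, Equiv.symm_apply_apply] at hE
    by_cases hii : i' = i
    · subst hii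
      simp [σ, a, Equiv.ofBijective]
    · rw [show (cyc (r := r) i) (Sum.inl (i', 0)) = Sum.inl (i', 0) by
        simp [cyc, Pi.single_eq_of_ne hii], hb, transl_inl] at hE
      have h0 : v i (s i') = 0 := by
        have := congrArg Prod.snd (Sum.inl.inj hE)
        simpa using this
      rw [h0]
      exact (Pi.single_eq_of_ne (M := fun _ : Blk p k => ZMod p)
        (show s i' ≠ σ i from fun h => hii (hinj h)) _).symm

theorem centralizer_Emod [Fact p.Prime] (hr : r ≤ 1) :
    Subgroup.centralizer ((Emod (p := p) (k := k) (r := r)) : Set (Perm (Pt p k r))) ≤ Emod := by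
  intro g hg
  have hc : ∀ x ∈ Emod (p := p) (k := k) (r := r), g * x * g⁻¹ = x := fun x hx => by
    rw [← Subgroup.mem_centralizer_iff.1 hg x hx, mul_inv_cancel_right]
  have hgN : g ∈ Subgroup.normalizer (Emod (p := p) (k := k) (r := r) : Set (Perm (Pt p k r))) := by
    refine Subgroup.mem_normalizer_iff.2 fun x => ⟨fun hx => by rwa [hc x hx], fun hx => ?_⟩
    have h1 := hc _ hx
    rwa [mul_left_cancel (mul_right_cancel h1)] at hx
  obtain ⟨σ, a, v, rfl, h⟩ := eq_mon_mul_transl hr hgN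
  have hσa : σ = 1 ∧ a = 1 := by
    have key : ∀ i, (Pi.single (σ i) (a i : ZMod p) : Blk p k → ZMod p) =
        Pi.single i (1 : ZMod p) := fun i => by
      have h1 := (h i).symm.trans (hc _ ⟨_, rfl⟩)
      funext j
      have h2 := congrArg (fun f : Perm (Pt p k r) => f (Sum.inl (j, 0))) h1
      simp only [cyc, transl_inl, Sum.inl.injEq, Prod.mk.injEq, zero_add, true_and] at h2
      exact h2
    have hσ : σ = 1 := Equiv.ext fun i => by
      by_contra hne
      have := congrFun (key i) (σ i)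
      rw [Pi.single_eq_same, Pi.single_eq_of_ne (show σ i ≠ i from hne)] at this
      exact (a i).ne_zero this
    refine ⟨hσ, funext fun i => Units.ext ?_⟩
    have := congrFun (key i) i
    rw [hσ, Perm.one_apply, Pi.single_eq_same, Pi.single_eq_same] at this
    exact this
  rw [hσa.1, hσa.2, mon_one, one_mul]
  exact ⟨v, rfl⟩

theorem transl_mem_alternating [Fact p.Prime] (hp2 : p ≠ 2) (v : Blk p k → ZMod p) :
    transl (r := r) v ∈ alternatingGroup (Pt p k r) := by
  rw [mem_alternatingGroup]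
  rcases Int.units_eq_one_or (sign (transl (r := r) v)) with h | h
  · exact h
  · have := congrArg sign (transl_pow_p (r := r) v)
    rw [map_pow, map_one, h, ((Fact.out : p.Prime).odd_of_ne_two hp2).neg_one_pow] at this
    exact absurd this (by decide)

/-- The sign of multiplication on `ZMod p`. -/
def chi [NeZero p] : (ZMod p)ˣ →* ℤˣ where
  toFun u := sign (u.mulLeft : Perm (ZMod p))
  map_one' := by
    rw [show ((1 : (ZMod p)ˣ).mulLeft : Perm (ZMod p)) = 1 from Equiv.ext fun x => one_mul x, map_one]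
  map_mul' u v := by
    rw [← map_mul]
    congr 1
    exact Equiv.ext fun x => mul_assoc (u : ZMod p) (v : ZMod p) x

theorem chi_generator [Fact p.Prime] (hp2 : p ≠ 2) {t : (ZMod p)ˣ}
    (ht : ∀ u : (ZMod p)ˣ, u ∈ Subgroup.zpowers t) : chi t = -1 := by
  have hp := (Fact.out : p.Prime)
  set f : Perm (ZMod p) := t.mulLeft with hf
  have hpow : ∀ n : ℤ, ∀ x, (f ^ n) x = ((t ^ n : (ZMod p)ˣ) : ZMod p) * x := by
    intro n x
    let F : (ZMod p)ˣ →* Perm (ZMod p) :=
      MonoidHom.mk' (fun u => u.mulLeft) fun u v =>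
        Equiv.ext fun x => mul_assoc (u : ZMod p) (v : ZMod p) x
    show (F t ^ n) x = _
    rw [← map_zpow]
    rfl
  have hmoved : ∀ x, f x ≠ x → x ≠ 0 := by
    rintro x hx rfl
    exact hx (mul_zero _)
  have hsupp : f.support = Finset.univ.erase 0 := by
    refine Finset.ext fun x => ?_
    simp only [mem_support, Finset.mem_erase, Finset.mem_univ, and_true]
    refine ⟨hmoved x, fun hx he => ?_⟩
    have h1 : (t : ZMod p) = 1 :=
      mul_right_cancel₀ hx ((show (t : ZMod p) * x = x from he).trans (one_mul x).symm)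
    have h2 : ∀ u : (ZMod p)ˣ, u = 1 := fun u => by
      obtain ⟨n, rfl⟩ := Subgroup.mem_zpowers_iff.1 (ht u)
      rw [Units.ext (show (t : ZMod p) = ((1 : (ZMod p)ˣ) : ZMod p) from h1), one_zpow]
    have h3 : Fintype.card (ZMod p)ˣ ≤ 1 := Fintype.card_le_one_iff.2 fun a b => by rw [h2 a, h2 b]
    rw [ZMod.card_units] at h3
    have := hp.two_le
    omega
  have hcyc : f.IsCycle := by
    have h1 : f 1 ≠ 1 := by
      have : (1 : ZMod p) ∈ f.support := by rw [hsupp]; simp
      exact mem_support.1 this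
    refine ⟨1, h1, fun x hx => ?_⟩
    obtain ⟨n, hn⟩ := Subgroup.mem_zpowers_iff.1 (ht (Units.mk0 x (hmoved x hx)))
    exact ⟨n, by rw [hpow, hn, mul_one]; rfl⟩
  show sign f = -1
  rw [hcyc.sign, hsupp, Finset.card_erase_of_mem (Finset.mem_univ _), Finset.card_univ, ZMod.card,
    Even.neg_one_pow]
  obtain ⟨c, hc⟩ := hp.odd_of_ne_two hp2
  exact ⟨c, by omega⟩

theorem sign_torus [NeZero p] (a : Blk p k → (ZMod p)ˣ) :
    sign (torus (r := r) a) = ∏ i, chi (a i) := by
  have : torus (r := r) a = Perm.sumCongr (Equiv.prodCongrRight fun i => (a i).mulLeft) 1 := by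
    refine Equiv.ext ?_
    rintro (⟨i, y⟩ | u) <;> simp [torus_apply] <;> rfl
  rw [this, sign_sumCongr, map_one, mul_one, sign_prodCongrRight]
  rfl

theorem exists_prod_sq [Fact p.Prime] (hp2 : p ≠ 2) {t : (ZMod p)ˣ}
    (ht : ∀ u : (ZMod p)ˣ, u ∈ Subgroup.zpowers t) {a : Blk p k → (ZMod p)ˣ}
    (ha : torus (r := r) a ∈ alternatingGroup (Pt p k r)) : ∃ m : ℤ, ∏ i, a i = t ^ (2 * m) := by
  rw [mem_alternatingGroup, sign_torus, ← map_prod] at ha
  obtain ⟨n, hn⟩ := Subgroup.mem_zpowers_iff.1 (ht (∏ i, a i))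
  rw [← hn, map_zpow, chi_generator hp2 ht] at ha
  rcases Int.even_or_odd n with ⟨m, rfl⟩ | hodd
  · exact ⟨m, by rw [← hn, two_mul]⟩
  · rw [hodd.neg_one_zpow] at ha
    exact absurd ha (by decide)

/-- The diagonal map on the first `p` blocks. -/
def diag (t : (ZMod p)ˣ) : Perm (Pt p k r) :=
  mon (Perm.sumCongr t.mulLeft 1) (Sum.elim (fun _ => t⁻¹) fun _ => 1)

theorem prod_diag [Fact p.Prime] (t : (ZMod p)ˣ) :
    ∏ i : Blk p k, Sum.elim (fun _ => t⁻¹) (fun _ => (1 : (ZMod p)ˣ)) i = t⁻¹ := by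
  rw [Fintype.prod_sum_type]
  simp only [Sum.elim_inl, Sum.elim_inr, Finset.prod_const_one, mul_one, Finset.prod_const,
    Finset.card_univ, ZMod.card]
  have h : (t⁻¹) ^ (p - 1) = 1 := by
    rw [← ZMod.card_units p]
    exact pow_card_eq_one
  have hp := (Fact.out : p.Prime).pos
  have h1 : (t⁻¹) ^ (p - 1 + 1) = t⁻¹ := by rw [pow_succ, h, one_mul]
  rwa [Nat.sub_add_cancel hp] at h1

theorem diag_inl_inl (t : (ZMod p)ˣ) (x y : ZMod p) :
    diag (k := k) (r := r) t (Sum.inl (Sum.inl x, y)) =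
      Sum.inl (Sum.inl ((t : ZMod p) * x), ((t⁻¹ : (ZMod p)ˣ) : ZMod p) * y) := rfl

theorem diag_inl_inr (t : (ZMod p)ˣ) (i : Fin k) (y : ZMod p) :
    diag (r := r) t (Sum.inl (Sum.inr i, y)) = Sum.inl (Sum.inr i, y) := by
  show Sum.inl (_, ((1 : (ZMod p)ˣ) : ZMod p) * y) = _
  rw [Units.val_one, one_mul]
  rfl

theorem diag_inr (t : (ZMod p)ˣ) (u : Fin r) :
    diag (k := k) t (Sum.inr u) = Sum.inr u := rfl

/-- A subgroup of the monomial normalizer containing the `p`-elements and the diagonal map is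
everything even. -/
theorem mem_of_closed [Fact p.Prime] (hp2 : p ≠ 2) (hr : r ≤ 1) {t : (ZMod p)ˣ}
    (ht : ∀ u : (ZMod p)ˣ, u ∈ Subgroup.zpowers t) (L : Subgroup (Perm (Pt p k r)))
    (hpel : ∀ g ∈ Subgroup.normalizer (Emod (p := p) (k := k) (r := r) : Set (Perm (Pt p k r))),
      g ∈ alternatingGroup (Pt p k r) → g ^ p = 1 → g ∈ L)
    (hconj : ∀ g ∈ Subgroup.normalizer (Emod (p := p) (k := k) (r := r) : Set (Perm (Pt p k r))),
      g ∈ alternatingGroup (Pt p k r) → ∀ l ∈ L, g * l * g⁻¹ ∈ L)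
    (hLe : ∀ l ∈ L, l ∈ alternatingGroup (Pt p k r))
    (hd : diag t ∈ L) (hde : diag (k := k) (r := r) t ∈ alternatingGroup (Pt p k r))
    {g : Perm (Pt p k r)}
    (hg : g ∈ Subgroup.normalizer (Emod (p := p) (k := k) (r := r) : Set (Perm (Pt p k r))))
    (hga : g ∈ alternatingGroup (Pt p k r)) : g ∈ L := by
  classical
  have hp := (Fact.out : p.Prime)
  have hp3 : 3 ≤ p := by have := hp.two_le; omega
  have hne : (t : ZMod p) ≠ 0 := t.ne_zero
  -- the permutations of blocks with a lift of product one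
  let M : Subgroup (Perm (Blk p k)) :=
  { carrier := {σ | ∃ a : Blk p k → (ZMod p)ˣ, ∏ i, a i = 1 ∧ mon σ a ∈ L}
    one_mem' := ⟨1, by simp, by rw [mon_one]; exact one_mem L⟩
    mul_mem' := by
      rintro σ τ ⟨a, ha, hσ⟩ ⟨b, hb, hτ⟩
      refine ⟨fun i => a (τ i) * b i, ?_, mon_mul σ τ a b ▸ mul_mem hσ hτ⟩
      rw [Finset.prod_mul_distrib, Equiv.prod_comp τ a, ha, hb, one_mul]
    inv_mem' := by
      rintro σ ⟨a, ha, hσ⟩
      refine ⟨fun i => (a (σ⁻¹ i))⁻¹, ?_, ?_⟩
      · rw [Finset.prod_inv_distrib, Equiv.prod_comp σ⁻¹ a, ha, inv_one]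
      · have h : mon (r := r) σ⁻¹ (fun i => (a (σ⁻¹ i))⁻¹) = (mon σ a)⁻¹ := by
          rw [eq_inv_iff_mul_eq_one, mon_mul, inv_mul_cancel, ← mon_one]
          congr 1
          funext i
          simp
        rw [h]
        exact inv_mem hσ }
  have heven : ∀ σ : Perm (Blk p k), ∃ a : Blk p k → (ZMod p)ˣ,
      mon (r := r) σ a ∈ alternatingGroup (Pt p k r) := by
    intro σ
    rcases Int.units_eq_one_or (sign (mon (r := r) σ 1)) with h | h
    · exact ⟨1, mem_alternatingGroup.2 h⟩
    · refine ⟨Pi.mulSingle (Sum.inl 0) t, ?_⟩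
      have h1 : mon (r := r) σ (Pi.mulSingle (Sum.inl 0) t) =
          mon σ 1 * torus (Pi.mulSingle (Sum.inl 0) t) := by
        rw [torus_apply, mon_mul, mul_one]
        congr 1
        funext i
        simp
      rw [mem_alternatingGroup, h1, map_mul, h, sign_torus, Finset.prod_eq_single (Sum.inl 0)]
      · rw [Pi.mulSingle_eq_same, chi_generator hp2 ht]; decide
      · intro i _ hi; rw [Pi.mulSingle_eq_of_ne hi, map_one]
      · intro h; exact absurd (Finset.mem_univ _) h
  have hMn : M.Normal := by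
    refine ⟨fun σ hσ s => ?_⟩
    obtain ⟨a, ha, hσL⟩ := hσ
    obtain ⟨c, hc⟩ := heven s
    have h1 := hconj _ (mon_mem_normalizer s c) hc _ hσL
    refine ⟨fun i => c (σ (s⁻¹ i)) * a (s⁻¹ i) * (c (s⁻¹ i))⁻¹, ?_, ?_⟩
    · rw [Finset.prod_mul_distrib, Finset.prod_mul_distrib, Finset.prod_inv_distrib,
        Equiv.prod_comp s⁻¹ (fun j => c (σ j)), Equiv.prod_comp σ c, Equiv.prod_comp s⁻¹ a,
        Equiv.prod_comp s⁻¹ c, ha, mul_one, mul_inv_cancel]
    · have he : mon (r := r) (s * σ * s⁻¹) (fun i => c (σ (s⁻¹ i)) * a (s⁻¹ i) * (c (s⁻¹ i))⁻¹) *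
          mon s c = mon s c * mon σ a := by
        rw [mon_mul, mon_mul, inv_mul_cancel_right]
        congr 1
        funext i
        simp
      rw [← eq_mul_inv_iff_mul_eq.2 he] at h1
      exact h1
  set c0 : Perm (Blk p k) := Perm.sumCongr (Equiv.addLeft 1) 1 with hc0
  have hc0M : c0 ∈ M := by
    refine ⟨1, by simp, hpel _ (mon_mem_normalizer _ _) ?_ ?_⟩
    · have hpow : mon (r := r) c0 1 ^ p = 1 := by
        have h : ∀ n : ℕ, mon (r := r) c0 1 ^ n =
            mon (Perm.sumCongr (Equiv.addLeft (n : ZMod p)) 1) 1 := by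
          intro n
          induction n with
          | zero =>
            rw [pow_zero, ← mon_one]
            congr 1
            refine Equiv.ext ?_
            rintro (x | x) <;> simp
          | succ n ih =>
            rw [pow_succ, ih, mon_mul, hc0, Perm.sumCongr_mul]
            congr 1
            · congr 1
              exact Equiv.ext fun x => by simp [add_assoc]
            · funext i; simp
        rw [h p, ← mon_one]
        congr 1
        refine Equiv.ext ?_
        rintro (x | x) <;> simp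
      rw [mem_alternatingGroup]
      rcases Int.units_eq_one_or (sign (mon (r := r) c0 1)) with h | h
      · exact h
      · have := congrArg sign hpow
        rw [map_pow, map_one, h, (hp.odd_of_ne_two hp2).neg_one_pow] at this
        exact absurd this (by decide)
    · have h : ∀ n : ℕ, ∀ q : Blk p k, (c0 ^ n) q =
          Sum.elim (fun x => Sum.inl ((n : ZMod p) + x)) (fun x => Sum.inr x) q := by
        intro n
        induction n with
        | zero => rintro (x | x) <;> simp
        | succ n ih =>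
          intro q
          rw [pow_succ', Perm.mul_apply, ih]
          cases q with
          | inl x => simp [hc0]; ring
          | inr x => simp [hc0]
      have hc0p : c0 ^ p = 1 := by
        refine Equiv.ext fun q => ?_
        rw [h]
        cases q <;> simp
      have h2 : ∀ n : ℕ, mon (r := r) c0 1 ^ n = mon (c0 ^ n) 1 := by
        intro n
        induction n with
        | zero => rw [pow_zero, pow_zero, mon_one]
        | succ n ih =>
          rw [pow_succ, ih, mon_mul, pow_succ]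
          congr 1
          funext i; simp
      rw [h2, hc0p, mon_one]
  have h012 : ∀ {u v : ℕ}, u < 3 → v < 3 → u ≠ v →
      (Sum.inl (u : ZMod p) : Blk p k) ≠ Sum.inl (v : ZMod p) := by
    intro u v hu hv huv h
    have h1 := congrArg ZMod.val (Sum.inl.inj h)
    rw [ZMod.val_natCast, ZMod.val_natCast, Nat.mod_eq_of_lt (hu.trans_le hp3),
      Nat.mod_eq_of_lt (hv.trans_le hp3)] at h1
    exact huv h1
  have hA : alternatingGroup (Blk p k) ≤ M := by
    set a0 : Blk p k := Sum.inl (0 : ℕ)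
    set a1 : Blk p k := Sum.inl (1 : ℕ)
    set a2 : Blk p k := Sum.inl (2 : ℕ)
    have h1 : c0 * swap a0 a1 * c0⁻¹ * (swap a0 a1)⁻¹ ∈ M := by
      rw [show c0 * swap a0 a1 * c0⁻¹ * (swap a0 a1)⁻¹ =
        c0 * (swap a0 a1 * c0⁻¹ * (swap a0 a1)⁻¹) by group]
      exact mul_mem hc0M (hMn.conj_mem _ (inv_mem hc0M) _)
    rw [← swap_apply_apply, swap_inv] at h1
    have e0 : c0 a0 = a1 := by simp [hc0, a0, a1]
    have e1 : c0 a1 = a2 := by simp [hc0, a1, a2, one_add_one_eq_two]
    rw [e0, e1] at h1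
    have h3 : IsThreeCycle (swap a1 a2 * swap a0 a1) := by
      rw [swap_comm a0 a1]
      exact isThreeCycle_swap_mul_swap_same (h012 (by omega) (by omega) (by omega))
        (h012 (by omega) (by omega) (by omega)) (h012 (by omega) (by omega) (by omega))
    rw [← closure_three_cycles_eq_alternating, Subgroup.closure_le]
    intro σ hσ
    obtain ⟨q, hq⟩ := isConj_iff.1 (isConj_iff_cycleType_eq.2
      ((show (swap a1 a2 * swap a0 a1).cycleType = {3} from h3).trans
        (show σ.cycleType = {3} from hσ).symm))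
    rw [← hq]
    exact hMn.conj_mem _ h1 _
  -- torus elements with product one
  let D : Subgroup (Blk p k → (ZMod p)ˣ) := L.comap (torus (r := r))
  have hpair : ∀ j l : Blk p k, j ≠ l → ∀ u : (ZMod p)ˣ,
      Pi.mulSingle j u * Pi.mulSingle l u⁻¹ ∈ D := by
    intro j l hjl
    obtain ⟨i, hij, hil⟩ : ∃ i : Blk p k, i ≠ j ∧ i ≠ l := by
      by_contra hh
      push Not at hh
      have : (Finset.univ : Finset (Blk p k)) ⊆ {j, l} := fun x _ => by
        by_cases h : x = j
        · simp [h]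
        · simp [hh x h]
      have := (Finset.card_le_card this).trans Finset.card_le_two
      simp at this
      omega
    have hgen : Pi.mulSingle j t * Pi.mulSingle l t⁻¹ ∈ D := by
      have hgaN : torus (r := r) (Pi.mulSingle i t * Pi.mulSingle j t) ∈
          alternatingGroup (Pt p k r) := by
        rw [mem_alternatingGroup, sign_torus]
        simp only [Pi.mul_apply, map_mul, Finset.prod_mul_distrib, ← map_prod]
        simp [chi_generator hp2 ht]
      have hσe : swap j l * swap i j ∈ alternatingGroup (Blk p k) := by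
        rw [mem_alternatingGroup, map_mul, sign_swap hjl, sign_swap hij]
        decide
      obtain ⟨a, -, hτ⟩ := hA hσe
      have h1 := mul_mem (hconj _ (mon_mem_normalizer 1 _) hgaN _ hτ) (inv_mem hτ)
      have he : torus (r := r) (Pi.mulSingle j t * Pi.mulSingle l t⁻¹) * mon (swap j l * swap i j) a *
          torus (Pi.mulSingle i t * Pi.mulSingle j t) =
          torus (Pi.mulSingle i t * Pi.mulSingle j t) * mon (swap j l * swap i j) a := by
        simp only [torus_apply, mon_mul, one_mul, mul_one]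
        congr 1
        funext q
        simp only [Perm.one_apply, Perm.mul_apply, Pi.mul_apply]
        by_cases q1 : q = i
        · subst q1
          rw [swap_apply_left, swap_apply_left]
          simp [hjl, hij, hil, hij.symm, hil.symm, hjl.symm, mul_comm]
        by_cases q2 : q = j
        · subst q2
          rw [swap_apply_right, swap_apply_of_ne_of_ne hij hil]
          simp [hjl, hij, hil, hij.symm, hil.symm, hjl.symm, mul_comm]
        by_cases q3 : q = l
        · subst q3
          rw [swap_apply_of_ne_of_ne hil.symm hjl.symm, swap_apply_right]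
          simp [hjl, hij, hil, hij.symm, hil.symm, hjl.symm, mul_comm]
        · rw [swap_apply_of_ne_of_ne q1 q2, swap_apply_of_ne_of_ne q2 q3]
          simp [q1, q2, q3]
      show torus (r := r) (Pi.mulSingle j t * Pi.mulSingle l t⁻¹) ∈ L
      rw [eq_mul_inv_iff_mul_eq.2 (eq_mul_inv_iff_mul_eq.2 he)]
      rw [show torus (Pi.mulSingle i t * Pi.mulSingle j t) * mon (swap j l * swap i j) a *
          (torus (r := r) (Pi.mulSingle i t * Pi.mulSingle j t))⁻¹ * (mon (swap j l * swap i j) a)⁻¹ =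
        mon 1 (Pi.mulSingle i t * Pi.mulSingle j t) * mon (swap j l * swap i j) a *
          (mon (r := r) 1 (Pi.mulSingle i t * Pi.mulSingle j t))⁻¹ *
          (mon (swap j l * swap i j) a)⁻¹ from rfl]
      exact h1
    intro u
    obtain ⟨n, rfl⟩ := Subgroup.mem_zpowers_iff.1 (ht u)
    have := zpow_mem hgen n
    rwa [mul_zpow, ← MonoidHom.mulSingle_apply, ← MonoidHom.mulSingle_apply, ← map_zpow, ← map_zpow,
      inv_zpow] at this
  have hone : ∀ b : Blk p k → (ZMod p)ˣ, ∏ i, b i = 1 → b ∈ D := by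
    intro b hb
    set i0 : Blk p k := Sum.inl 0
    have he : b = ∏ i, (Pi.mulSingle i (b i) * Pi.mulSingle i0 (b i)⁻¹) := by
      rw [Finset.prod_mul_distrib, Finset.univ_prod_mulSingle]
      have : ∏ i, Pi.mulSingle (M := fun _ : Blk p k => (ZMod p)ˣ) i0 (b i)⁻¹ =
          Pi.mulSingle i0 (∏ i, (b i)⁻¹) :=
        (map_prod (MonoidHom.mulSingle (fun _ : Blk p k => (ZMod p)ˣ) i0) _ _).symm
      rw [this, Finset.prod_inv_distrib, hb, inv_one, Pi.mulSingle_one, mul_one]
    rw [he]
    refine Subgroup.prod_mem _ fun i _ => ?_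
    by_cases hi : i = i0
    · rw [hi, ← Pi.mulSingle_mul, mul_inv_cancel, Pi.mulSingle_one]
      exact one_mem D
    · exact hpair i i0 hi _
  have hsq : ∀ m : ℤ, ∃ c ∈ D, ∏ i, c i = t ^ (2 * m) := by
    obtain ⟨u, hu, hud⟩ : ∃ c ∈ D, ∏ i, c i = t ^ (-2 : ℤ) := by
      set σh : Perm (Blk p k) := Perm.sumCongr t.mulLeft 1
      set ah : Blk p k → (ZMod p)ˣ := Sum.elim (fun _ => t⁻¹) fun _ => 1
      have h2 : σh * σh ∈ alternatingGroup (Blk p k) := by
        rw [mem_alternatingGroup, map_mul, Int.units_mul_self]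
      obtain ⟨a, ha, haL⟩ := hA h2
      refine ⟨fun i => ah (σh i) * ah i * (a i)⁻¹, ?_, ?_⟩
      · have h : mon (r := r) (σh * σh) a * torus (fun i => ah (σh i) * ah i * (a i)⁻¹) =
            diag t * diag t := by
          rw [diag, mon_mul, torus_apply, mon_mul, mul_one]
          congr 1
          funext i
          simp only [Perm.one_apply]
          rw [mul_comm (a i), inv_mul_cancel_right]
        show torus (r := r) (fun i => ah (σh i) * ah i * (a i)⁻¹) ∈ L
        rw [eq_inv_mul_iff_mul_eq.2 h]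
        exact mul_mem (inv_mem haL) (mul_mem hd hd)
      · rw [Finset.prod_mul_distrib, Finset.prod_mul_distrib, Finset.prod_inv_distrib, ha,
          Equiv.prod_comp σh ah, prod_diag, inv_one, mul_one, ← sq, ← zpow_natCast, inv_zpow']
        rfl
    intro m
    refine ⟨u ^ (-m), zpow_mem hu _, ?_⟩
    simp only [Pi.pow_apply]
    rw [Finset.prod_zpow, hud, ← zpow_mul]
    congr 1
    ring
  have hall : ∀ g, g ∈ Subgroup.normalizer (Emod (p := p) (k := k) (r := r) : Set (Perm (Pt p k r))) →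
      g ∈ alternatingGroup (Pt p k r) → ∀ σ a v, g = mon σ a * transl v → sign σ = 1 → g ∈ L := by
    intro g _ hga σ a v hge hσ
    obtain ⟨a', -, haL⟩ := hA (mem_alternatingGroup.2 hσ)
    have hv : transl (r := r) v ∈ L := hpel _
      (Subgroup.le_normalizer ⟨v, rfl⟩) (transl_mem_alternating hp2 v) (transl_pow_p v)
    have h : mon (r := r) σ a = mon σ a' * torus (fun i => (a' i)⁻¹ * a i) := by
      rw [torus_apply, mon_mul, mul_one]
      congr 1
      funext i
      simp
    have ha'e := hLe _ haL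
    rw [hge]
    refine mul_mem ?_ hv
    rw [h]
    refine mul_mem haL ?_
    · have hb : torus (r := r) (fun i => (a' i)⁻¹ * a i) ∈ alternatingGroup (Pt p k r) := by
        have h1 : mon (r := r) σ a ∈ alternatingGroup (Pt p k r) := by
          rw [hge] at hga
          simpa using mul_mem hga (inv_mem (transl_mem_alternating (r := r) hp2 v))
        rw [h] at h1
        simpa using mul_mem (inv_mem ha'e) h1
      obtain ⟨m, hm⟩ := exists_prod_sq hp2 ht hb
      obtain ⟨c, hc, hcm⟩ := hsq m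
      have : (fun i => (a' i)⁻¹ * a i) * c⁻¹ ∈ D := hone _ (by
        simp only [Pi.mul_apply, Pi.inv_apply]
        rw [Finset.prod_mul_distrib, Finset.prod_inv_distrib, hm, hcm, mul_inv_cancel])
      have := mul_mem this hc
      rwa [inv_mul_cancel_right] at this
  obtain ⟨σ, a, v, hge, -⟩ := eq_mon_mul_transl hr hg
  rcases Int.units_eq_one_or (sign σ) with hσ | hσ
  · exact hall g hg hga σ a v hge hσ
  · have h1 : diag t * g ∈ L := by
      refine hall _ (mul_mem (mon_mem_normalizer _ _) hg) (mul_mem hde hga) _ _ v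
        (by rw [hge, ← mul_assoc, diag, mon_mul]) ?_
      rw [map_mul, hσ, sign_sumCongr, map_one, mul_one]
      show chi t * -1 = 1
      rw [chi_generator hp2 ht]
      decide
    have := mul_mem (inv_mem hd) h1
    rwa [inv_mul_cancel_left] at this

/-- A Sylow subgroup of the first `p²` points times translations of the other blocks. -/
def Wmod : Subgroup (Perm (Pt p k r)) where
  carrier := {σ | ∃ (c : ZMod p) (v : Blk p k → ZMod p),
    σ = mon (Perm.sumCongr (Equiv.addLeft c) 1) 1 * transl v}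
  one_mem' := ⟨0, 0, by
    refine Equiv.ext ?_
    rintro (⟨i | i, y⟩ | u) <;> simp⟩
  mul_mem' := by
    rintro _ _ ⟨c, v, rfl⟩ ⟨d, w, rfl⟩
    refine ⟨c + d, fun i => Sum.elim (fun x => v (Sum.inl (d + x))) (fun x => v (Sum.inr x)) i + w i,
      ?_⟩
    refine Equiv.ext ?_
    rintro (⟨i | i, y⟩ | u) <;> simp [add_assoc, add_comm (v _)]
  inv_mem' := by
    rintro _ ⟨c, v, rfl⟩
    refine ⟨-c, fun i => -Sum.elim (fun x => v (Sum.inl (-c + x))) (fun x => v (Sum.inr x)) i, ?_⟩
    rw [inv_eq_iff_mul_eq_one]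
    refine Equiv.ext ?_
    rintro (⟨i | i, y⟩ | u) <;> simp

/-- The translations of the first `p²` points times translations of the other blocks. -/
def Rmod : Subgroup (Perm (Pt p k r)) where
  carrier := {σ | ∃ (c d : ZMod p) (w : Fin k → ZMod p),
    σ = mon (Perm.sumCongr (Equiv.addLeft c) 1) 1 * transl (Sum.elim (fun _ => d) w)}
  one_mem' := ⟨0, 0, 0, by
    refine Equiv.ext ?_
    rintro (⟨i | i, y⟩ | u) <;> simp⟩
  mul_mem' := by
    rintro _ _ ⟨c, d, w, rfl⟩ ⟨c', d', w', rfl⟩
    refine ⟨c + c', d' + d, w' + w, ?_⟩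
    refine Equiv.ext ?_
    rintro (⟨i | i, y⟩ | u) <;> simp [add_assoc]
  inv_mem' := by
    rintro _ ⟨c, d, w, rfl⟩
    refine ⟨-c, -d, -w, ?_⟩
    rw [inv_eq_iff_mul_eq_one]
    refine Equiv.ext ?_
    rintro (⟨i | i, y⟩ | u) <;> simp

theorem Emod_le_Wmod : Emod (p := p) (k := k) (r := r) ≤ Wmod := by
  rintro _ ⟨v, rfl⟩
  refine ⟨0, v, ?_⟩
  refine Equiv.ext ?_
  rintro (⟨i | i, y⟩ | u) <;> simp

theorem Rmod_le_Wmod : Rmod (p := p) (k := k) (r := r) ≤ Wmod := by
  rintro _ ⟨c, d, w, rfl⟩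
  exact ⟨c, _, rfl⟩

theorem Wmod_isPGroup : IsPGroup p (Wmod (p := p) (k := k) (r := r)) := by
  rintro ⟨σ, c, v, rfl⟩
  set σ : Perm (Pt p k r) := mon (Perm.sumCongr (Equiv.addLeft c) 1) 1 * transl v
  have h : ∀ n : ℕ, ∃ u : Blk p k → ZMod p,
      σ ^ n = mon (Perm.sumCongr (Equiv.addLeft ((n : ZMod p) * c)) 1) 1 * transl u := by
    intro n
    induction n with
    | zero =>
      refine ⟨0, ?_⟩
      refine Equiv.ext ?_
      rintro (⟨i | i, y⟩ | u) <;> simp
    | succ n ih =>
      obtain ⟨u, hu⟩ := ih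
      refine ⟨fun i => Sum.elim (fun x => u (Sum.inl (c + x))) (fun x => u (Sum.inr x)) i + v i, ?_⟩
      rw [pow_succ, hu]
      refine Equiv.ext ?_
      rintro (⟨i | i, y⟩ | w) <;> simp [σ, add_assoc, add_mul, add_comm (u _)]
  obtain ⟨u, hu⟩ := h p
  refine ⟨2, Subtype.ext ?_⟩
  show σ ^ p ^ 2 = 1
  rw [sq, pow_mul, hu]
  have : mon (r := r) (Perm.sumCongr (Equiv.addLeft ((p : ZMod p) * c)) 1 : Perm (Blk p k)) 1 = 1 := by
    refine Equiv.ext ?_
    rintro (⟨i | i, y⟩ | w) <;> simp
  rw [this, one_mul, transl_pow_p]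

/-- A transvection on the first `p²` points. -/
def shear (c : ZMod p) : Perm (Pt p k r) where
  toFun := Sum.map (fun q => (Sum.map (fun x => x + c * q.2) id q.1, q.2)) id
  invFun := Sum.map (fun q => (Sum.map (fun x => x - c * q.2) id q.1, q.2)) id
  left_inv := by rintro (⟨i | i, y⟩ | u) <;> simp
  right_inv := by rintro (⟨i | i, y⟩ | u) <;> simp

@[simp] theorem shear_inl_inl (c x y : ZMod p) :
    shear (k := k) (r := r) c (Sum.inl (Sum.inl x, y)) = Sum.inl (Sum.inl (x + c * y), y) := rfl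

@[simp] theorem shear_inl_inr (c : ZMod p) (i : Fin k) (y : ZMod p) :
    shear (r := r) c (Sum.inl (Sum.inr i, y)) = Sum.inl (Sum.inr i, y) := rfl

@[simp] theorem shear_inr (c : ZMod p) (u : Fin r) :
    shear (k := k) c (Sum.inr u) = Sum.inr u := rfl

theorem shear_pow_p (c : ZMod p) : shear (k := k) (r := r) c ^ p = 1 := by
  have h : ∀ n : ℕ, shear (k := k) (r := r) c ^ n = shear ((n : ZMod p) * c) := by
    intro n
    induction n with
    | zero =>
      refine Equiv.ext ?_
      rintro (⟨i | i, y⟩ | u) <;> simp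
    | succ n ih =>
      rw [pow_succ, ih]
      refine Equiv.ext ?_
      rintro (⟨i | i, y⟩ | u) <;> simp [add_mul] <;> ring
  rw [h]
  refine Equiv.ext ?_
  rintro (⟨i | i, y⟩ | u) <;> simp

theorem shear_normalizes [NeZero p] (c : ZMod p) :
    shear c ∈ Subgroup.normalizer (Rmod (p := p) (k := k) (r := r) : Set (Perm (Pt p k r))) := by
  have h : ∀ c : ZMod p, ∀ x ∈ Rmod (p := p) (k := k) (r := r), shear c * x * (shear c)⁻¹ ∈ Rmod := by
    rintro c _ ⟨a, d, w, rfl⟩
    refine ⟨a + c * d, d, w, ?_⟩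
    rw [mul_inv_eq_iff_eq_mul]
    refine Equiv.ext ?_
    rintro (⟨i | i, y⟩ | u) <;> simp <;> ring
  refine Subgroup.mem_normalizer_iff.2 fun x => ⟨h c x, fun hx => ?_⟩
  have h1 := h (-c) _ hx
  have h2 : shear (k := k) (r := r) (-c) = (shear c)⁻¹ := by
    rw [eq_inv_iff_mul_eq_one]
    refine Equiv.ext ?_
    rintro (⟨i | i, y⟩ | u) <;> simp
  simpa [h2, mul_assoc] using h1

/-- A transvection in `Emod`. -/
def shear' (c : ZMod p) : Perm (Pt p k r) := transl (Sum.elim (fun x => c * x) 0)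

theorem shear'_normalizes [NeZero p] (c : ZMod p) :
    shear' c ∈ Subgroup.normalizer (Rmod (p := p) (k := k) (r := r) : Set (Perm (Pt p k r))) := by
  have h : ∀ c : ZMod p, ∀ x ∈ Rmod (p := p) (k := k) (r := r),
      shear' c * x * (shear' c)⁻¹ ∈ Rmod := by
    rintro c _ ⟨a, d, w, rfl⟩
    refine ⟨a, d + c * a, w, ?_⟩
    rw [mul_inv_eq_iff_eq_mul]
    refine Equiv.ext ?_
    rintro (⟨i | i, y⟩ | u) <;> simp [shear'] <;> ring
  refine Subgroup.mem_normalizer_iff.2 fun x => ⟨h c x, fun hx => ?_⟩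
  have h1 := h (-c) _ hx
  have h2 : shear' (k := k) (r := r) (-c) = (shear' c)⁻¹ := by
    rw [eq_inv_iff_mul_eq_one]
    refine Equiv.ext ?_
    rintro (⟨i | i, y⟩ | u) <;> simp [shear']
  simpa [h2, mul_assoc] using h1

theorem diag_eq [Fact p.Prime] (t : (ZMod p)ˣ) :
    diag (k := k) (r := r) t = shear (t : ZMod p) * shear' (-((t⁻¹ : (ZMod p)ˣ) : ZMod p)) *
      shear (t : ZMod p) * (shear (-1) * shear' 1 * shear (-1)) := by
  have ht : (t : ZMod p) ≠ 0 := t.ne_zero
  refine Equiv.ext ?_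
  rintro (⟨i | i, y⟩ | u) <;> simp [-ZMod.inv_coe_unit, diag_inl_inl, diag_inl_inr, diag_inr, shear'] <;> field_simp <;> ring_nf <;> simp

theorem diag_normalizes_Wmod [Fact p.Prime] (t : (ZMod p)ˣ) :
    diag t ∈ Subgroup.normalizer (Wmod (p := p) (k := k) (r := r) : Set (Perm (Pt p k r))) := by
  have h : ∀ t : (ZMod p)ˣ, ∀ x ∈ Wmod (p := p) (k := k) (r := r), diag t * x * (diag t)⁻¹ ∈ Wmod := by
    rintro t _ ⟨c, v, rfl⟩
    refine ⟨(t : ZMod p) * c, fun i => Sum.elim
      (fun x => ((t⁻¹ : (ZMod p)ˣ) : ZMod p) * v (Sum.inl (((t⁻¹ : (ZMod p)ˣ) : ZMod p) * x)))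
      (fun x => v (Sum.inr x)) i, ?_⟩
    rw [mul_inv_eq_iff_eq_mul]
    refine Equiv.ext ?_
    rintro (⟨i | i, y⟩ | u) <;> simp [-ZMod.inv_coe_unit, diag_inl_inl, diag_inl_inr, diag_inr, mul_add]
  refine Subgroup.mem_normalizer_iff.2 fun x => ⟨h t x, fun hx => ?_⟩
  have h1 := h t⁻¹ _ hx
  have h2 : diag (k := k) (r := r) t⁻¹ = (diag t)⁻¹ := by
    rw [eq_inv_iff_mul_eq_one]
    refine Equiv.ext ?_
    rintro (⟨i | i, y⟩ | u)
    · rw [Perm.mul_apply, diag_inl_inl, diag_inl_inl, Perm.one_apply]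
      simp [-ZMod.inv_coe_unit]
    · rw [Perm.mul_apply, diag_inl_inr, diag_inl_inr]; rfl
    · rfl
  simpa [h2, mul_assoc] using h1

theorem centralizer_Rmod [Fact p.Prime] (hr : r ≤ 1) :
    Subgroup.centralizer ((Rmod (p := p) (k := k) (r := r)) : Set (Perm (Pt p k r))) ≤ Rmod := by
  intro g hg
  have hc : ∀ (a d : ZMod p) (w : Fin k → ZMod p) q,
      g ((mon (r := r) (Perm.sumCongr (Equiv.addLeft a) 1) 1 * transl (Sum.elim (fun _ => d) w) :
          Perm (Pt p k r)) q) =
        (mon (r := r) (Perm.sumCongr (Equiv.addLeft a) 1) 1 * transl (Sum.elim (fun _ => d) w) :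
          Perm (Pt p k r)) (g q) := by
    intro a d w q
    rw [← Perm.mul_apply, ← Perm.mul_apply, Subgroup.mem_centralizer_iff.1 hg _ ⟨a, d, w, rfl⟩]
  have hp1 : (1 : ZMod p) ≠ 0 := one_ne_zero
  -- the first square
  obtain ⟨x0, y0, h0⟩ : ∃ x0 y0, g (Sum.inl (Sum.inl 0, 0)) = Sum.inl (Sum.inl x0, y0) := by
    rcases hq : g (Sum.inl (Sum.inl 0, 0)) with ⟨x | x, y⟩ | u
    · exact ⟨x, y, rfl⟩
    all_goals
      have h1 := hc 1 0 0 (Sum.inl (Sum.inl 0, 0))
      rw [hq] at h1
      simp at h1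
      rw [← hq] at h1
      have h2 := g.injective h1
      simp at h2
  have hsq : ∀ x y, g (Sum.inl (Sum.inl x, y)) = Sum.inl (Sum.inl (x + x0), y + y0) := by
    intro x y
    have h1 := hc x y 0 (Sum.inl (Sum.inl 0, 0))
    rw [h0] at h1
    simpa [add_comm y0] using h1
  -- the other blocks
  have hblk : ∀ j : Fin k, ∃ b, ∀ y, g (Sum.inl (Sum.inr j, y)) = Sum.inl (Sum.inr j, y + b) := by
    intro j
    rcases hq : g (Sum.inl (Sum.inr j, 0)) with ⟨x | x, b⟩ | u
    · have h1 := hc 0 0 (Pi.single j 1) (Sum.inl (Sum.inr j, 0))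
      rw [hq] at h1
      simp at h1
      rw [← hq] at h1
      have h2 := g.injective h1
      simp at h2
    · by_cases hxj : x = j
      · subst hxj
        refine ⟨b, fun y => ?_⟩
        have h1 := hc 0 0 (Pi.single x y) (Sum.inl (Sum.inr x, 0))
        rw [hq] at h1
        simpa [add_comm b] using h1
      · have h1 := hc 0 0 (Pi.single j 1) (Sum.inl (Sum.inr j, 0))
        rw [hq] at h1
        simp [Pi.single_eq_of_ne hxj] at h1
        rw [← hq] at h1
        have h2 := g.injective h1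
        simp at h2
    · have h1 := hc 0 0 (Pi.single j 1) (Sum.inl (Sum.inr j, 0))
      rw [hq] at h1
      simp at h1
      rw [← hq] at h1
      have h2 := g.injective h1
      simp at h2
  choose b hb using hblk
  refine ⟨x0, y0, b, Equiv.ext ?_⟩
  rintro (⟨i | i, y⟩ | u)
  · rw [hsq]; simp [add_comm i]
  · rw [hb]; simp
  · rw [Perm.mul_apply, transl_inr, mon_inr]
    rcases hq : g (Sum.inr u) with ⟨x | x, y⟩ | u'
    · have h1 := hsq (x - x0) (y - y0)
      rw [sub_add_cancel, sub_add_cancel, ← hq] at h1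
      simp at h1
    · have h1 := hb x (y - b x)
      rw [sub_add_cancel, ← hq] at h1
      simp at h1
    · have : Subsingleton (Fin r) := Fin.subsingleton_iff_le_one.2 hr
      rw [Subsingleton.elim u' u]

end AltBlocks
end H67
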