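import Mathlib
import Cfsg.Agent.H85.Basic

/-!
The Sylow subgroups of an alternating group have no proper strongly closed subgroups.
-/
set_option autoImplicit false

namespace H67
namespace AltStrong

open Cfsg Cfsg.FusionSystem Equiv Equiv.Perm

variable {α : Type*} [Fintype α] [DecidableEq α] {p : ℕ} [Fact p.Prime]

theorem pgroup_of_commute {G : Type*} [Group G] {a b : G} (hab : Commute a b) {i j : ℕ}
    (ha : a ^ p ^ i = 1) (hb : b ^ p ^ j = 1) :
    IsPGroup p (Subgroup.zpowers a ⊔ Subgroup.zpowers b : Subgroup G) := by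
  have h1 : ∀ {c : G} {m : ℕ}, c ^ p ^ m = 1 → IsPGroup p (Subgroup.zpowers c) := by
    rintro c m hc ⟨_, z, rfl⟩
    exact ⟨m, Subtype.ext (show (c ^ z) ^ p ^ m = 1 by
      rw [← zpow_natCast, ← zpow_mul, mul_comm, zpow_mul, zpow_natCast, hc, one_zpow])⟩
  refine (h1 ha).to_sup_of_normal_right' (h1 hb) ?_
  intro x hx
  rw [Subgroup.mem_zpowers_iff] at hx
  obtain ⟨z, rfl⟩ := hx
  refine Subgroup.mem_normalizer_iff.2 fun y => ?_
  constructor
  · rintro ⟨w, rfl⟩
    exact ⟨w, by simp only; rw [(hab.zpow_zpow z w).eq, mul_inv_cancel_right]⟩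
  · rintro ⟨w, hw⟩
    refine ⟨w, ?_⟩
    have hw' : y = (a ^ z)⁻¹ * b ^ w * a ^ z := by simp only at hw; rw [hw]; group
    simp only
    rw [hw', mul_assoc, ← (hab.zpow_zpow z w).eq, inv_mul_cancel_left]

/-- All conjugates in the Sylow subgroup lie in `X`. -/
def Good (S : Sylow p (alternatingGroup α)) (X : Subgroup (alternatingGroup α)) (x : Perm α) :
    Prop :=
  ∀ g : alternatingGroup α, ∀ h : x ∈ alternatingGroup α,
    g * ⟨x, h⟩ * g⁻¹ ∈ (S : Subgroup (alternatingGroup α)) → g * ⟨x, h⟩ * g⁻¹ ∈ X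

variable {S : Sylow p (alternatingGroup α)} {X : Subgroup (alternatingGroup α)}

theorem good_of_mem (hX : (groupFusionSystem (S : Subgroup (alternatingGroup α))).StronglyClosed X)
    {x : alternatingGroup α} (hx : x ∈ X) : Good S X x := by
  intro g _ hg
  set R := Subgroup.zpowers x
  have hRX : R ≤ X := Subgroup.zpowers_le.2 hx
  have hval : ∀ y : R, g * (y : alternatingGroup α) * g⁻¹ ∈ (S : Subgroup (alternatingGroup α)) := by
    rintro ⟨_, z, rfl⟩
    show g * x ^ z * g⁻¹ ∈ _
    rw [← conj_zpow]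
    exact zpow_mem hg z
  have := hX.2 R hRX (conjHom R g) ⟨hRX.trans hX.1, hval, g, fun _ => rfl⟩
    ⟨x, Subgroup.mem_zpowers x⟩
  exact this

theorem mem_of_good (hx : ∀ x : Perm α, (∃ k, x ^ p ^ k = 1) → x ∈ alternatingGroup α →
    Good S X x) (hX : X ≤ (S : Subgroup (alternatingGroup α))) :
    X = (S : Subgroup (alternatingGroup α)) := by
  refine le_antisymm hX fun s hs => ?_
  obtain ⟨k, hk⟩ := S.2 ⟨s, hs⟩
  have h := hx (s : Perm α) ⟨k, congrArg (fun t : ↥(S : Subgroup (alternatingGroup α)) =>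
    ((t : alternatingGroup α) : Perm α)) hk⟩ s.2 1 s.2
  simpa [hs] using h

theorem good_mul {a b : Perm α} (ha : Good S X a) (hb : Good S X b) (hae : a ∈ alternatingGroup α)
    (hbe : b ∈ alternatingGroup α) (hP : IsPGroup p (Subgroup.zpowers a ⊔ Subgroup.zpowers b :
      Subgroup (Perm α)))
    (hX : (groupFusionSystem (S : Subgroup (alternatingGroup α))).StronglyClosed X) :
    Good S X (a * b) := by
  set P : Subgroup (alternatingGroup α) :=
    (Subgroup.zpowers a ⊔ Subgroup.zpowers b).subgroupOf (alternatingGroup α)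
  have hP' : IsPGroup p P := hP.comap_of_injective _ Subtype.val_injective
  obtain ⟨T, hT⟩ := hP'.exists_le_sylow
  obtain ⟨g, hg⟩ := MulAction.exists_smul_eq (alternatingGroup α) T S
  have hmem : ∀ y ∈ P, g * y * g⁻¹ ∈ (S : Subgroup (alternatingGroup α)) := by
    intro y hy
    rw [← hg]
    exact Subgroup.mem_map_of_mem _ (hT hy)
  have h1 := ha g hae (hmem _ (Subgroup.mem_subgroupOf.2
    ((le_sup_left : Subgroup.zpowers a ≤ _) (Subgroup.mem_zpowers a))))
  have h2 := hb g hbe (hmem _ (Subgroup.mem_subgroupOf.2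
    ((le_sup_right : Subgroup.zpowers b ≤ _) (Subgroup.mem_zpowers b))))
  have h3 : g * (⟨a, hae⟩ * ⟨b, hbe⟩) * g⁻¹ ∈ X := by
    rw [show g * ((⟨a, hae⟩ : alternatingGroup α) * ⟨b, hbe⟩) * g⁻¹ =
      (g * ⟨a, hae⟩ * g⁻¹) * (g * ⟨b, hbe⟩ * g⁻¹) by group]
    exact mul_mem h1 h2
  intro k h hk
  have h4 : Good S X (((g * (⟨a, hae⟩ * ⟨b, hbe⟩) * g⁻¹ : alternatingGroup α)) : Perm α) :=
    good_of_mem hX h3
  have h5 := h4 (k * g⁻¹) (Subtype.prop _)
  rw [Subtype.coe_eta, show k * g⁻¹ * (g * ((⟨a, hae⟩ : alternatingGroup α) * ⟨b, hbe⟩) * g⁻¹) *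
    (k * g⁻¹)⁻¹ = k * (⟨a, hae⟩ * ⟨b, hbe⟩) * k⁻¹ by group] at h5
  exact h5 hk

theorem good_one : Good S X 1 := by
  intro g h _
  have : (⟨1, h⟩ : alternatingGroup α) = 1 := rfl
  simp [this]

/-- Good depends only on the cycle type where the centralizer has an odd element. -/
theorem good_of_cycleType {x y : Perm α} (hx : Good S X x) (hxe : x ∈ alternatingGroup α)
    (hxy : x.cycleType = y.cycleType)
    (hodd : ¬ Subgroup.centralizer {x} ≤ alternatingGroup α) : Good S X y := by
  intro g hye hg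
  obtain ⟨σ, hσ⟩ := isConj_iff.1 (isConj_iff_cycleType_eq.2 hxy)
  obtain ⟨τ, hτ, hτe⟩ := SetLike.not_le_iff_exists.1 hodd
  have hτx : τ * x * τ⁻¹ = x := by
    rw [Subgroup.mem_centralizer_singleton_iff.1 hτ, mul_inv_cancel_right]
  obtain ⟨σ', hσ', hσe⟩ : ∃ σ' : Perm α, σ' * x * σ'⁻¹ = y ∧ σ' ∈ alternatingGroup α := by
    by_cases h : σ ∈ alternatingGroup α
    · exact ⟨σ, hσ, h⟩
    · refine ⟨σ * τ, ?_, ?_⟩
      · rw [show σ * τ * x * (σ * τ)⁻¹ = σ * (τ * x * τ⁻¹) * σ⁻¹ by group, hτx, hσ]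
      · rw [mem_alternatingGroup] at h hτe ⊢
        rw [map_mul, (Int.units_eq_one_or _).resolve_left h,
          (Int.units_eq_one_or _).resolve_left hτe, Int.units_mul_self]
  have he : (⟨y, hye⟩ : alternatingGroup α) =
      (⟨σ', hσe⟩ : alternatingGroup α) * ⟨x, hxe⟩ * (⟨σ', hσe⟩ : alternatingGroup α)⁻¹ :=
    Subtype.ext hσ'.symm
  rw [he] at hg ⊢
  rw [show g * ((⟨σ', hσe⟩ : alternatingGroup α) * ⟨x, hxe⟩ * (⟨σ', hσe⟩ : alternatingGroup α)⁻¹) *
    g⁻¹ = g * ⟨σ', hσe⟩ * ⟨x, hxe⟩ * (g * ⟨σ', hσe⟩)⁻¹ by group] at hg ⊢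
  exact hx _ hxe hg

/-- Split one cycle of `p`-th powers off a cycle. -/
theorem cycle_split {x : Perm α} (hx : x.IsCycle) {a : ℕ} (hord : orderOf x = p ^ (a + 2)) :
    ∃ t z : Perm α, x = t * z ∧ t ^ p = 1 ∧ z ^ p ^ (a + 1) = 1 ∧
      IsPGroup p (Subgroup.zpowers t ⊔ Subgroup.zpowers z : Subgroup (Perm α)) := by
  have hp := (Fact.out : p.Prime)
  obtain ⟨r, hr, hsame⟩ := id hx
  have hper : ∀ i j : ℤ, (x ^ i) r = (x ^ j) r → (p : ℤ) ∣ i - j := by
    intro i j hij
    have h1 : (x ^ (i - j)) r = r := by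
      rw [sub_eq_add_neg, add_comm, zpow_add, Perm.mul_apply, hij, ← Perm.mul_apply, ← zpow_add,
        neg_add_cancel, zpow_zero, Perm.one_apply]
    have h2 : x ^ (i - j) = 1 := by
      refine Equiv.ext fun y => ?_
      by_cases hy : x y = y
      · exact zpow_apply_eq_self_of_apply_eq_self hy _
      · obtain ⟨m, rfl⟩ := hsame hy
        rw [← Perm.mul_apply, ← zpow_add, add_comm, zpow_add, Perm.mul_apply, h1]
        rfl
    have h3 := orderOf_dvd_iff_zpow_eq_one.2 h2
    rw [hord] at h3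
    refine Int.dvd_trans ?_ h3
    exact_mod_cast dvd_pow_self p (by omega)
  set w := x ^ (p : ℤ) with hw
  set z := w.cycleOf r with hz
  have hwsame : ∀ i : ℤ, w.SameCycle r ((x ^ i) r) ↔ (p : ℤ) ∣ i := by
    intro i
    constructor
    · rintro ⟨m, hm⟩
      rw [hw, ← zpow_mul] at hm
      have := hper _ _ hm
      have h2 : (p : ℤ) ∣ (p : ℤ) * m := Dvd.intro m rfl
      simpa using Int.dvd_sub h2 this
    · rintro ⟨m, rfl⟩
      exact ⟨m, by rw [hw, ← zpow_mul]⟩
  have hzapp : ∀ i : ℤ, z ((x ^ i) r) = if (p : ℤ) ∣ i then (x ^ (i + p)) r else (x ^ i) r := by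
    intro i
    rw [hz, cycleOf_apply]
    by_cases h : (p : ℤ) ∣ i
    · rw [if_pos h, if_pos ((hwsame i).2 h), hw, ← Perm.mul_apply, ← zpow_add, add_comm]
    · rw [if_neg h, if_neg (fun hh => h ((hwsame i).1 hh))]
  set t := x * z⁻¹ with ht
  have htapp : ∀ i : ℤ, t ((x ^ i) r) =
      if (p : ℤ) ∣ i then (x ^ (i + 1 - p)) r else (x ^ (i + 1)) r := by
    intro i
    rw [ht, Perm.mul_apply]
    by_cases h : (p : ℤ) ∣ i
    · have h1 := hzapp (i - p)
      rw [if_pos (Int.dvd_sub h (dvd_refl _)), sub_add_cancel] at h1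
      rw [if_pos h, ← h1, Perm.inv_def, Equiv.symm_apply_apply, ← Perm.mul_apply, show i + 1 - (p:ℤ) = 1 + (i - p) by ring,
        zpow_add, zpow_one]
    · have h1 := hzapp i
      rw [if_neg h] at h1
      rw [if_neg h]
      conv_lhs => rw [← h1, Perm.inv_def, Equiv.symm_apply_apply]
      rw [← Perm.mul_apply, add_comm i 1, zpow_add, zpow_one]
  have htp : t ^ p = 1 := by
    refine Equiv.ext fun y => ?_
    by_cases hy : x y = y
    · have hzy : z y = y := by
        rw [hz, cycleOf_apply]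
        split_ifs
        · exact zpow_apply_eq_self_of_apply_eq_self hy _
        · rfl
      have : t y = y := by rw [ht, Perm.mul_apply, inv_eq_iff_eq.2 hzy.symm, hy]
      rw [pow_apply_eq_self_of_apply_eq_self this]
      rfl
    · obtain ⟨i, rfl⟩ := hsame hy
      have hplain : ∀ (i : ℤ) (j : ℕ), (∀ m : ℕ, m < j → ¬ (p : ℤ) ∣ i + m) →
          (t ^ j) ((x ^ i) r) = (x ^ (i + j)) r := by
        intro i j
        induction j with
        | zero => simp
        | succ j ih =>
          intro h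
          rw [pow_succ', Perm.mul_apply, ih (fun m hm => h m (by omega)), htapp,
            if_neg (h j (by omega))]
          congr 2
          push_cast
          ring
      obtain ⟨s, q, hs, rfl⟩ : ∃ (s : ℕ) (q : ℤ), s < p ∧ i = p * q + s := by
        refine ⟨(i % p).toNat, i / p, ?_, ?_⟩
        · have := Int.emod_lt_of_pos i (show (0 : ℤ) < p by exact_mod_cast hp.pos)
          have := Int.emod_nonneg i (show (p : ℤ) ≠ 0 by exact_mod_cast hp.ne_zero)
          omega
        · rw [Int.toNat_of_nonneg (Int.emod_nonneg _ (by exact_mod_cast hp.ne_zero))]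
          exact (Int.mul_ediv_add_emod i p).symm
      have hnd : ∀ (c : ℤ) (m : ℕ), 0 < m → m < p → ¬ (p : ℤ) ∣ p * c + m := by
        intro c m h0 h1 hd
        have := (Int.dvd_add_right (Dvd.intro c rfl)).1 hd
        exact Nat.not_dvd_of_pos_of_lt h0 h1 (Int.natCast_dvd_natCast.1 this)
      rw [Perm.one_apply]
      rcases Nat.eq_zero_or_pos s with rfl | hspos
      · obtain ⟨k, hk⟩ : ∃ k, p = k + 1 := ⟨p - 1, by have := hp.pos; omega⟩
        nth_rewrite 1 [show p = k + 1 from hk]
        rw [pow_succ, Perm.mul_apply, htapp, if_pos (by simp), hplain _ k]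
        · congr 2
          rw [hk]; push_cast; ring
        · intro m hm
          rw [show (p : ℤ) * q + (0 : ℕ) + 1 - p + m = p * (q - 1) + ((m + 1 : ℕ) : ℤ) by
            push_cast; ring]
          exact hnd _ _ (by omega) (by omega)
      · obtain ⟨k, hk⟩ : ∃ k, s = k + 1 := ⟨s - 1, by omega⟩
        nth_rewrite 1 [show p = k + 1 + (p - s) by omega]
        rw [pow_add, Perm.mul_apply, hplain _ (p - s), pow_succ, Perm.mul_apply]
        · rw [show (p : ℤ) * q + s + ((p - s : ℕ) : ℤ) = p * (q + 1) by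
            rw [Nat.cast_sub hs.le]; ring, htapp, if_pos (Dvd.intro _ rfl), hplain _ k]
          · congr 2
            rw [hk]; push_cast; ring
          · intro m hm
            rw [show (p : ℤ) * (q + 1) + 1 - p + m = p * q + ((m + 1 : ℕ) : ℤ) by push_cast; ring]
            exact hnd _ _ (by omega) (by omega)
        · intro m hm
          rw [add_assoc, ← Nat.cast_add]
          exact hnd _ _ (by omega) (by omega)
  have hwp : w ^ p ^ (a + 1) = 1 := by
    rw [hw, zpow_natCast, ← pow_mul, ← pow_succ', ← hord, pow_orderOf_eq_one]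
  have hcyc : ∀ u : α, (w.cycleOf u) ^ p ^ (a + 1) = 1 := by
    intro u
    refine Equiv.ext fun y => ?_
    by_cases h : w.SameCycle u y
    · rw [h.cycleOf_eq, cycleOf_pow_apply_self, hwp]
    · exact pow_apply_eq_self_of_apply_eq_self (cycleOf_apply_of_not_sameCycle h) _
  refine ⟨t, z, by rw [ht, inv_mul_cancel_right], htp, hcyc r, ?_⟩
  -- the cycles of `x ^ p` commute and are permuted by `x`
  set D : Subgroup (Perm α) := Subgroup.closure (Set.range fun u => w.cycleOf u) with hD
  have hcomm : ∀ u v, Commute (w.cycleOf u) (w.cycleOf v) := by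
    intro u v
    by_cases h : w.SameCycle u v
    · rw [h.cycleOf_eq]
    · refine Disjoint.commute fun y => ?_
      by_cases hu : w.SameCycle u y
      · exact Or.inr (cycleOf_apply_of_not_sameCycle fun hv => h (hu.trans hv.symm))
      · exact Or.inl (cycleOf_apply_of_not_sameCycle hu)
  have hDp : IsPGroup p D := by
    haveI : IsMulCommutative D := Subgroup.isMulCommutative_closure (by
      rintro _ ⟨u, rfl⟩ _ ⟨v, rfl⟩
      exact hcomm u v)
    rintro ⟨d, hd⟩
    refine ⟨a + 1, Subtype.ext ?_⟩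
    show d ^ p ^ (a + 1) = 1
    induction hd using Subgroup.closure_induction with
    | mem d hd => obtain ⟨u, rfl⟩ := hd; exact hcyc u
    | one => exact one_pow _
    | mul c d hc hd hc1 hd1 =>
      have hcd : Commute c d := congrArg Subtype.val
        (mul_comm' (⟨c, hc⟩ : D) ⟨d, hd⟩)
      rw [hcd.mul_pow, hc1, hd1, one_mul]
    | inv c _ hc1 => rw [inv_pow, hc1, inv_one]
  have hxw : ∀ (k : ℤ) (u : α), x ^ k * w.cycleOf u * (x ^ k)⁻¹ = w.cycleOf ((x ^ k) u) := by
    intro k u
    have hw' : x ^ k * w * (x ^ k)⁻¹ = w := by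
      rw [hw, ← zpow_add, ← zpow_neg, ← zpow_add, add_neg_cancel_comm]
    refine Equiv.ext fun y => ?_
    have hiff : w.SameCycle ((x ^ k) u) y ↔ w.SameCycle u ((x ^ k)⁻¹ y) := by
      conv_lhs => rw [← hw']
      rw [sameCycle_conj, Perm.inv_def, Equiv.symm_apply_apply]
    rw [Perm.mul_apply, Perm.mul_apply, cycleOf_apply, cycleOf_apply]
    by_cases h : w.SameCycle u ((x ^ k)⁻¹ y)
    · rw [if_pos h, if_pos (hiff.2 h)]
      conv_rhs => rw [← hw']
      rfl
    · rw [if_neg h, if_neg (fun hh => h (hiff.1 hh)), Perm.inv_def, Equiv.apply_symm_apply]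
  have hxN : Subgroup.zpowers x ≤ Subgroup.normalizer (D : Set (Perm α)) := by
    rw [Subgroup.zpowers_le]
    refine H85.mem_normalizer_of_conj fun y hy => ?_
    have : D.map (MulAut.conj x).toMonoidHom ≤ D := by
      rw [hD, MonoidHom.map_closure, Subgroup.closure_le]
      rintro _ ⟨_, ⟨u, rfl⟩, rfl⟩
      refine Subgroup.subset_closure ⟨x u, ?_⟩
      have := hxw 1 u
      rw [zpow_one] at this
      exact this.symm
    exact this (Subgroup.mem_map_of_mem _ hy)
  have hxp : IsPGroup p (Subgroup.zpowers x) :=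
    IsPGroup.of_card (n := a + 2) (by rw [Nat.card_zpowers, hord])
  refine (hxp.to_sup_of_normal_right' hDp hxN).to_le (sup_le ?_ ?_)
  · rw [Subgroup.zpowers_le, ht]
    exact mul_mem ((le_sup_left : Subgroup.zpowers x ≤ _) (Subgroup.mem_zpowers x))
      (inv_mem ((le_sup_right : D ≤ _) (Subgroup.subset_closure ⟨r, rfl⟩)))
  · rw [Subgroup.zpowers_le]
    exact (le_sup_right : D ≤ _) (Subgroup.subset_closure ⟨r, rfl⟩)

theorem commute_pow_eq_one {a b : Perm α} (h : Disjoint a b) {n : ℕ} (hn : (a * b) ^ n = 1) :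
    a ^ n = 1 ∧ b ^ n = 1 := by
  rw [h.commute.mul_pow] at hn
  exact (Disjoint.mul_eq_one_iff (Disjoint.pow_disjoint_pow h n n)).1 hn

theorem exists_mem_order (hX : X ≠ ⊥) (hXS : X ≤ (S : Subgroup (alternatingGroup α))) :
    ∃ x : alternatingGroup α, x ∈ X ∧ x ≠ 1 ∧ (x : Perm α) ^ p = 1 := by
  obtain ⟨n, hn⟩ := IsPGroup.iff_card.1 (S.2.to_le hXS)
  have hd : p ∣ Nat.card X := by
    rw [hn]
    refine dvd_pow_self p fun h0 => hX ?_
    rw [h0, pow_zero] at hn
    exact Subgroup.card_eq_one.1 hn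
  obtain ⟨y, hy⟩ := exists_prime_orderOf_dvd_card' p hd
  refine ⟨y, y.2, ?_, ?_⟩
  · rw [← Subgroup.coe_one X]
    intro h
    rw [Subtype.ext h, orderOf_one] at hy
    exact (Fact.out : p.Prime).ne_one hy.symm
  · exact congrArg (fun z : X => ((z : alternatingGroup α) : Perm α)) (hy ▸ pow_orderOf_eq_one y)

theorem mem_alt_odd (hp2 : p ≠ 2) {x : Perm α} {k : ℕ} (hk : x ^ p ^ k = 1) :
    x ∈ alternatingGroup α := by
  rw [mem_alternatingGroup]
  rcases Int.units_eq_one_or (sign x) with h | h
  · exact h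
  · have := congrArg sign hk
    rw [map_pow, map_one, h, ((Fact.out : p.Prime).odd_of_ne_two hp2).pow.neg_one_pow] at this
    exact absurd this (by decide)

/-- For odd `p` a nontrivial strongly closed subgroup is the whole Sylow subgroup. -/
theorem eq_of_stronglyClosed_odd (hp2 : p ≠ 2) (hn : p + 2 ≤ Fintype.card α)
    (hX : (groupFusionSystem (S : Subgroup (alternatingGroup α))).StronglyClosed X) (hX1 : X ≠ ⊥) :
    X = (S : Subgroup (alternatingGroup α)) := by
  have hp := (Fact.out : p.Prime)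
  obtain ⟨x, hxX, hx1, hxp⟩ := exists_mem_order hX1 hX.1
  have hgx : Good S X (x : Perm α) := good_of_mem hX hxX
  have hsplit : ∀ y : Perm α, y ^ p = 1 → ¬ Subgroup.centralizer {y} ≤ alternatingGroup α := by
    intro y hy h
    rw [centralizer_le_alternating_iff] at h
    have h2 := cycleType_of_pow_prime_eq_one hy
    have h3 := h.2.1
    have h4 := h.2.2 p
    rw [h2, Multiset.count_replicate_self] at h4
    rw [h2, Multiset.sum_replicate, smul_eq_mul] at h3
    have : Multiset.card y.cycleType * p ≤ 1 * p := Nat.mul_le_mul_right p h4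
    omega
  -- a single cycle
  obtain ⟨c, hc⟩ : ∃ c, c ∈ (x : Perm α).cycleFactorsFinset := by
    refine Finset.nonempty_iff_ne_empty.2 fun h => hx1 (Subtype.ext ?_)
    exact cycleFactorsFinset_eq_empty_iff.1 h
  set rest := (x : Perm α) * c⁻¹ with hrest
  have hd : Disjoint rest c := disjoint_mul_inv_of_mem_cycleFactorsFinset hc
  have hxe : (x : Perm α) = rest * c := by rw [hrest, inv_mul_cancel_right]
  obtain ⟨hrp, hcp⟩ := commute_pow_eq_one hd (by rw [← hxe]; exact hxp)
  have hccyc : c.IsCycle := (mem_cycleFactorsFinset_iff.1 hc).1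
  have hcord : orderOf c = p := orderOf_eq_prime hcp hccyc.ne_one
  have hc2cyc : (c ^ 2).IsCycle := hccyc.isCycle_pow_pos_of_lt_prime_order (hcord.symm ▸ hp) 2
    two_pos (by rw [hcord]; have := hp.two_le; omega)
  have hc2p : (c ^ 2) ^ p = 1 := by rw [← pow_mul, mul_comm, pow_mul, hcp, one_pow]
  have hct : ∀ d : Perm α, d.IsCycle → d ^ p = 1 → d.cycleType = {p} := by
    intro d hd hdp
    rw [hd.cycleType, ← hd.orderOf, orderOf_eq_prime hdp hd.ne_one]
  set y := rest * c ^ 2 with hy
  have hd2 : Disjoint rest (c ^ 2) := by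
    have := Disjoint.pow_disjoint_pow hd 1 2
    rwa [pow_one] at this
  have hyt : (x : Perm α).cycleType = y.cycleType := by
    rw [hxe, hy, hd.cycleType_mul, hd2.cycleType_mul, hct c hccyc hcp, hct _ hc2cyc hc2p]
  have halt : ∀ {d : Perm α}, d ^ p = 1 → d ∈ alternatingGroup α := fun {d} hd =>
    mem_alt_odd hp2 (k := 1) (by rwa [pow_one])
  have hyp : y ^ p = 1 := by rw [hy, hd2.commute.mul_pow, hrp, hc2p, one_mul]
  have hgy : Good S X y := good_of_cycleType hgx x.2 hyt (hsplit _ hxp)
  have hgxi : Good S X ((x : Perm α)⁻¹) := good_of_mem hX (inv_mem hxX)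
  have hgc : Good S X c := by
    have hcxy : c = (x : Perm α)⁻¹ * y := by rw [hy, hxe, sq]; group
    rw [hcxy]
    refine good_mul hgxi hgy (inv_mem x.2) (halt hyp)
      (pgroup_of_commute ?_ (i := 1) (j := 1) (by rw [pow_one, inv_pow, hxp, inv_one])
        (by rwa [pow_one])) hX
    refine Commute.inv_left ?_
    rw [hy, hxe]
    exact (((Commute.refl rest).mul_left hd.commute.symm).mul_right
      ((hd.commute.pow_right 2).mul_left ((Commute.refl c).pow_right 2)))
  refine mem_of_good ?_ hX.1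
  suffices hall : ∀ (k : ℕ) (d : Perm α), d ^ p ^ k = 1 → Good S X d from
    fun d ⟨k, hk⟩ _ => hall k d hk
  clear hxe hd hrp
  intro k
  induction k using Nat.strong_induction_on with
  | _ k ih =>
    intro d hk
    induction d using cycle_induction_on with
    | base_one => exact good_one
    | base_cycles d hd =>
      obtain ⟨b, hbk, hb⟩ := (Nat.dvd_prime_pow hp).1 (orderOf_dvd_of_pow_eq_one hk)
      rcases b with _ | _ | b
      · exact absurd (orderOf_eq_one_iff.1 (hb.trans (pow_zero p))) hd.ne_one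
      · have hdp : d ^ p = 1 := by rw [← pow_one p, ← hb, pow_orderOf_eq_one]
        exact good_of_cycleType hgc (halt hcp)
          (by rw [hct c hccyc hcp, hct d hd hdp]) (hsplit _ hcp)
      · obtain ⟨t, z, rfl, ht, hz, hP⟩ := cycle_split hd hb
        exact good_mul (ih 1 (by
          have := (Nat.pow_le_pow_iff_right hp.one_lt).1 (Nat.le_of_dvd (pow_pos hp.pos _) (pow_dvd_pow p hbk)); omega) t (by rwa [pow_one])) (ih (b + 1) (by omega) z hz)
          (halt ht) (mem_alt_odd hp2 hz) hP hX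
    | induction_disjoint d e hde _ hd he =>
      obtain ⟨h1, h2⟩ := commute_pow_eq_one hde hk
      exact good_mul (hd h1) (he h2) (mem_alt_odd hp2 h1) (mem_alt_odd hp2 h2)
        (pgroup_of_commute hde.commute h1 h2) hX

omit [Fact p.Prime] in
/-- A permutation of `2`-power order is inverted by an even involution. -/
theorem exists_even_inverter {x : Perm α} (hx1 : x ≠ 1) {k : ℕ} (hk : x ^ 2 ^ k = 1) :
    ∃ a : Perm α, a * a = 1 ∧ a * x * a = x⁻¹ ∧ a ∈ alternatingGroup α := by
  classical
  let st : Setoid α := SameCycle.setoid x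
  let r : α → α := fun y => (Quotient.mk st y).out
  have hr : ∀ y, x.SameCycle (r y) y := fun y =>
    Quotient.exact (s := st) (Quotient.out_eq (Quotient.mk st y))
  have hrr : ∀ y z, x.SameCycle y z → r y = r z := fun y z h =>
    congrArg Quotient.out (Quotient.sound (s := st) h)
  choose i hi using hr
  let f : α → α := fun y => (x ^ (-i y)) (r y)
  have hf : ∀ y (j : ℤ), (x ^ j) (r y) = y → f y = (x ^ (-j)) (r y) := by
    intro y j hj
    have h1 : (x ^ (i y - j)) (r y) = r y := by
      rw [sub_eq_add_neg, add_comm, zpow_add, Perm.mul_apply, hi y, zpow_neg, Perm.inv_eq_iff_eq, hj]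
    show (x ^ (-i y)) (r y) = _
    calc (x ^ (-i y)) (r y) = (x ^ (-i y)) ((x ^ (i y - j)) (r y)) := by rw [h1]
      _ = (x ^ (-j)) (r y) := by
        rw [← Perm.mul_apply, ← zpow_add]; congr 2; ring
  have hsc : ∀ y, x.SameCycle y (f y) := fun y =>
    (SameCycle.symm (show x.SameCycle (r y) y from ⟨i y, hi y⟩)).trans ⟨-i y, rfl⟩
  have hff : Function.Involutive f := by
    intro y
    have h1 := hrr _ _ (hsc y)
    rw [hf (f y) (-i y) (by rw [← h1]), neg_neg, ← h1, hi y]
  let a : Perm α := hff.toPerm f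
  have haa : a * a = 1 := Equiv.ext hff
  have hax : a * x * a = x⁻¹ := by
    refine Equiv.ext fun y => ?_
    show f (x (f y)) = x⁻¹ y
    have h1 : r (x (f y)) = r y :=
      (hrr _ _ ((hsc y).trans ⟨1, by rw [zpow_one]⟩)).symm
    rw [hf (x (f y)) (1 + -i y) (by rw [h1, zpow_add, zpow_one, Perm.mul_apply]), h1]
    conv_rhs => rw [← hi y, ← zpow_neg_one, ← Perm.mul_apply, ← zpow_add]
    congr 2
    ring
  rcases Int.units_eq_one_or (sign a) with h | h
  · exact ⟨a, haa, hax, mem_alternatingGroup.2 h⟩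
  obtain ⟨u, hu⟩ : ∃ u, x u ≠ u := by
    by_contra hh
    exact hx1 (Equiv.ext fun y => by_contra fun hy => hh ⟨y, hy⟩)
  set c := x.cycleOf u with hc
  have hca : ∀ y, c (f (c y)) = f y := by
    intro y
    rw [hc]
    by_cases hy : x.SameCycle u y
    · rw [hy.cycleOf_apply]
      have h1 : x.SameCycle u (f (x y)) :=
        (hy.trans ⟨1, by rw [zpow_one]⟩).trans (hsc _)
      rw [h1.cycleOf_apply]
      have h3 := congrArg (fun g : Perm α => g (f y)) hax
      have h4 : f (x y) = x⁻¹ (f y) := by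
        have : f (x (f (f y))) = x⁻¹ (f y) := h3
        rwa [hff y] at this
      rw [h4, Perm.inv_def, Equiv.apply_symm_apply]
    · rw [cycleOf_apply_of_not_sameCycle hy]
      exact cycleOf_apply_of_not_sameCycle fun hh => hy (hh.trans (hsc y).symm)
  have hac : a * c * (a * c) = 1 := by
    refine Equiv.ext fun y => ?_
    show f (c (f (c y))) = y
    rw [hca, hff]
  have hcx : Commute c x := (self_mem_cycle_factors_commute
    ((cycleOf_mem_cycleFactorsFinset_iff).2 (mem_support.2 hu))).symm.symm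
  refine ⟨a * c, hac, ?_, ?_⟩
  · calc a * c * x * (a * c) = a * (c * x) * a * c := by group
      _ = a * (x * c) * a * c := by rw [hcx.eq]
      _ = a * x * a * (a⁻¹ * c * a * c) := by group
      _ = x⁻¹ := by
        rw [hax, show a⁻¹ = a from inv_eq_of_mul_eq_one_left haa, mul_assoc _ a c, hac, mul_one]
  · have hcyc : c.IsCycle := isCycle_cycleOf _ hu
    have hdvd : orderOf c ∣ 2 ^ k := by
      rw [orderOf_dvd_iff_pow_eq_one]
      refine Equiv.ext fun y => ?_
      by_cases hy : x.SameCycle u y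
      · rw [hc, hy.cycleOf_eq, cycleOf_pow_apply_self, hk]
      · exact pow_apply_eq_self_of_apply_eq_self (cycleOf_apply_of_not_sameCycle hy) _
    obtain ⟨j, -, hj⟩ := (Nat.dvd_prime_pow Nat.prime_two).1 hdvd
    have hj0 : j ≠ 0 := by
      rintro rfl
      exact hcyc.ne_one (orderOf_eq_one_iff.1 hj)
    rw [mem_alternatingGroup, map_mul, h, hcyc.sign, ← hcyc.orderOf, hj,
      Even.neg_one_pow ((Nat.even_pow).2 ⟨even_two, hj0⟩)]
    decide

omit [Fact p.Prime] in
theorem four_points {x : Perm α} (hxe : x ∈ alternatingGroup α) (hx1 : x ≠ 1) (hx2 : x ^ 2 = 1) :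
    ∃ a c : α, x a ≠ a ∧ x c ≠ c ∧ c ≠ a ∧ c ≠ x a := by
  obtain ⟨a, ha⟩ : ∃ a, x a ≠ a := by
    by_contra h
    exact hx1 (Equiv.ext fun y => by_contra fun hy => h ⟨y, hy⟩)
  by_contra h
  push Not at h
  refine absurd (mem_alternatingGroup.1 hxe) ?_
  have hxs : x = swap a (x a) := by
    refine Equiv.ext fun y => ?_
    have hxx : ∀ z, x (x z) = z := fun z => by
      rw [← Perm.mul_apply, ← sq, hx2, Perm.one_apply]
    by_cases h1 : y = a
    · rw [h1, swap_apply_left]
    by_cases h2 : y = x a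
    · rw [h2, swap_apply_right, hxx]
    rw [swap_apply_of_ne_of_ne h1 h2]
    by_contra h3
    exact h2 (h a y ha h3 h1)
  rw [hxs, sign_swap (Ne.symm ha)]
  decide

/-- For `p = 2` a nontrivial strongly closed subgroup is the whole Sylow subgroup. -/
theorem eq_of_stronglyClosed_two (hp : p = 2)
    (hX : (groupFusionSystem (S : Subgroup (alternatingGroup α))).StronglyClosed X) (hX1 : X ≠ ⊥) :
    X = (S : Subgroup (alternatingGroup α)) := by
  subst hp
  obtain ⟨x, hxX, hx1, hx2⟩ := exists_mem_order hX1 hX.1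
  have hgx : Good S X (x : Perm α) := good_of_mem hX hxX
  have hx1' : (x : Perm α) ≠ 1 := fun h => hx1 (Subtype.ext h)
  have hsq : ∀ {d : Perm α}, d ^ 2 = 1 → d ^ 2 ^ 1 = 1 := fun {d} h => by rwa [pow_one]
  have hsplit : ∀ y : Perm α, y ^ 2 = 1 → y ≠ 1 →
      ¬ Subgroup.centralizer {y} ≤ alternatingGroup α := by
    intro y hy hy1 h
    rw [centralizer_le_alternating_iff] at h
    obtain ⟨c, hc⟩ := Multiset.exists_mem_of_ne_zero (fun h0 => hy1 (cycleType_eq_zero.1 h0))
    have := h.1 c hc
    rw [pow_prime_eq_one_iff.1 hy c hc] at this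
    exact absurd this (by decide)
  have hxx : ∀ {d : Perm α}, d ^ 2 = 1 → ∀ z, d (d z) = z := fun {d} hd z => by
    rw [← Perm.mul_apply, ← sq, hd, Perm.one_apply]
  -- one double transposition
  obtain ⟨a, c, ha, hc, hca, hcxa⟩ := four_points x.2 hx1' hx2
  set b := (x : Perm α) a with hb
  set d := (x : Perm α) c with hd
  have hxb : (x : Perm α) b = a := hxx hx2 a
  have hxd : (x : Perm α) d = c := hxx hx2 c
  have hab : a ≠ b := Ne.symm ha
  have hcd : c ≠ d := Ne.symm hc
  have hbc : b ≠ c := Ne.symm hcxa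
  have had : a ≠ d := fun h => hcxa (by rw [hb, h, hxd])
  have hbd : b ≠ d := fun h => hca ((x : Perm α).injective (show d = b from h.symm))
  set g := swap b c with hg
  set y := g * (x : Perm α) * g⁻¹ with hy
  have hyt : (x : Perm α).cycleType = y.cycleType := cycleType_conj.symm
  have hy2 : y ^ 2 = 1 := by rw [hy, conj_pow, hx2]; group
  have hye : y ∈ alternatingGroup α := by
    rw [mem_alternatingGroup, hy, map_mul, map_mul, mem_alternatingGroup.1 x.2, mul_one, map_inv,
      mul_inv_cancel]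
  have hgy : Good S X y := good_of_cycleType hgx x.2 hyt (hsplit _ hx2 hx1')
  set u := swap a d * swap b c with hu
  have hxy : (x : Perm α) * y = u := by
    refine Equiv.ext fun w => ?_
    rw [hy, hu, hg, swap_inv]
    simp only [Perm.mul_apply]
    by_cases w1 : w = a
    · subst w1
      rw [swap_apply_of_ne_of_ne hab hca.symm, ← hb, swap_apply_left, ← hd,
        swap_apply_left]
    by_cases w2 : w = b
    · subst w2
      rw [swap_apply_left, ← hd, swap_apply_of_ne_of_ne hbd.symm hcd.symm, hxd,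
        swap_apply_of_ne_of_ne hca hcd]
    by_cases w3 : w = c
    · subst w3
      rw [swap_apply_right, hxb, swap_apply_of_ne_of_ne hab hca.symm, ← hb,
        swap_apply_of_ne_of_ne (Ne.symm hab) hbd]
    by_cases w4 : w = d
    · subst w4
      rw [swap_apply_of_ne_of_ne hbd.symm hcd.symm, hxd, swap_apply_right, hxb,
        swap_apply_right]
    · rw [swap_apply_of_ne_of_ne w2 w3, swap_apply_of_ne_of_ne (a := a) (b := d) w1 w4]
      have h2 : (x : Perm α) w ≠ b := fun h => w1 ((x : Perm α).injective h)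
      have h3 : (x : Perm α) w ≠ c := fun h => w4 ((x : Perm α).injective (h.trans hxd.symm))
      rw [swap_apply_of_ne_of_ne h2 h3, hxx hx2]
  have hdt : ∀ {a b c d : α}, a ≠ b → c ≠ d → a ≠ c → a ≠ d → b ≠ c → b ≠ d →
      (swap a b * swap c d).cycleType = {2, 2} := by
    intro a b c d h1 h2 h3 h4 h5 h6
    rw [Disjoint.cycleType_mul]
    · rw [(isCycle_swap h1).cycleType, (isCycle_swap h2).cycleType, card_support_swap h1,
        card_support_swap h2]
      rfl
    · rw [disjoint_iff_disjoint_support, support_swap h1, support_swap h2]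
      simp [h3.symm, h4.symm, h5.symm, h6.symm]
  have hu2 : u ^ 2 = 1 := pow_prime_eq_one_iff.2 (by
    rw [hu, hdt had hbc hab hca.symm hbd.symm hcd.symm]; simp)
  have hcomm : Commute (x : Perm α) y := by
    have h1 : (x : Perm α)⁻¹ = x := inv_eq_of_mul_eq_one_left (by rw [← sq, hx2])
    have h2 : y⁻¹ = y := inv_eq_of_mul_eq_one_left (by rw [← sq, hy2])
    have h3 : ((x : Perm α) * y)⁻¹ = (x : Perm α) * y :=
      inv_eq_of_mul_eq_one_left (by rw [hxy, ← sq, hu2])
    rw [mul_inv_rev, h1, h2] at h3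
    exact h3.symm
  have hgu : Good S X u := by
    rw [← hxy]
    exact good_mul hgx hgy x.2 hye (pgroup_of_commute hcomm (hsq hx2) (hsq hy2)) hX
  have hue : u ∈ alternatingGroup α := hxy ▸ mul_mem x.2 hye
  have hu1 : u ≠ 1 := fun h => had (by
    have := congrArg (fun g : Perm α => g a) h
    simp only [hu, Perm.mul_apply, Perm.one_apply] at this
    rw [swap_apply_of_ne_of_ne hab hca.symm, swap_apply_left] at this
    exact this.symm)
  -- all involutions
  have hinv : ∀ n (v : Perm α), v.support.card = n → v ^ 2 = 1 → v ∈ alternatingGroup α →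
      Good S X v := by
    intro n
    induction n using Nat.strong_induction_on with
    | _ n ih =>
      intro v hn hv hve
      by_cases hv1 : v = 1
      · rw [hv1]; exact good_one
      obtain ⟨a', c', ha', hc', hca', hcva'⟩ := four_points hve hv1 hv
      set b' := v a' with hb'
      set d' := v c' with hd'
      have hvb : v b' = a' := hxx hv a'
      have hvd : v d' = c' := hxx hv c'
      have had' : a' ≠ d' := fun h => hcva' (by rw [hb', h, hvd])
      have hbd' : b' ≠ d' := fun h => hca' (v.injective (show d' = b' from h.symm))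
      set w := swap a' b' * swap c' d' with hw
      have hwt := hdt (Ne.symm ha') (Ne.symm hc') hca'.symm had' (Ne.symm hcva') hbd'
      rw [← hw] at hwt
      have hut : u.cycleType = {2, 2} := hdt had hbc hab hca.symm hbd.symm hcd.symm
      have hgw : Good S X w := good_of_cycleType hgu hue (hut.trans hwt.symm) (hsplit _ hu2 hu1)
      have hwe : w ∈ alternatingGroup α := by
        rw [mem_alternatingGroup, hw, map_mul, sign_swap (Ne.symm ha'), sign_swap (Ne.symm hc')]
        decide
      have hw2 : w ^ 2 = 1 := pow_prime_eq_one_iff.2 (by rw [hwt]; simp)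
      have hvwv : v * w * v⁻¹ = w := by
        rw [hw, show v * (swap a' b' * swap c' d') * v⁻¹ =
          (v * swap a' b' * v⁻¹) * (v * swap c' d' * v⁻¹) by group,
          ← swap_apply_apply, ← swap_apply_apply, ← hb', ← hd', hvb, hvd, swap_comm b' a',
          swap_comm d' c']
      have hcw : Commute v w := by
        show v * w = w * v
        conv_rhs => rw [← hvwv]
        rw [inv_mul_cancel_right]
      have hvw2 : (v * w) ^ 2 = 1 := by rw [hcw.mul_pow, hv, hw2, one_mul]
      have hlt : (v * w).support.card < n := by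
        rw [← hn]
        refine Finset.card_lt_card ?_
        rw [Finset.ssubset_iff_of_subset]
        · refine ⟨a', mem_support.2 ha', ?_⟩
          rw [notMem_support, hw, Perm.mul_apply, Perm.mul_apply,
            swap_apply_of_ne_of_ne hca'.symm had', swap_apply_left, hvb]
        · intro t ht
          rw [mem_support] at ht ⊢
          intro hvt
          refine ht ?_
          have n1 : t ≠ a' := fun h => ha' (by rw [h] at hvt; exact hvt)
          have n2 : t ≠ b' := fun h => ha' (by rw [h] at hvt; exact hvt.symm.trans hvb)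
          have n3 : t ≠ c' := fun h => hc' (by rw [h] at hvt; exact hvt)
          have n4 : t ≠ d' := fun h => hc' (by rw [h] at hvt; exact hvt.symm.trans hvd)
          rw [hw, Perm.mul_apply, Perm.mul_apply, swap_apply_of_ne_of_ne n3 n4,
            swap_apply_of_ne_of_ne n1 n2, hvt]
      have := good_mul (ih _ hlt (v * w) rfl hvw2 (mul_mem hve hwe)) hgw (mul_mem hve hwe) hwe
        (pgroup_of_commute (hcw.mul_left (Commute.refl w)) (hsq hvw2) (hsq hw2)) hX
      rwa [mul_assoc, ← sq, hw2, mul_one] at this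
  refine mem_of_good (fun e ⟨k, hk⟩ hee => ?_) hX.1
  by_cases he1 : e = 1
  · rw [he1]; exact good_one
  obtain ⟨r, hrr, hre, hra⟩ := exists_even_inverter he1 hk
  have hrinv : r⁻¹ = r := inv_eq_of_mul_eq_one_left hrr
  have hr2 : r ^ 2 = 1 := by rw [sq, hrr]
  have hre2 : (r * e) ^ 2 = 1 := by
    rw [sq, show r * e * (r * e) = r * e * r * e by group, hre, inv_mul_cancel]
  have h1 := hinv _ r rfl hr2 hra
  have h2 := hinv _ (r * e) rfl hre2 (mul_mem hra hee)
  have hP : IsPGroup 2 (Subgroup.zpowers r ⊔ Subgroup.zpowers (r * e) : Subgroup (Perm α)) := by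
    have hz : ∀ {c : Perm α} {m : ℕ}, c ^ 2 ^ m = 1 → IsPGroup 2 (Subgroup.zpowers c) := by
      intro c m hc
      exact (pgroup_of_commute (Commute.refl c) hc hc).to_le le_sup_left
    have hN : Subgroup.zpowers r ≤ Subgroup.normalizer (Subgroup.zpowers e : Set (Perm α)) := by
      rw [Subgroup.zpowers_le]
      refine H85.mem_normalizer_of_conj fun y hy => ?_
      obtain ⟨z, rfl⟩ := hy
      refine ⟨-z, ?_⟩
      show e ^ (-z) = r * e ^ z * r⁻¹
      rw [← conj_zpow, hrinv, hre, inv_zpow, zpow_neg]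
    refine ((hz (hsq hr2)).to_sup_of_normal_right' (hz hk) hN).to_le (sup_le le_sup_left ?_)
    rw [Subgroup.zpowers_le]
    exact mul_mem ((le_sup_left : Subgroup.zpowers r ≤ _) (Subgroup.mem_zpowers r))
      ((le_sup_right : Subgroup.zpowers e ≤ _) (Subgroup.mem_zpowers e))
  have := good_mul h1 h2 hra (mul_mem hra hee) hP hX
  rwa [← mul_assoc, hrr, one_mul] at this

end AltStrong
end H67
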