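import Mathlib
import Cfsg.Agent.H87.Simplicity

/-!
The elements of a normalizer that act inside an invariant subsystem, and a criterion of
simplicity by the automorphism group of one centric normal subgroup of a Sylow subgroup.
-/
set_option autoImplicit false

namespace H67
namespace AutCrit

open Cfsg Cfsg.FusionSystem

variable {G : Type*} [Group G] {S : Subgroup G} {p : ℕ}

/-- The elements normalising `P` whose action on `P` lies in `E`. -/
def acting (E : FusionSystem S) (P : Subgroup G) : Subgroup G :=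
  ((E.autGroup P).comap P.normalizerMonoidHom).map (Subgroup.normalizer (P : Set G)).subtype

theorem mem_acting {E : FusionSystem S} {P : Subgroup G} (hP : P ≤ S) {g : G} :
    g ∈ acting E P ↔ g ∈ Subgroup.normalizer (P : Set G) ∧ conjHom P g ∈ E.Hom P := by
  constructor
  · rintro ⟨⟨g', hg'⟩, h, rfl⟩
    exact ⟨hg', H85.hom_congr ((H85.mem_autGroup hP).1 h) fun x => rfl⟩
  · rintro ⟨hg, h⟩
    exact ⟨⟨g, hg⟩, (H85.mem_autGroup hP).2 (H85.hom_congr h fun x => rfl), rfl⟩

/-- Every automorphism of `p`-power order of the system lies in an invariant saturated one. -/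
theorem pElement_mem [Finite S] [Fact p.Prime] (hS : IsPGroup p S) {E F : FusionSystem S}
    (hF : F.IsSaturated p) (hE : E.IsInvariantIn F) {P : Subgroup G} (hP : P ≤ S) {α : MulAut P}
    (hα : α ∈ F.autGroup P) {k : ℕ} (hk : α ^ p ^ k = 1) : α ∈ E.autGroup P := by
  obtain ⟨R, hR, hn⟩ := H85.exists_fullyNormalized F hP
  obtain ⟨φ, hφ, hrange⟩ := hR
  obtain ⟨a, ha, φ₀, hφ₀, heq⟩ := hE.2.2.2 P hP φ hφ
  have hFa := (H85.mem_autGroup le_rfl).1 ha
  -- `φ₀(P)` is also fully normalized
  have hn' : F.IsFullyNormalized φ₀.range := by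
    refine ⟨H85.range_le hφ₀, fun Q hQ => ?_⟩
    have hQR : F.IsConj R Q := by
      refine H85.isConj_trans (H85.isConj_symm ⟨φ, hφ, hrange⟩) ?_
      exact H85.isConj_trans ⟨φ₀, hE.1 P hφ₀, rfl⟩ hQ
    refine (hn.2 Q hQR).trans ?_
    let f : normalizerIn S R → normalizerIn S φ₀.range := fun x =>
      ⟨((a⁻¹ ⟨x, (H85.normalizerIn_le R) x.2⟩ : S) : G), by
        haveI := H85.finite_of_le (H85.range_le hφ₀)
        refine H85.mem_normalizerIn.2 ⟨Subtype.prop _, H85.mem_normalizer_of_conj ?_⟩
        rintro _ ⟨y, rfl⟩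
        have h1 : (x : G) * φ y * (x : G)⁻¹ ∈ R :=
          H85.conj_mem_of_mem_normalizer (H85.mem_normalizerIn.1 x.2).2 (hrange ▸ ⟨y, rfl⟩)
        obtain ⟨y', hy'⟩ : ∃ y', φ y' = (x : G) * φ y * (x : G)⁻¹ :=
          MonoidHom.mem_range.1 (hrange.symm ▸ h1)
        refine ⟨y', ?_⟩
        set x' : S := ⟨x, (H85.normalizerIn_le R) x.2⟩
        have h2 : a ⟨φ₀ y', H85.map_mem hφ₀ y'⟩ =
            x' * a ⟨φ₀ y, H85.map_mem hφ₀ y⟩ * x'⁻¹ := by
          refine Subtype.ext ?_
          rw [← heq, hy', heq y (H85.map_mem hφ₀ y)]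
          rfl
        have h3 := congrArg (fun z => ((a⁻¹ z : S) : G)) h2
        simpa [map_mul, map_inv] using h3⟩
    haveI := H85.finite_of_le (H85.normalizerIn_le (S := S) φ₀.range)
    refine Nat.card_le_card_of_injective f fun x y hxy => ?_
    have := congrArg Subtype.val hxy
    exact Subtype.ext (congrArg (fun z : S => (z : G)) ((a⁻¹).injective (Subtype.ext this)))
  let e := H85.isoOf φ₀ hφ₀ (rfl : φ₀.range = φ₀.range)
  have heF : H85.IsFIso F e := H85.isFIso_isoOf φ₀ (hE.1 P hφ₀) rfl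
  have heE : H85.IsFIso E e := H85.isFIso_isoOf φ₀ hφ₀ rfl
  let β : MulAut φ₀.range := MulAut.congr e α
  have hβ : β ∈ F.autGroup φ₀.range := (H85.mem_autGroup hn'.1).2
    ((heF.symm.trans ((H85.mem_autGroup hP).1 hα)).trans heF)
  have hβk : β ^ p ^ k = 1 := by rw [← map_pow, hk, map_one]
  have hβE := H87.pElement_mem_of_weaklyNormal hS hF hE hn' hβ hβk
  refine (H85.mem_autGroup hP).2 ?_
  refine H85.hom_congr (((heE.trans ((H85.mem_autGroup hn'.1).1 hβE)).trans heE.symm)) fun x => ?_
  show ((e.symm (e (α (e.symm (e x))))) : G) = (α x : G)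
  simp

variable [Finite G] [Fact p.Prime] (T : Sylow p G)

theorem conjHom_mem_group {P : Subgroup G} (hP : P ≤ (T : Subgroup G)) {g : G}
    (hg : g ∈ Subgroup.normalizer (P : Set G)) :
    conjHom P g ∈ (groupFusionSystem (T : Subgroup G)).Hom P :=
  ⟨hP, fun x => hP (H85.conj_mem_of_mem_normalizer hg x.2), g, fun _ => rfl⟩

theorem pElement_mem_acting {E : FusionSystem (T : Subgroup G)}
    (hE : E.IsInvariantIn (groupFusionSystem (T : Subgroup G))) {P : Subgroup G}
    (hP : P ≤ (T : Subgroup G)) {g : G} (hg : g ∈ Subgroup.normalizer (P : Set G)) {k : ℕ}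
    (hk : g ^ p ^ k = 1) : g ∈ acting E P := by
  refine ⟨⟨g, hg⟩, ?_, rfl⟩
  refine pElement_mem T.2 (H85.isSaturated_groupFusionSystem T) hE hP
    ((H85.mem_autGroup hP).2 (conjHom_mem_group T hP hg)) (k := k) ?_
  rw [← map_pow, show (⟨g, hg⟩ : Subgroup.normalizer (P : Set G)) ^ p ^ k = 1 from
    Subtype.ext hk, map_one]

theorem conj_mem_acting {E : FusionSystem (T : Subgroup G)}
    (hE : E.IsInvariantIn (groupFusionSystem (T : Subgroup G))) {P : Subgroup G}
    (hP : P ≤ (T : Subgroup G)) {g h : G} (hg : g ∈ Subgroup.normalizer (P : Set G))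
    (hh : h ∈ acting E P) : g * h * g⁻¹ ∈ acting E P := by
  obtain ⟨⟨h', hh'⟩, hE', rfl⟩ := hh
  refine ⟨⟨g, hg⟩ * ⟨h', hh'⟩ * ⟨g, hg⟩⁻¹, ?_, rfl⟩
  show P.normalizerMonoidHom _ ∈ E.autGroup P
  rw [map_mul, map_mul, map_inv]
  exact H87.autGroup_conj_mem hE hP ((H85.mem_autGroup hP).2 (conjHom_mem_group T hP hg)) hE'

/-- An element normalising `U` and a centric subgroup `P` of `U`, acting inside `E` on `P`, acts
inside `E` on `U`. -/
theorem acting_climb {E : FusionSystem (T : Subgroup G)} (hEs : E.IsSaturated p)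
    (hEF : E.IsSubsystemOf (groupFusionSystem (T : Subgroup G))) {U : Subgroup G}
    (hU : U ≤ (T : Subgroup G)) {g : G} (hgU : g ∈ Subgroup.normalizer (U : Set G)) :
    ∀ P : Subgroup G, P ≤ U → (groupFusionSystem (T : Subgroup G)).IsCentric P →
      g ∈ acting E P → g ∈ acting E U := by
  set F := groupFusionSystem (T : Subgroup G)
  suffices h : ∀ n, ∀ P : Subgroup G, Nat.card U - Nat.card P = n → P ≤ U → F.IsCentric P →
      g ∈ acting E P → g ∈ acting E U from fun P => h _ P rfl
  intro n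
  induction n using Nat.strong_induction_on with
  | _ n ih =>
    intro P hn hPU hc hgP
    obtain ⟨hgN, hres⟩ := (mem_acting hc.1).1 hgP
    rcases eq_or_lt_of_le hPU with rfl | hlt
    · exact (mem_acting hU).2 ⟨hgN, hres⟩
    · have hr : (conjHom P g).range = P := by
        refine Subgroup.eq_of_le_of_card_ge ?_ ?_
        · rintro _ ⟨x, rfl⟩; exact H85.conj_mem_of_mem_normalizer hgN x.2
        · rw [← Nat.card_congr (MonoidHom.ofInjective (E.injective_of_mem hres)).toEquiv]
      have hrec : E.IsReceptive P := H85.receptive_of_fullyCentralized T.2 hEs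
        (H85.centric_fullyCentralized (H87.subsystem_centric_self hEF hc))
      obtain ⟨ψ, hψ, hext⟩ := hrec.2 P _ hres hr
      set N := normalizerIn U P with hN
      have hNU : N ≤ U := H85.normalizerIn_le P
      have hgN' : g ∈ Subgroup.normalizer (N : Set G) := by
        refine H85.mem_normalizer_of_conj fun y hy => ?_
        obtain ⟨hyU, hyN⟩ := H85.mem_normalizerIn.1 hy
        exact H85.mem_normalizerIn.2 ⟨H85.conj_mem_of_mem_normalizer hgU hyU,
          mul_mem (mul_mem hgN hyN) (inv_mem hgN)⟩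
      have hNext : N ≤ extender (T : Subgroup G) P (conjHom P g) := by
        intro y hy
        obtain ⟨hyU, hyN⟩ := H85.mem_normalizerIn.1 hy
        refine H85.mem_extender.2 ⟨hU hyU, hyN, g * y * g⁻¹,
          hU (H85.conj_mem_of_mem_normalizer hgU hyU), fun x hx => ?_⟩
        show g * (y * x * y⁻¹) * g⁻¹ = g * y * g⁻¹ * (g * x * g⁻¹) * (g * y * g⁻¹)⁻¹
        group
      have hψ' := H85.restrict hψ hNext
      obtain ⟨z, hzP, -, hz⟩ := H85.centric_agree T.2 (H85.isSaturated_groupFusionSystem T)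
        (H85.le_normalizerIn hPU) hc (hEF N hψ') (conjHom_mem_group T (hNU.trans hU) hgN')
        (fun x hx => hext x hx (hNext x.2))
      have hPN : Nat.card P < Nat.card N := by
        haveI : IsPGroup p U := T.2.to_le hU
        have h := H85.lt_normalizerIn (T.2.to_le hU) hlt
        exact lt_of_le_of_ne (Subgroup.card_le_of_le h.le) fun he =>
          h.ne (Subgroup.eq_of_le_of_card_ge h.le he.ge)
      have hNcard : Nat.card N ≤ Nat.card U := Subgroup.card_le_of_le hNU
      refine ih (Nat.card U - Nat.card N) (by omega) N rfl hNU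
        (H85.centric_mono hc (H85.le_normalizerIn hPU) (hNU.trans hU))
        ((mem_acting (hNU.trans hU)).2 ⟨hgN', ?_⟩)
      refine H85.hom_congr (E.comp_mem (E.conj_mem (hNU.trans hU) (hc.1 hzP)) hψ'
        (fun y => H85.conj_mem_self (H85.le_normalizerIn hPU hzP) y)) (fun y => ?_)
      exact ((hz y).trans rfl).symm

/-- If in every weakly normal subsystem the whole normaliser of the Sylow subgroup acts on a
centric subgroup inside that subsystem, the fusion system is simple. -/
theorem isSimple_of_acting (hT1 : (T : Subgroup G) ≠ ⊥)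
    (ha : ∀ X : Subgroup G, (groupFusionSystem (T : Subgroup G)).StronglyClosed X →
      X = ⊥ ∨ X = (T : Subgroup G))
    (P : Subgroup G) (hc : (groupFusionSystem (T : Subgroup G)).IsCentric P)
    (hb : ∀ E : FusionSystem (T : Subgroup G),
      E.IsWeaklyNormalIn (groupFusionSystem (T : Subgroup G)) p →
      ∀ g ∈ Subgroup.normalizer ((T : Subgroup G) : Set G), g ∈ acting E P) :
    (groupFusionSystem (T : Subgroup G)).IsSimple p := by
  refine H87.isSimple_of_top (H85.isSaturated_groupFusionSystem T) hT1 ha (fun E hE => ?_)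
  intro α hα
  obtain ⟨g, -, hg⟩ := H85.mem_autInducedBy.1 (H87.autGroup_groupFusionSystem_top _ hα)
  have hgT : g ∈ Subgroup.normalizer ((T : Subgroup G) : Set G) :=
    H85.mem_normalizer_of_induced hg
  have h := acting_climb T hE.1 hE.2.2.1 le_rfl hgT P hc.1 hc (hb E hE g hgT)
  obtain ⟨-, hres⟩ := (mem_acting le_rfl).1 h
  exact (H85.mem_autGroup le_rfl).2 (H85.hom_congr hres fun x => (hg x).symm)

end AutCrit
end H67
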