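import Mathlib
import Cfsg.Agent.H67.AltBlocks
import Cfsg.Agent.H67.AltStrong
import Cfsg.Agent.H67.AutCriterion
import Cfsg.Agent.H63.SylowTwoSelfNorm

/-!
Simplicity of the fusion systems of alternating groups.
-/
set_option autoImplicit false

namespace H67
namespace AltFusion

open Cfsg Cfsg.FusionSystem Equiv Equiv.Perm AltBlocks

variable {p k r : ℕ} [Fact p.Prime] {α : Type*} [Fintype α] [DecidableEq α]

omit [Fact p.Prime] [Fintype α] [DecidableEq α] in
@[simp] theorem model_cancel (e : Pt p k r ≃ α) (g : Perm (Pt p k r)) :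
    e.symm.permCongr (e.permCongr g) = g := Equiv.ext fun x => by simp [Equiv.permCongr_apply]

omit [Fact p.Prime] [Fintype α] [DecidableEq α] in
@[simp] theorem model_cancel' (e : Pt p k r ≃ α) (g : Perm α) :
    e.permCongr (e.symm.permCongr g) = g := Equiv.ext fun x => by simp [Equiv.permCongr_apply]

/-- The subgroup of the alternating group of `α` given by a group of model permutations. -/
def liftSub (e : Pt p k r ≃ α) (M : Subgroup (Perm (Pt p k r))) : Subgroup (alternatingGroup α) :=
  (M.map e.permCongrHom.toMonoidHom).subgroupOf (alternatingGroup α)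

theorem mem_liftSub {e : Pt p k r ≃ α} {M : Subgroup (Perm (Pt p k r))} {x : alternatingGroup α} :
    x ∈ liftSub e M ↔ e.permCongrHom.symm (x : Perm α) ∈ M := by
  rw [liftSub, Subgroup.mem_subgroupOf, Subgroup.mem_map]
  constructor
  · rintro ⟨y, hy, h⟩
    rw [← h]
    simpa using hy
  · exact fun h => ⟨_, h, by simp⟩

theorem liftSub_mono (e : Pt p k r ≃ α) {M N : Subgroup (Perm (Pt p k r))} (h : M ≤ N) :
    liftSub e M ≤ liftSub e N := fun _ hx => mem_liftSub.2 (h (mem_liftSub.1 hx))

theorem liftSub_isPGroup (e : Pt p k r ≃ α) {M : Subgroup (Perm (Pt p k r))} (h : IsPGroup p M) :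
    IsPGroup p (liftSub e M) :=
  (h.map e.permCongrHom.toMonoidHom).comap_of_injective _ Subtype.val_injective

theorem sign_model (e : Pt p k r ≃ α) (g : Perm (Pt p k r)) :
    sign (e.permCongrHom g) = sign g := sign_permCongr e g

/-- The element of the alternating group of `α` of an even model permutation. -/
def toA (e : Pt p k r ≃ α) (g : Perm (Pt p k r)) (hg : g ∈ alternatingGroup (Pt p k r)) :
    alternatingGroup α :=
  ⟨e.permCongrHom g, mem_alternatingGroup.2 ((sign_model e g).trans (mem_alternatingGroup.1 hg))⟩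

theorem toA_mem {e : Pt p k r ≃ α} {M : Subgroup (Perm (Pt p k r))} {g : Perm (Pt p k r)}
    (hg : g ∈ alternatingGroup (Pt p k r)) : toA e g hg ∈ liftSub e M ↔ g ∈ M := by
  rw [mem_liftSub]
  show e.permCongrHom.symm (e.permCongrHom g) ∈ M ↔ _
  rw [MulEquiv.symm_apply_apply]

theorem normalizes_iff {e : Pt p k r ≃ α} {M : Subgroup (Perm (Pt p k r))}
    (hM : M ≤ alternatingGroup (Pt p k r)) {x : alternatingGroup α} :
    x ∈ Subgroup.normalizer (liftSub e M : Set (alternatingGroup α)) ↔
      e.permCongrHom.symm (x : Perm α) ∈ Subgroup.normalizer (M : Set (Perm (Pt p k r))) := by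
  constructor
  · intro hx
    refine Subgroup.mem_normalizer_iff.2 fun m => ?_
    constructor
    · intro hm
      have := (Subgroup.mem_normalizer_iff.1 hx _).1 ((toA_mem (hM hm)).2 hm)
      rw [mem_liftSub] at this
      simpa [toA, map_mul, map_inv] using this
    · intro hm
      have hme : m ∈ alternatingGroup (Pt p k r) := by
        have := mem_alternatingGroup.1 (hM hm)
        rw [map_mul, map_mul, map_inv, mul_comm (sign _) (sign m), mul_inv_cancel_right] at this
        exact mem_alternatingGroup.2 this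
      have := (Subgroup.mem_normalizer_iff.1 hx (toA e m hme)).2
        (mem_liftSub.2 (by simpa [toA, map_mul, map_inv] using hm))
      exact (toA_mem hme).1 this
  · intro hx
    refine Subgroup.mem_normalizer_iff.2 fun m => ?_
    rw [mem_liftSub, mem_liftSub, Subgroup.coe_mul, Subgroup.coe_mul, map_mul, map_mul,
      Subgroup.coe_inv, map_inv]
    exact Subgroup.mem_normalizer_iff.1 hx _

theorem centralizer_conj_le {M : Subgroup (Perm (Pt p k r))}
    (hM : M ≤ alternatingGroup (Pt p k r)) (hC : Subgroup.centralizer (M : Set (Perm (Pt p k r))) ≤ M)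
    (e : Pt p k r ≃ α) (S : Subgroup (alternatingGroup α)) (hMS : liftSub e M ≤ S) :
    (groupFusionSystem S).IsCentric (liftSub e M) := by
  refine ⟨hMS, ?_⟩
  rintro Q ⟨φ, ⟨-, -, g, hg⟩, hQ⟩ c hc
  obtain ⟨-, hcC⟩ := hc
  have h1 : g⁻¹ * c * g ∈ liftSub e M := by
    rw [mem_liftSub]
    refine hC (Subgroup.mem_centralizer_iff.2 fun m hm => ?_)
    have h2 := Subgroup.mem_centralizer_iff.1 hcC (φ ⟨toA e m (hM hm), (toA_mem _).2 hm⟩)
      (hQ ▸ ⟨_, rfl⟩)
    rw [hg] at h2
    have h3 : toA e m (hM hm) * (g⁻¹ * c * g) = g⁻¹ * c * g * toA e m (hM hm) := by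
      calc toA e m (hM hm) * (g⁻¹ * c * g) = g⁻¹ * (g * toA e m (hM hm) * g⁻¹ * c) * g := by group
        _ = g⁻¹ * (c * (g * toA e m (hM hm) * g⁻¹)) * g := by rw [h2]
        _ = g⁻¹ * c * g * toA e m (hM hm) := by group
    have h4 := congrArg (fun z : alternatingGroup α => e.permCongrHom.symm (z : Perm α)) h3
    simp only [Subgroup.coe_mul, map_mul] at h4
    simpa [toA, map_mul] using h4
  rw [← hQ]
  refine ⟨⟨_, h1⟩, ?_⟩
  rw [hg]
  group

theorem cycle_eq_zero_of_small {x : Perm α} {i : ℕ} (hx : x ^ p ^ i = 1)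
    (hs : x.support.card < p) : x = 1 := by
  by_contra h
  obtain ⟨c, hc⟩ := Multiset.exists_mem_of_ne_zero (fun h0 => h (cycleType_eq_zero.1 h0))
  obtain ⟨j, -, hj⟩ := (Nat.dvd_prime_pow Fact.out).1
    ((dvd_of_mem_cycleType hc).trans (orderOf_dvd_of_pow_eq_one hx))
  have h2 := two_le_of_mem_cycleType hc
  have h3 : j ≠ 0 := by rintro rfl; simp at hj; omega
  have h4 : p ≤ c := hj ▸ Nat.le_self_pow h3 p
  have h5 := le_card_support_of_mem_cycleType hc
  omega

/-- Two elements of order `p` with supports of size `p` in one `p`-group and a common moved point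
generate the same subgroup. -/
theorem mem_zpowers_of_meet {K : Subgroup (Perm α)} (hK : IsPGroup p K) {c d : Perm α}
    (hc : c ∈ K) (hd : d ∈ K) (hcp : c ^ p = 1) (hdp : d ^ p = 1) (hcs : c.support.card = p)
    (hds : d.support.card = p) {w : α} (hwc : c w ≠ w) (hwd : d w ≠ w) :
    d ∈ Subgroup.zpowers c := by
  have hp := (Fact.out : p.Prime)
  set L := Subgroup.closure ({c, d} : Set (Perm α)) with hL
  have hLK : L ≤ K := (Subgroup.closure_le _).2 (by rintro x (rfl | rfl); exacts [hc, hd])
  have hcL : c ∈ L := Subgroup.subset_closure (Or.inl rfl)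
  have hcd : Subgroup.zpowers c ≤ L := Subgroup.zpowers_le.2 hcL
  by_contra hdn
  have hlt : Subgroup.zpowers c < L :=
    lt_of_le_of_ne hcd fun h => hdn (h ▸ Subgroup.subset_closure (Or.inr rfl))
  obtain ⟨y, hyN, hy⟩ := SetLike.exists_of_lt (H85.lt_normalizerIn (hK.to_le hLK) hlt)
  obtain ⟨hyL, hyN⟩ := H85.mem_normalizerIn.1 hyN
  -- `y` centralises `c`
  have hcord : orderOf c = p := orderOf_eq_prime hcp (fun h => hwc (by rw [h]; rfl))
  obtain ⟨j, hj⟩ := (Subgroup.mem_zpowers_iff).1
    (H85.conj_mem_of_mem_normalizer hyN (Subgroup.mem_zpowers c))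
  have hcomm : Commute y c := by
    let N := Subgroup.zpowers c
    obtain ⟨i, hi⟩ := hK ⟨y, hLK hyL⟩
    have hyi : y ^ p ^ i = 1 := congrArg Subtype.val hi
    have hpow : ∀ n : ℕ, y ^ n * c * (y ^ n)⁻¹ = c ^ (j ^ n : ℤ) := by
      intro n
      induction n with
      | zero => simp
      | succ n ih =>
        rw [pow_succ', show y * y ^ n * c * (y * y ^ n)⁻¹ = y * (y ^ n * c * (y ^ n)⁻¹) * y⁻¹ by group,
          ih, ← conj_zpow, ← hj, ← zpow_mul, pow_succ']
    have h1 := hpow (p ^ i)
    rw [hyi, one_mul, inv_one, mul_one] at h1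
    have h2 : (orderOf c : ℤ) ∣ 1 - j ^ p ^ i := by
      rw [orderOf_dvd_iff_zpow_eq_one, zpow_sub, zpow_one, ← h1, mul_inv_cancel]
    rw [hcord, ← ZMod.intCast_eq_intCast_iff_dvd_sub] at h2
    simp only [Int.cast_pow, Int.cast_one, ZMod.pow_card_pow] at h2
    have h3 : c ^ j = c := by
      have h4 : c ^ (j - 1) = 1 := by
        rw [← orderOf_dvd_iff_zpow_eq_one, hcord, ← ZMod.intCast_eq_intCast_iff_dvd_sub]
        simpa using h2.symm
      rw [← sub_add_cancel j 1, zpow_add, h4, one_mul, zpow_one]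
    rw [h3] at hj
    show y * c = c * y
    conv_rhs => rw [hj]
    group
  -- the union of the two supports is invariant
  set U := c.support ∪ d.support
  have hfix : ∀ x ∈ L, ∀ u, u ∉ U → x u = u := by
    intro x hx
    induction hx using Subgroup.closure_induction with
    | mem x hx =>
      intro u hu
      rw [Finset.notMem_union] at hu
      rcases hx with rfl | rfl
      · exact notMem_support.1 hu.1
      · exact notMem_support.1 hu.2
    | one => simp
    | mul a b _ _ ha hb => intro u hu; rw [Perm.mul_apply, hb u hu, ha u hu]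
    | inv a _ ha => intro u hu; rw [Perm.inv_eq_iff_eq, ha u hu]
  have hccyc : c.IsCycle := isCycle_of_prime_order (hcord.symm ▸ hp) (by
    rw [hcord, hcs]; have := hp.pos; omega)
  obtain ⟨m, hm⟩ : ∃ m : ℤ, (c ^ m) w = y w := by
    refine hccyc.exists_zpow_eq hwc fun h => ?_
    have : c (y w) = y (c w) := (congrArg (fun f : Perm α => f w) hcomm.eq).symm
    exact hwc (y.injective (this.symm.trans h))
  set z := c ^ (-m) * y with hz
  have hzL : z ∈ L := mul_mem (zpow_mem hcL _) hyL
  have hzC : ∀ u, c u ≠ u → z u = u := by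
    intro u hu
    obtain ⟨n, rfl⟩ := hccyc.exists_zpow_eq hwc hu
    have h1 : z w = w := by
      rw [hz, Perm.mul_apply, ← hm, ← Perm.mul_apply, ← zpow_add, neg_add_cancel]; rfl
    have h2 : Commute z (c ^ n) :=
      (((Commute.refl c).zpow_left _).mul_left hcomm).zpow_right n
    calc z ((c ^ n) w) = (c ^ n) (z w) := congrArg (fun f : Perm α => f w) h2.eq
      _ = (c ^ n) w := by rw [h1]
  obtain ⟨i, hi⟩ := hK ⟨z, hLK hzL⟩
  have hz1 : z = 1 := by
    refine cycle_eq_zero_of_small (congrArg Subtype.val hi) ?_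
    refine lt_of_le_of_lt (Finset.card_le_card (t := d.support.erase w) fun u hu => ?_) ?_
    · rw [mem_support] at hu
      refine Finset.mem_erase.2 ⟨fun h => hu (hzC u (h ▸ hwc)), ?_⟩
      by_contra hud
      exact hu (hfix z hzL u (by
        rw [Finset.notMem_union]
        exact ⟨notMem_support.2 (by_contra fun hh => hu (hzC u hh)), hud⟩))
    · rw [Finset.card_erase_of_mem (mem_support.2 hwd), hds]
      have := hp.pos; omega
  refine hy ?_
  rw [hz, zpow_neg, inv_mul_eq_one] at hz1
  exact ⟨m, hz1⟩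

theorem support_cyc (i : Blk p k) :
    (cyc (r := r) i).support = (Finset.univ : Finset (ZMod p)).map
      ⟨fun y => Sum.inl (i, y), fun a b h => congrArg Prod.snd (Sum.inl.inj h)⟩ := by
  refine Finset.ext ?_
  rintro (⟨j, y⟩ | u)
  · rw [mem_support, Finset.mem_map]
    by_cases h : j = i
    · subst h
      exact iff_of_true (by simp [cyc]) ⟨y, Finset.mem_univ _, rfl⟩
    · refine iff_of_false (by simp [cyc, h]) ?_
      rintro ⟨z, -, hz⟩
      exact h (congrArg Prod.fst (Sum.inl.inj hz)).symm
  · rw [mem_support, Finset.mem_map]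
    refine iff_of_false (by simp [cyc]) ?_
    rintro ⟨z, -, hz⟩
    exact Sum.inl_ne_inr hz

/-- The normaliser of a Sylow subgroup containing the blocks normalises them. -/
theorem normalizer_le {S : Sylow p (alternatingGroup α)} (hp2 : p ≠ 2) (hr : r ≤ 1)
    (e : Pt p k r ≃ α) (hE : liftSub e Emod ≤ (S : Subgroup (alternatingGroup α))) :
    Subgroup.normalizer ((S : Subgroup (alternatingGroup α)) : Set (alternatingGroup α)) ≤
      Subgroup.normalizer (liftSub e Emod : Set (alternatingGroup α)) := by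
  have hp := (Fact.out : p.Prime)
  have hA : Emod (p := p) (k := k) (r := r) ≤ alternatingGroup _ := by
    rintro _ ⟨v, rfl⟩; exact transl_mem_alternating hp2 v
  intro g hg
  set f : alternatingGroup α →* Perm (Pt p k r) :=
    e.permCongrHom.symm.toMonoidHom.comp (alternatingGroup α).subtype with hf
  have key : ∀ i, f g * cyc i * (f g)⁻¹ ∈ Emod (p := p) (k := k) (r := r) := by
    intro i
    set K := (S : Subgroup (alternatingGroup α)).map f
    have hK : IsPGroup p K := S.2.map f
    have hmem : ∀ j : Blk p k, cyc (r := r) j ∈ K := by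
      intro j
      refine ⟨toA e (cyc j) (hA ⟨_, rfl⟩), hE ((toA_mem _).2 ⟨_, rfl⟩), ?_⟩
      simp [hf, toA]
    have hd : f g * cyc i * (f g)⁻¹ ∈ K := by
      obtain ⟨x, hx, hxc⟩ := hmem i
      exact ⟨g * x * g⁻¹, H85.conj_mem_of_mem_normalizer hg hx, by
        rw [map_mul, map_mul, map_inv, hxc]⟩
    have hdp : (f g * cyc (r := r) i * (f g)⁻¹) ^ p = 1 := by
      rw [conj_pow, cyc, transl_pow_p]; group
    have hcs : ∀ j : Blk p k, (cyc (r := r) j).support.card = p := fun j => by
      rw [support_cyc, Finset.card_map, Finset.card_univ, ZMod.card]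
    have hds : (f g * cyc (r := r) i * (f g)⁻¹).support.card = p := by
      rw [card_support_conj, hcs]
    obtain ⟨j, y, hjy⟩ : ∃ j y, (f g * cyc (r := r) i * (f g)⁻¹) (Sum.inl (j, y)) ≠ Sum.inl (j, y) := by
      by_contra h
      push Not at h
      have hsub : (f g * cyc (r := r) i * (f g)⁻¹).support ⊆
          (Finset.univ : Finset (Fin r)).map ⟨Sum.inr, Sum.inr_injective⟩ := by
        rintro (⟨j, y⟩ | u) hx
        · exact absurd (h j y) (mem_support.1 hx)
        · simp
      have := Finset.card_le_card hsub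
      rw [hds, Finset.card_map, Finset.card_univ, Fintype.card_fin] at this
      have := hp.two_le
      omega
    have hjc : cyc (r := r) j (Sum.inl (j, y)) ≠ Sum.inl (j, y) := by
      rw [← mem_support, support_cyc, Finset.mem_map]; exact ⟨y, Finset.mem_univ _, rfl⟩
    obtain ⟨m, hm⟩ := Subgroup.mem_zpowers_iff.1 (mem_zpowers_of_meet hK (hmem j) hd
      (transl_pow_p _) hdp (hcs j) hds hjc hjy)
    rw [← hm]
    exact zpow_mem (show cyc j ∈ Emod from ⟨_, rfl⟩) m
  rw [normalizes_iff hA]
  show f g ∈ _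
  refine H85.mem_normalizer_of_conj ?_
  rintro _ ⟨v, rfl⟩
  have hv : transl (r := r) v ∈ Subgroup.closure (Set.range fun i => cyc (p := p) (k := k) (r := r) i) := by
    have h : v = ∑ i, (v i).val • (Pi.single i 1 : Blk p k → ZMod p) := by
      funext j
      rw [Finset.sum_apply, Finset.sum_eq_single j]
      · simp
      · intro b _ hb; simp [Pi.single_eq_of_ne (Ne.symm hb)]
      · simp
    rw [h]
    refine Finset.sum_induction _ (fun w => transl (r := r) w ∈ Subgroup.closure _)
      (fun a b ha hb => by rw [transl_add]; exact mul_mem ha hb)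
      (by rw [transl_zero]; exact one_mem _) fun i _ => ?_
    rw [← transl_nsmul]
    exact pow_mem (Subgroup.subset_closure (Set.mem_range_self i)) _
  generalize transl (r := r) v = σ at hv
  induction hv using Subgroup.closure_induction with
  | mem σ hσ => obtain ⟨i, rfl⟩ := hσ; exact key i
  | one => simp
  | mul a b _ _ ha hb => simpa [mul_assoc] using mul_mem ha hb
  | inv a _ ha => simpa [mul_assoc] using inv_mem ha

theorem hom_pgroup {M : Subgroup (Perm (Pt p k r))} (hp2 : p ≠ 2) (hM : IsPGroup p M) :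
    M ≤ alternatingGroup (Pt p k r) := by
  intro x hx
  obtain ⟨i, hi⟩ := hM ⟨x, hx⟩
  exact AltStrong.mem_alt_odd hp2 (congrArg Subtype.val hi)

/-- The odd case. -/
theorem isSimple_odd (hp2 : p ≠ 2) (hr : r ≤ 1) (e₀ : Pt p k r ≃ α)
    (S : Sylow p (alternatingGroup α)) :
    (groupFusionSystem (S : Subgroup (alternatingGroup α))).IsSimple p := by
  have hp := (Fact.out : p.Prime)
  obtain ⟨t, ht⟩ := IsCyclic.exists_generator (α := (ZMod p)ˣ)
  have hW : Wmod (p := p) (k := k) (r := r) ≤ alternatingGroup _ :=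
    hom_pgroup hp2 Wmod_isPGroup
  -- choose coordinates
  obtain ⟨T, hT⟩ := (liftSub_isPGroup e₀ (Wmod_isPGroup (p := p) (k := k) (r := r))).exists_le_sylow
  obtain ⟨g, hg⟩ := MulAction.exists_smul_eq (alternatingGroup α) T S
  set e : Pt p k r ≃ α := e₀.trans (g : Perm α) with he
  have hWS : liftSub e Wmod ≤ (S : Subgroup (alternatingGroup α)) := by
    intro x hx
    rw [← hg]
    have : g⁻¹ * x * g ∈ (T : Subgroup (alternatingGroup α)) := by
      refine hT (mem_liftSub.2 ?_)
      have h := mem_liftSub.1 hx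
      have heq : e₀.permCongrHom.symm ((g⁻¹ * x * g : alternatingGroup α) : Perm α) =
          e.permCongrHom.symm (x : Perm α) := by
        refine Equiv.ext fun q => ?_
        rfl
      rwa [heq]
    refine ⟨_, this, ?_⟩
    show g * (g⁻¹ * x * g) * g⁻¹ = x
    group
  set F := groupFusionSystem (S : Subgroup (alternatingGroup α))
  set E := liftSub e (Emod (p := p) (k := k) (r := r))
  have hEW : E ≤ liftSub e Wmod := liftSub_mono e Emod_le_Wmod
  have hES : E ≤ (S : Subgroup (alternatingGroup α)) := hEW.trans hWS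
  have hEA : Emod (p := p) (k := k) (r := r) ≤ alternatingGroup _ := Emod_le_Wmod.trans hW
  have hRA : Rmod (p := p) (k := k) (r := r) ≤ alternatingGroup _ := Rmod_le_Wmod.trans hW
  have hRS : liftSub e Rmod ≤ (S : Subgroup (alternatingGroup α)) :=
    (liftSub_mono e Rmod_le_Wmod).trans hWS
  have hRc := centralizer_conj_le hRA (centralizer_Rmod hr) e _ hRS
  have hEc := centralizer_conj_le hEA (centralizer_Emod hr) e _ hES
  have hS1 : (S : Subgroup (alternatingGroup α)) ≠ ⊥ := by
    intro h
    have h1 : toA e (cyc (Sum.inl 0)) (hEA ⟨_, rfl⟩) ∈ (S : Subgroup (alternatingGroup α)) :=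
      hES ((toA_mem _).2 ⟨_, rfl⟩)
    rw [h, Subgroup.mem_bot] at h1
    have h2 := congrArg (fun z : alternatingGroup α =>
      (e.permCongrHom.symm (z : Perm α)) (Sum.inl (Sum.inl 0, 0))) h1
    simp [toA, cyc] at h2
  have hcard : p + 2 ≤ Fintype.card α := by
    rw [← Fintype.card_congr e₀]
    simp only [Fintype.card_sum, Fintype.card_prod, ZMod.card, Fintype.card_fin]
    have := hp.two_le
    nlinarith
  refine AutCrit.isSimple_of_acting S hS1 (fun X hX => ?_) E hEc ?_
  · by_cases hX1 : X = ⊥
    · exact Or.inl hX1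
    · exact Or.inr (AltStrong.eq_of_stronglyClosed_odd hp2 hcard hX hX1)
  intro E' hE' n hn
  have hnE := normalizer_le hp2 hr e hES hn
  let L : Subgroup (Perm (Pt p k r)) :=
    ((AutCrit.acting E' E).map (alternatingGroup α).subtype).comap e.permCongrHom.toMonoidHom
  have hLmem : ∀ {x : Perm (Pt p k r)} (hx : x ∈ alternatingGroup (Pt p k r)),
      toA e x hx ∈ AutCrit.acting E' E → x ∈ L := fun hx h => ⟨_, h, rfl⟩
  have hpel : ∀ (P : Subgroup (Perm (Pt p k r))), P ≤ alternatingGroup _ →
      liftSub e P ≤ (S : Subgroup (alternatingGroup α)) →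
      ∀ x ∈ Subgroup.normalizer (P : Set (Perm (Pt p k r))), ∀ hx : x ∈ alternatingGroup _,
        x ^ p = 1 → toA e x hx ∈ AutCrit.acting E' (liftSub e P) := by
    intro P hP hPS x hxN hx hxp
    refine AutCrit.pElement_mem_acting S hE'.2.2 hPS ((normalizes_iff hP).2 ?_) (k := 1) ?_
    · simpa [toA] using hxN
    · refine Subtype.ext ?_
      show (e.permCongrHom x) ^ p ^ 1 = 1
      rw [pow_one, ← map_pow, hxp, map_one]
  have hsh : ∀ c : ZMod p, shear (k := k) (r := r) c ∈ alternatingGroup _ :=
    fun c => AltStrong.mem_alt_odd hp2 (k := 1) (by rw [pow_one]; exact shear_pow_p c)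
  have hsh' : ∀ c : ZMod p, shear' (k := k) (r := r) c ∈ alternatingGroup _ :=
    fun c => transl_mem_alternating hp2 _
  have hde : diag (k := k) (r := r) t ∈ alternatingGroup _ := by
    rw [diag_eq]
    exact mul_mem (mul_mem (mul_mem (hsh _) (hsh' _)) (hsh _))
      (mul_mem (mul_mem (hsh _) (hsh' _)) (hsh _))
  -- the diagonal map acts inside `E'` on `R`, hence on `W` and on `E`
  have hdR : toA e (diag t) hde ∈ AutCrit.acting E' (liftSub e Rmod) := by
    have h1 := fun c => hpel Rmod hRA hRS _ (shear_normalizes c) (hsh c) (shear_pow_p c)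
    have h2 := fun c => hpel Rmod hRA hRS _ (shear'_normalizes c) (hsh' c) (transl_pow_p _)
    have := mul_mem (mul_mem (mul_mem (h1 (t : ZMod p))
      (h2 (-((t⁻¹ : (ZMod p)ˣ) : ZMod p)))) (h1 (t : ZMod p)))
      (mul_mem (mul_mem (h1 (-1)) (h2 1)) (h1 (-1)))
    convert this using 1
    refine Subtype.ext ?_
    show e.permCongrHom (diag t) = _
    rw [diag_eq, map_mul, map_mul, map_mul, map_mul, map_mul]
    rfl
  have hdW := AutCrit.acting_climb S hE'.1 hE'.2.2.1 hWS
    ((normalizes_iff hW).2 (by simpa [toA] using diag_normalizes_Wmod t)) _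
    (liftSub_mono e Rmod_le_Wmod) hRc hdR
  have hdE : toA e (diag t) hde ∈ AutCrit.acting E' E := by
    refine (AutCrit.mem_acting hES).2 ⟨(normalizes_iff hEA).2 (by
      simpa [toA, diag] using mon_mem_normalizer (p := p) (k := k) (r := r) _ _), ?_⟩
    exact H85.hom_congr (H85.restrict ((AutCrit.mem_acting hWS).1 hdW).2 hEW) fun x => rfl
  have hLe : ∀ l ∈ L, l ∈ alternatingGroup (Pt p k r) := by
    rintro l ⟨y, -, hy⟩
    rw [mem_alternatingGroup, ← sign_model e l]
    exact hy ▸ mem_alternatingGroup.1 y.2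
  have hn' : e.permCongrHom.symm (n : Perm α) ∈ L := by
    refine mem_of_closed hp2 hr ht L (fun x hxN hx hxp => hLmem hx (hpel _ hEA hES x hxN hx hxp))
      ?_ hLe (hLmem hde hdE) hde ((normalizes_iff hEA).1 hnE) ?_
    · intro x hxN hx l hl
      obtain ⟨y, hy, hyl⟩ := hl
      refine ⟨toA e x hx * y * (toA e x hx)⁻¹, AutCrit.conj_mem_acting S hE'.2.2 hES
        ((normalizes_iff hEA).2 (by simpa [toA] using hxN)) hy, ?_⟩
      show e.permCongrHom x * (alternatingGroup α).subtype y * (e.permCongrHom x)⁻¹ = _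
      rw [hyl]
      simp [map_mul, map_inv]
    · rw [mem_alternatingGroup, ← sign_model e]
      simpa using mem_alternatingGroup.1 n.2
  obtain ⟨y, hy, hyn⟩ := hn'
  have : y = n := by
    refine Subtype.ext (show (y : Perm α) = n from hyn.trans ?_)
    simp
  exact this ▸ hy

theorem isSimple (n p : ℕ) (hn : 6 ≤ n) [Fact p.Prime] (hnp : p ^ 2 ≤ n) (hb : n % p ≤ 1)
    (S : Sylow p (alternatingGroup (Fin n))) :
    (groupFusionSystem (S : Subgroup (alternatingGroup (Fin n)))).IsSimple p := by
  have hp := (Fact.out : p.Prime)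
  rcases eq_or_ne p 2 with rfl | hp2
  · have hF := H85.isSaturated_groupFusionSystem S
    have hS1 : (S : Subgroup (alternatingGroup (Fin n))) ≠ ⊥ := by
      refine Sylow.ne_bot_of_dvd_card S ?_
      have h2 := (haveI : Nontrivial (Fin n) := Fin.nontrivial_iff_two_le.2 (by omega); two_mul_nat_card_alternatingGroup (α := Fin n))
      rw [Nat.card_perm, Nat.card_fin] at h2
      have h24 : 4 ∣ n.factorial := dvd_trans (by decide) (Nat.factorial_dvd_factorial (show 4 ≤ n by omega))
      omega
    refine AutCrit.isSimple_of_acting S hS1 (fun X hX => ?_) (S : Subgroup _)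
      (H85.centric_top _) (fun E hE g hg => ?_)
    · by_cases hX1 : X = ⊥
      · exact Or.inl hX1
      · exact Or.inr (AltStrong.eq_of_stronglyClosed_two rfl hX hX1)
    · have hgS := hg
      rw [H63.normalizer_sylowTwo_alternating (by simpa using hn) S] at hgS
      obtain ⟨i, hi⟩ := S.2 ⟨g, hgS⟩
      exact AutCrit.pElement_mem_acting S hE.2.2 le_rfl hg (congrArg Subtype.val hi)
  · obtain ⟨k, hk⟩ : ∃ k, n / p = p + k := by
      refine Nat.exists_eq_add_of_le ?_
      rw [Nat.le_div_iff_mul_le hp.pos, ← sq]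
      exact hnp
    have hcard : Fintype.card (Pt p k (n % p)) = n := by
      simp only [Fintype.card_sum, Fintype.card_prod, ZMod.card, Fintype.card_fin]
      rw [← hk, mul_comm, Nat.div_add_mod]
    exact isSimple_odd hp2 hb (Fintype.equivFinOfCardEq hcard) S

end AltFusion
end H67
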