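import Cfsg.Agent.H67.Inversion
import Cfsg.Agent.H83.TrivAction
/-!
An element normalising an elementary abelian subgroup of order at most `p²`, with `p`-th power
centralising it, acts quadratically; so `(v y)^p = y^p` for odd `p`.
-/
set_option autoImplicit false

namespace H67

variable {p : ℕ} [Fact p.Prime]

theorem shift_fixed {V : Type*} [CommGroup V] [Finite V] (hexp : ∀ v : V, v ^ p = 1)
    (hcard : Nat.card V ≤ p ^ 2) (σ : MulAut V) (hσ : σ ^ p = 1) (v : V) :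
    σ (v⁻¹ * σ v) = v⁻¹ * σ v := by
  classical
  have hp := (Fact.out : p.Prime)
  have hV : IsPGroup p V := fun v => ⟨1, by rw [pow_one, hexp]⟩
  let δ : V →* V := MonoidHom.mk' (fun v => v⁻¹ * σ v) fun a b => by
    rw [map_mul, mul_inv_rev]
    simp [mul_comm, mul_left_comm, mul_assoc]
  by_cases hbot : δ.range = ⊥
  · have h1 : δ v = 1 := Subgroup.mem_bot.mp (hbot ▸ (⟨v, rfl⟩ : δ v ∈ δ.range))
    show σ (δ v) = δ v
    rw [h1, map_one]
  obtain ⟨w, hw, hw1, hwf⟩ := exists_fixed_mem δ.range hV hbot σ hσ (by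
    rintro _ ⟨v, rfl⟩
    exact ⟨σ v, by show (σ v)⁻¹ * σ (σ v) = σ (v⁻¹ * σ v); rw [map_mul, map_inv]⟩)
  have hwp : Nat.card (Subgroup.zpowers w) = p := by
    rw [Nat.card_zpowers, orderOf_eq_prime (hexp w) hw1]
  have hker : Subgroup.zpowers w ≤ δ.ker := Subgroup.zpowers_le.mpr (MonoidHom.mem_ker.mpr (by
    show w⁻¹ * σ w = 1
    rw [hwf, inv_mul_cancel]))
  have h1 := Subgroup.card_mul_index δ.ker
  rw [Subgroup.index_ker] at h1
  have h2 : p ≤ Nat.card δ.ker := hwp ▸ Subgroup.card_le_of_le hker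
  have h3 : Nat.card δ.range ≤ p := by
    by_contra hlt
    rw [← h1, sq] at hcard
    have : p * p < Nat.card δ.ker * Nat.card δ.range :=
      lt_of_lt_of_le (Nat.mul_lt_mul_of_pos_left (not_le.mp hlt) hp.pos)
        (Nat.mul_le_mul_right _ h2)
    omega
  have h4 : Subgroup.zpowers w = δ.range :=
    Subgroup.eq_of_le_of_card_ge (Subgroup.zpowers_le.mpr hw) (by rw [hwp]; exact h3)
  obtain ⟨k, hk⟩ := Subgroup.mem_zpowers_iff.mp (h4.ge ⟨v, rfl⟩ : δ v ∈ Subgroup.zpowers w)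
  show σ (δ v) = δ v
  rw [← hk, map_zpow, hwf]

theorem mul_pow_prime_eq {Q : Type*} [Group Q] [Finite Q] (hp2 : p ≠ 2) (W : Subgroup Q)
    (hc : ∀ a ∈ W, ∀ b ∈ W, a * b = b * a) (hexp : ∀ a ∈ W, a ^ p = 1)
    (hcard : Nat.card W ≤ p ^ 2) {y : Q} (hy : y ∈ Subgroup.normalizer (W : Set Q))
    (hyp : ∀ a ∈ W, Commute (y ^ p) a) {x : Q} (hx : x ∈ W) : (x * y) ^ p = y ^ p := by
  have hp := (Fact.out : p.Prime)
  letI : CommGroup W :=
    { (inferInstance : Group W) with mul_comm := fun a b => Subtype.ext (hc _ a.2 _ b.2) }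
  let σ : MulAut W := Subgroup.normalizerMonoidHom W ⟨y⁻¹, inv_mem hy⟩
  have hσv : ∀ (m : ℕ) (a : W), (((σ ^ m) a : W) : Q) = (y ^ m)⁻¹ * a * y ^ m := by
    intro m
    induction m with
    | zero => intro a; simp
    | succ m ih =>
      intro a
      rw [pow_succ', MulAut.mul_apply]
      show y⁻¹ * (((σ ^ m) a : W) : Q) * y⁻¹⁻¹ = _
      rw [ih, pow_succ]
      group
  have hσp : σ ^ p = 1 := by
    refine MulEquiv.ext fun a => Subtype.ext ?_
    rw [hσv, mul_assoc, ← (hyp a a.2).eq, inv_mul_cancel_left]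
    rfl
  set c : W := (⟨x, hx⟩ : W)⁻¹ * σ ⟨x, hx⟩ with hcdef
  have hcy : σ c = c := shift_fixed (fun a => Subtype.ext (hexp a a.2)) hcard σ hσp ⟨x, hx⟩
  have hcv : (c : Q) = x⁻¹ * (y⁻¹ * x * y) := by
    rw [hcdef, Subgroup.coe_mul, Subgroup.coe_inv]
    congr 1
    simpa using hσv 1 ⟨x, hx⟩
  have hyx : y * x = x * y * (c : Q)⁻¹ := by
    have h1 : x * (c : Q) = y⁻¹ * x * y := by rw [hcv, mul_inv_cancel_left]
    have h2 : y * (x * (c : Q)) = x * y := by rw [h1]; group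
    have h3 : y * (c : Q) = (c : Q) * y := by
      have h4 : y⁻¹ * (c : Q) * y = (c : Q) := by
        have := hσv 1 c
        rw [pow_one, pow_one, hcy] at this
        exact this.symm
      calc y * (c : Q) = y * (y⁻¹ * (c : Q) * y) := by rw [h4]
        _ = (c : Q) * y := by group
    calc y * x = y * (x * (c : Q)) * (c : Q)⁻¹ := by group
      _ = x * y * (c : Q)⁻¹ := by rw [h2]
  have hcx : (c : Q)⁻¹ * x = x * (c : Q)⁻¹ := hc _ (inv_mem c.2) _ hx
  have hcyc : (c : Q)⁻¹ * y = y * (c : Q)⁻¹ := by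
    have h4 : y⁻¹ * (c : Q) * y = (c : Q) := by
      have := hσv 1 c
      rw [pow_one, pow_one, hcy] at this
      exact this.symm
    have h5 : Commute (c : Q) y := by
      show (c : Q) * y = y * c
      conv_rhs => rw [← h4]
      group
    exact h5.inv_left.eq
  obtain ⟨t, ht⟩ := hp.dvd_choose_self (two_ne_zero) (show 2 < p from
    lt_of_le_of_ne hp.two_le hp2.symm)
  rw [H83.mul_pow_class_two hyx hcx hcyc, hexp x hx, one_mul, ht, pow_mul, inv_pow,
    hexp _ c.2, inv_one, one_pow, mul_one]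

end H67
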