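import Cfsg.Agent.H67.InvolCent
import Cfsg.Agent.H67.WRAut
import Cfsg.Agent.H89.SimpleCrit
import Cfsg.Agent.H85.GroupSystem
import Cfsg.Agent.S3116
import Cfsg.Agent.H73.KSeq
/-!
Fusion systems of groups with quasi-dihedral or wreathed Sylow 2-subgroups and no subgroup of
index two are simple.
-/
set_option autoImplicit false

namespace H67

variable {G : Type*} [Group G] [Finite G] {S : Sylow 2 G}

/-- A strongly closed subgroup contains the conjugates lying in `S` of its elements. -/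
theorem stronglyClosed_conj_mem {S T : Subgroup G}
    (hT : (Cfsg.groupFusionSystem S).StronglyClosed T) {t : G} (ht : t ∈ T) {g : G}
    (hg : g * t * g⁻¹ ∈ S) : g * t * g⁻¹ ∈ T := by
  have hle : Subgroup.zpowers t ≤ T := Subgroup.zpowers_le.2 ht
  have hφS : ∀ y : Subgroup.zpowers t, g * (y : G) * g⁻¹ ∈ S := by
    rintro ⟨y, hy⟩
    obtain ⟨k, rfl⟩ := Subgroup.mem_zpowers_iff.1 hy
    show g * t ^ k * g⁻¹ ∈ _
    rw [← conj_zpow]
    exact zpow_mem hg k
  have := hT.2 _ hle (Cfsg.conjHom _ g) ⟨hle.trans hT.1, hφS, g, fun _ => rfl⟩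
    ⟨t, Subgroup.mem_zpowers _⟩
  simpa [Cfsg.conjHom] using this

/-- A nontrivial strongly closed subgroup contains a central involution of `S`. -/
theorem stronglyClosed_central_involution {T : Subgroup G}
    (hT : (Cfsg.groupFusionSystem (S : Subgroup G)).StronglyClosed T) (h1 : T ≠ ⊥) :
    ∃ t : ↥(S : Subgroup G), (t : G) ∈ T ∧ t ∈ Subgroup.center ↥(S : Subgroup G) ∧
      orderOf t = 2 := by
  have : Fact (Nat.Prime 2) := ⟨Nat.prime_two⟩
  set U : Subgroup ↥(S : Subgroup G) := T.subgroupOf (S : Subgroup G) with hU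
  have hn : U.Normal := ⟨fun a ha b => by
    rw [hU, Subgroup.mem_subgroupOf] at ha ⊢
    rw [Subgroup.coe_mul, Subgroup.coe_mul, Subgroup.coe_inv]
    exact stronglyClosed_conj_mem hT ha (mul_mem (mul_mem b.2 a.2) (inv_mem b.2))⟩
  have hne : U ≠ ⊥ := by
    obtain ⟨t, ht, ht1⟩ := (Subgroup.ne_bot_iff_exists_ne_one.mp h1 |>.imp fun a ha => ha).elim
      fun a ha => (⟨a, a.2, fun e => ha (Subtype.ext e)⟩ : ∃ t : G, t ∈ T ∧ t ≠ 1)
    intro hbot
    apply ht1
    have : (⟨t, hT.1 ht⟩ : ↥(S : Subgroup G)) ∈ U := ht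
    rw [hbot, Subgroup.mem_bot] at this
    exact congrArg Subtype.val this
  haveI := hn
  have hne' := H73.inf_center_ne_bot S.isPGroup' hne
  set V := U ⊓ Subgroup.center ↥(S : Subgroup G) with hV
  have hVp : IsPGroup 2 V := S.isPGroup'.to_subgroup V
  haveI : Nontrivial V := (Subgroup.nontrivial_iff_ne_bot V).mpr hne'
  obtain ⟨k, hk, hcard⟩ := hVp.nontrivial_iff_card.mp inferInstance
  obtain ⟨t, ht⟩ := exists_prime_orderOf_dvd_card' 2 (G := V) (hcard ▸ dvd_pow_self 2 hk.ne')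
  exact ⟨t, t.2.1, t.2.2, (Subgroup.orderOf_coe t).trans ht⟩

/-- If `Aut S` is a 2-group, only inner automorphisms of `S` are induced. -/
theorem autGroup_top_inner (hA : IsPGroup 2 (MulAut ↥(S : Subgroup G))) :
    (Cfsg.groupFusionSystem (S : Subgroup G)).autGroup (S : Subgroup G) =
      Cfsg.Inn ↥(S : Subgroup G) := by
  have : Fact (Nat.Prime 2) := ⟨Nat.prime_two⟩
  set N := Subgroup.normalizer ((S : Subgroup G) : Set G) with hN
  refine le_antisymm (fun α hα => ?_) (H85.inn_le_autGroup _ le_rfl)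
  obtain ⟨-, -, g, hg⟩ := (H85.mem_autGroup le_rfl).1 hα
  have hgN : g ∈ N := H85.mem_normalizer_of_induced (α := α) hg
  let φ : N →* MulAut ↥(S : Subgroup G) := (S : Subgroup G).normalizerMonoidHom
  set P : Subgroup N := (S : Subgroup G).subgroupOf N with hP
  have hPn : P.Normal := Subgroup.normal_in_normalizer
  have hidx : ¬ 2 ∣ P.index := fun hd => S.not_dvd_index
    (hd.trans (Subgroup.relIndex_dvd_index_of_le Subgroup.le_normalizer))
  -- the image of `g` modulo `S` has odd order, the image of `N` is a 2-group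
  set ψ := φ.rangeRestrict with hψ
  obtain ⟨k, hk⟩ := IsPGroup.iff_card.mp (hA.to_subgroup φ.range)
  have hidx1 : (P.map ψ).index = 1 := by
    obtain ⟨j, -, hj⟩ := (Nat.dvd_prime_pow Nat.prime_two).mp
      (hk ▸ Subgroup.index_dvd_card (P.map ψ))
    rcases Nat.eq_zero_or_pos j with rfl | hj0
    · simpa using hj
    · exact absurd (((dvd_pow_self 2 hj0.ne').trans hj.symm.dvd).trans
        (Subgroup.index_map_dvd _ φ.rangeRestrict_surjective)) hidx
  obtain ⟨s, hs, es⟩ : ψ ⟨g, hgN⟩ ∈ P.map ψ := by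
    rw [Subgroup.index_eq_one.mp hidx1]; exact Subgroup.mem_top _
  refine ⟨⟨(s : G), hs⟩, MulEquiv.ext fun w => Subtype.ext ?_⟩
  have e : ((φ s w : ↥(S : Subgroup G)) : G) = ((φ ⟨g, hgN⟩ w : ↥(S : Subgroup G)) : G) :=
    congrArg (fun a : φ.range => ((a.1 w : ↥(S : Subgroup G)) : G)) es
  exact e.trans (hg w).symm

theorem sylow_ne_bot_of_card {m : ℕ} (hm : 1 ≤ m) (h : Nat.card ↥(S : Subgroup G) = 2 ^ m) :
    (S : Subgroup G) ≠ ⊥ := fun e => by
  rw [e, Subgroup.card_bot] at h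
  have : 2 ^ 1 ≤ 2 ^ m := Nat.pow_le_pow_right (by norm_num) hm
  omega

namespace QD

variable {n : ℕ} {x y : ↥(S : Subgroup G)}

theorem stronglyClosed_top (h : QD n x y) (hG : ∀ H : Subgroup G, H.index ≠ 2) (T : Subgroup G)
    (hT : (Cfsg.groupFusionSystem (S : Subgroup G)).StronglyClosed T) :
    T = ⊥ ∨ T = (S : Subgroup G) := by
  by_cases h1 : T = ⊥
  · exact Or.inl h1
  refine Or.inr (le_antisymm hT.1 ?_)
  obtain ⟨hf2, hf4⟩ := h.fused_of_no_index_two hG
  set c : G := ((x ^ (2 * qdQ n) : ↥(S : Subgroup G)) : G) with hc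
  obtain ⟨t, htT, -, ht⟩ := stronglyClosed_central_involution hT h1
  have hcT : c ∈ T := by
    rcases h.orderOf_two_cases ht with rfl | ⟨i, hi, rfl⟩
    · exact htT
    · obtain ⟨g, hg⟩ := isConj_iff.mp (hf2 i hi)
      rw [hc, ← hg]
      refine stronglyClosed_conj_mem hT htT ?_
      rw [hg]
      exact SetLike.coe_mem _
  have hyT : ∀ i : ℤ, 2 ∣ i → ((x ^ i * y : ↥(S : Subgroup G)) : G) ∈ T := by
    intro i hi
    obtain ⟨g, hg⟩ := isConj_iff.mp (hf2 i hi).symm
    exact hg ▸ stronglyClosed_conj_mem hT hcT (hg ▸ SetLike.coe_mem _)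
  have hy : (y : G) ∈ T := by simpa using hyT 0 (dvd_zero 2)
  have h2 : ((x ^ (2 : ℤ) : ↥(S : Subgroup G)) : G) ∈ T := by
    have := mul_mem (hyT 2 (dvd_refl 2)) (inv_mem hy)
    simpa using this
  have hq : ((x ^ qdQ n : ↥(S : Subgroup G)) : G) ∈ T := by
    obtain ⟨d, hd⟩ := h.q_two_dvd
    have := zpow_mem h2 d
    rw [SubgroupClass.coe_zpow] at this ⊢
    rwa [← zpow_mul, ← hd] at this
  have h1y : ((x ^ (1 : ℤ) * y : ↥(S : Subgroup G)) : G) ∈ T := by
    obtain ⟨g, hg⟩ := isConj_iff.mp (hf4 1 (by omega)).symm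
    exact hg ▸ stronglyClosed_conj_mem hT hq (hg ▸ SetLike.coe_mem _)
  have hx : (x : G) ∈ T := by
    have := mul_mem h1y (inv_mem hy)
    simpa using this
  intro g hg
  rcases h.cases ⟨g, hg⟩ with ⟨i, hi⟩ | ⟨i, hi⟩ <;> rw [Subtype.ext_iff] at hi <;>
    simp only [Subgroup.coe_mul, SubgroupClass.coe_zpow] at hi <;> rw [hi]
  · exact zpow_mem hx i
  · exact mul_mem (zpow_mem hx i) hy

end QD

namespace WR

variable {n : ℕ} {x y z : ↥(S : Subgroup G)}

theorem aut_isPGroup {X : Type*} [Group X] [Finite X] {n : ℕ} {x y z : X} (h : WR n x y z) :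
    IsPGroup 2 (MulAut X) := by
  by_contra hno
  obtain ⟨φ, hφ1, hφ⟩ := exists_odd_order hno
  have hinj : Function.Injective fun σ : MulAut X =>
      ((Subgroup.topEquiv.trans σ).trans Subgroup.topEquiv.symm : MulAut (⊤ : Subgroup X)) := by
    intro σ τ e
    refine MulEquiv.ext fun w => ?_
    exact congrArg (fun f : MulAut (⊤ : Subgroup X) => ((f ⟨w, Subgroup.mem_top w⟩ : (⊤ : Subgroup X)) : X)) e
  let ι : MulAut X →* MulAut (⊤ : Subgroup X) :=
    MonoidHom.mk' (fun σ => (Subgroup.topEquiv.trans σ).trans Subgroup.topEquiv.symm)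
      fun σ τ => MulEquiv.ext fun w => rfl
  rcases h.classify_aut ⊤ le_top (ι φ) (fun e => hφ1 (hinj (e.trans (map_one ι).symm)))
    (by rw [orderOf_injective ι hinj]; exact hφ) with e | ⟨s, e⟩
  · have := h.base_index
    rw [← e, Subgroup.index_top] at this
    omega
  · have := (h.vSub_prop s (e ▸ Subgroup.mem_top (wrElt x y 1 0)) 1 0).1 rfl
    have hM := h.M_ge
    rw [sub_zero] at this
    have := Int.le_of_dvd one_pos this
    omega

theorem stronglyClosed_top (h : WR n x y z) (hG : ∀ H : Subgroup G, H.index ≠ 2) (T : Subgroup G)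
    (hT : (Cfsg.groupFusionSystem (S : Subgroup G)).StronglyClosed T) :
    T = ⊥ ∨ T = (S : Subgroup G) := by
  by_cases h1 : T = ⊥
  · exact Or.inl h1
  refine Or.inr (le_antisymm hT.1 ?_)
  obtain ⟨hU, hV⟩ := h.fused_of_no_index_two hG
  obtain ⟨t, htT, -, ht⟩ := stronglyClosed_central_involution hT h1
  have htc : IsConj (t : G) h.ptC := by
    rcases h.involution_classes_G ((Subgroup.orderOf_coe t).trans ht) with c | c | c
    exacts [c, c.trans hU, c.trans (hV.trans hU)]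
  have hcT : h.ptC ∈ T := by
    obtain ⟨g, hg⟩ := isConj_iff.mp htc
    exact hg ▸ stronglyClosed_conj_mem hT htT (hg ▸ h.gE_mem _ _)
  have hzT : (z : G) ∈ T := by
    obtain ⟨g, hg⟩ := isConj_iff.mp (hV.trans hU).symm
    exact hg ▸ stronglyClosed_conj_mem hT hcT (hg ▸ z.2)
  have hdiff : h.gE 1 (-1) ∈ T := by
    have hsym : (z : G) * h.gE 1 0 * (z : G)⁻¹ = h.gE 0 1 := h.z_conj_gE 1 0
    have h2 := stronglyClosed_conj_mem hT hzT (g := h.gE 1 0)
      (mul_mem (mul_mem (h.gE_mem 1 0) z.2) (inv_mem (h.gE_mem 1 0)))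
    have h3 := mul_mem h2 (inv_mem hzT)
    have e : h.gE 1 0 * (z : G) * (h.gE 1 0)⁻¹ * (z : G)⁻¹ = h.gE 1 (-1) := by
      calc h.gE 1 0 * (z : G) * (h.gE 1 0)⁻¹ * (z : G)⁻¹
          = h.gE 1 0 * ((z : G) * h.gE 1 0 * (z : G)⁻¹)⁻¹ := by group
        _ = h.gE 1 (-1) := by
          rw [hsym, ← zpow_neg_one, h.gE_zpow, h.gE_mul]
          norm_num
    rwa [e] at h3
  rcases h.u_dichotomy with ⟨-, hn, -⟩ | ⟨-, -, htr⟩
  · exact absurd hU hn
  obtain ⟨g, hg, hgp⟩ := htr h.ptC (by simp) h.ptA (by simp)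
  obtain ⟨i, j, e⟩ := (h.mem_baseG _).mp (mem_normalizer_conj hg (h.gE_mem_base 1 (-1)))
  have hij : h.gE i j ∈ T := e ▸ stronglyClosed_conj_mem hT hdiff (e ▸ h.gE_mem i j)
  have hc : h.gE 1 (-1) ^ wrM n = h.ptC := by
    rw [h.gE_zpow]
    show _ = h.gE (wrM n) (wrM n)
    have := h.elt_congr (i := wrM n * 1) (j := wrM n * (-1)) (k := wrM n) (l := wrM n) 0 (-1)
      (by ring) (by rw [h.N_eq]; ring)
    exact congrArg Subtype.val this
  obtain ⟨hi, hj⟩ := h.parity_of_A (i := i) (j := j) (by rw [← e, conj_zpow, hc, hgp])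
  have hxT : (x : G) ∈ T := by
    have h1 : h.gE (i + j) 0 ∈ T := by
      have := mul_mem hij (zpow_mem hdiff j)
      rwa [h.gE_zpow, h.gE_mul, mul_one, show j + j * (-1) = 0 by ring] at this
    obtain ⟨a, b, hab⟩ := (Int.prime_two.coprime_iff_not_dvd.mpr
      (show ¬ (2 : ℤ) ∣ i + j by omega)).pow_left (m := n)
    have h2 := zpow_mem h1 b
    rw [h.gE_zpow, mul_zero] at h2
    have : wrElt x y (b * (i + j)) 0 = wrElt x y 1 0 :=
      h.elt_congr (-a) 0 (by rw [wrN]; linear_combination hab) (by ring)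
    rw [← h.gE_one_zero]
    have e2 : h.gE (b * (i + j)) 0 = h.gE 1 0 := congrArg Subtype.val this
    rwa [← e2]
  have hyT : (y : G) ∈ T := by
    rw [← h.gE_zero_one]
    have := mul_mem (inv_mem hdiff) (h.gE_one_zero ▸ hxT)
    rwa [← zpow_neg_one, h.gE_zpow, h.gE_mul, show (-1 : ℤ) * 1 + 1 = 0 by ring,
      show (-1 : ℤ) * -1 + 0 = 1 by ring] at this
  exact h.S_le_of_gens hxT hyT hzT

end WR

/-- Groups with quasi-dihedral or wreathed Sylow 2-subgroup and no subgroup of index two have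
simple 2-fusion systems. -/
theorem fusion_isSimple (S : Sylow 2 G)
    (hS : Cfsg.IsQuasiDihedral (S : Subgroup G) ∨ Cfsg.IsWreathed (S : Subgroup G))
    (hG : ∀ H : Subgroup G, H.index ≠ 2) :
    (Cfsg.groupFusionSystem (S : Subgroup G)).IsSimple 2 := by
  have : Fact (Nat.Prime 2) := ⟨Nat.prime_two⟩
  rcases hS with hq | hw
  · obtain ⟨n, x, y, h⟩ := exists_QD hq
    exact H89.simple_of_inner_top 2 _ (H85.isSaturated_groupFusionSystem S)
      (sylow_ne_bot_of_card (by omega) h.card_eq)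
      (autGroup_top_inner (Cfsg.Agent.S3116.result S.isPGroup' (Or.inr hq)))
      (h.stronglyClosed_top hG)
  · obtain ⟨n, x, y, z, h⟩ := exists_WR hw
    exact H89.simple_of_inner_top 2 _ (H85.isSaturated_groupFusionSystem S)
      (sylow_ne_bot_of_card (by omega) h.card_eq)
      (autGroup_top_inner h.aut_isPGroup) (h.stronglyClosed_top hG)

end H67

namespace H67

/-- Quasi-dihedral or wreathed Sylow 2-subgroups pass between groups through an odd-order kernel
and a subgroup of odd index. -/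
theorem sylow_shape_of_centralizer {G L : Type*} [Group G] [Finite G] [Group L] [Finite L]
    (P : Sylow 2 L) (hP : Cfsg.IsQuasiDihedral (P : Subgroup L) ∨ Cfsg.IsWreathed (P : Subgroup L))
    (C : Subgroup G) (f : L →* C) (hf : Function.Surjective f) (hker : Odd (Nat.card f.ker))
    (S : Sylow 2 G) (hSC : (S : Subgroup G) ≤ C) :
    Cfsg.IsQuasiDihedral (S : Subgroup G) ∨ Cfsg.IsWreathed (S : Subgroup G) := by
  have : Fact (Nat.Prime 2) := ⟨Nat.prime_two⟩
  set R : Sylow 2 C := P.mapSurjective hf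
  have hinj : Function.Injective (f.subgroupMap (P : Subgroup L)) := by
    rw [← MonoidHom.ker_eq_bot_iff, Subgroup.eq_bot_iff_forall]
    intro a ha
    have h1 : f (a : L) = 1 := congrArg Subtype.val (MonoidHom.mem_ker.mp ha)
    obtain ⟨k, hk⟩ := P.2 a
    have h2 : orderOf (a : L) ∣ 2 ^ k := orderOf_dvd_of_pow_eq_one (congrArg Subtype.val hk)
    have h3 : orderOf (a : L) ∣ Nat.card f.ker :=
      Subgroup.orderOf_dvd_natCard f.ker (MonoidHom.mem_ker.mpr h1)
    have h4 : Nat.Coprime (2 ^ k) (Nat.card f.ker) :=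
      (Nat.coprime_two_left.mpr hker).pow_left k
    exact Subtype.ext (orderOf_eq_one_iff.mp (Nat.eq_one_of_dvd_coprimes h4 h2 h3))
  let e : (P : Subgroup L) ≃* (S : Subgroup G) :=
    (MulEquiv.ofBijective (f.subgroupMap (P : Subgroup L))
      ⟨hinj, f.subgroupMap_surjective _⟩).trans
      ((R.equiv (S.subtype hSC)).trans (Subgroup.subgroupOfEquivOfLe hSC))
  rcases hP with h | h
  · obtain ⟨n, x, y, h⟩ := exists_QD h
    have h' := h.transport e
    exact Or.inl ⟨n, h'.three_le, h'.card_eq, _, _, h'.ordx, h'.ordy, h'.rel⟩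
  · obtain ⟨n, x, y, z, h⟩ := exists_WR h
    have h' := h.transport e
    exact Or.inr ⟨n, h'.two_le, h'.card_eq, _, _, _, h'.ordx, h'.comm, h'.disj, h'.ordz, h'.rel⟩

/-- Simple fusion system from an involution centralizer in a simple group. -/
theorem fusion_isSimple_of_centralizer {G : Type*} [Group G] [Finite G] (hsimp : IsSimpleGroup G)
    (h2 : 2 ∣ Nat.card G) (hbig : 2 < Nat.card G) (S : Sylow 2 G)
    (hC : ∀ t : G, orderOf t = 2 → (S : Subgroup G) ≤ Subgroup.centralizer {t} →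
      Cfsg.IsQuasiDihedral (S : Subgroup G) ∨ Cfsg.IsWreathed (S : Subgroup G)) :
    (Cfsg.groupFusionSystem (S : Subgroup G)).IsSimple 2 := by
  have : Fact (Nat.Prime 2) := ⟨Nat.prime_two⟩
  refine fusion_isSimple S ?_ fun H hH => ?_
  · have hS2 : 2 ∣ Nat.card (S : Subgroup G) := S.dvd_card_of_dvd_card h2
    haveI : Nontrivial (S : Subgroup G) :=
      Finite.one_lt_card_iff_nontrivial.mp
        (lt_of_lt_of_le one_lt_two (Nat.le_of_dvd Nat.card_pos hS2))
    haveI : Nontrivial (Subgroup.center (S : Subgroup G)) := S.isPGroup'.center_nontrivial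
    obtain ⟨k, hk, hcard⟩ := (S.isPGroup'.to_subgroup (Subgroup.center _)).nontrivial_iff_card.mp
      (inferInstance : Nontrivial (Subgroup.center (S : Subgroup G)))
    obtain ⟨t, ht⟩ := exists_prime_orderOf_dvd_card' 2
      (G := Subgroup.center (S : Subgroup G)) (hcard ▸ dvd_pow_self 2 hk.ne')
    refine hC ((t : (S : Subgroup G)) : G)
      ((Subgroup.orderOf_coe _).trans ((Subgroup.orderOf_coe _).trans ht)) fun s hs => ?_
    rw [Subgroup.mem_centralizer_singleton_iff]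
    exact congrArg Subtype.val (Subgroup.mem_center_iff.mp t.2 ⟨s, hs⟩)
  · rcases (Subgroup.normal_of_index_eq_two hH).eq_bot_or_eq_top with e | e
    · rw [e, Subgroup.index_bot] at hH; omega
    · rw [e, Subgroup.index_top] at hH; omega

end H67
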