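import Mathlib
import Cfsg.Agent.H87.Stability
/-!
A group of automorphisms of an elementary abelian group of order `p²` with no normal p-subgroup
containing a given element of order `p` contains the inversion.
-/
set_option autoImplicit false

namespace H67

variable {p : ℕ} [Fact p.Prime] {V : Type*} [CommGroup V] [Finite V]

/-- An invariant subgroup of an automorphism of order `p` contains a fixed element. -/
theorem exists_fixed_mem (W : Subgroup V) (hV : IsPGroup p V) (hW : W ≠ ⊥) (σ : MulAut V)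
    (hσ : σ ^ p = 1) (hinv : ∀ w ∈ W, σ w ∈ W) : ∃ f ∈ W, f ≠ 1 ∧ σ f = f := by
  classical
  haveI : Nontrivial W := (Subgroup.nontrivial_iff_ne_bot W).mpr hW
  obtain ⟨k, hk, hcard⟩ := (hV.to_subgroup W).nontrivial_iff_card.mp inferInstance
  let π : Equiv.Perm W :=
    Equiv.ofBijective (fun w => (⟨σ w, hinv w w.2⟩ : W))
      ⟨fun a b e => Subtype.ext (σ.injective (congrArg Subtype.val e)),
        Finite.surjective_of_injective fun a b e =>
          Subtype.ext (σ.injective (congrArg Subtype.val e))⟩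
  have hpow : ∀ (m : ℕ) (w : W), (((π ^ m) w : W) : V) = (σ ^ m) (w : V) := by
    intro m
    induction m with
    | zero => intro w; simp
    | succ m ih =>
      intro w
      rw [pow_succ', pow_succ', Equiv.Perm.mul_apply, MulAut.mul_apply, ← ih w]
      rfl
  have hπ : π ^ p = 1 := by
    ext w
    rw [hpow, hσ]
    simp
  have hG : IsPGroup p (Subgroup.zpowers π) := by
    intro a
    obtain ⟨j, hj⟩ := Subgroup.mem_zpowers_iff.mp a.2
    refine ⟨1, Subtype.ext ?_⟩
    rw [pow_one, Subgroup.coe_pow, ← hj, ← zpow_natCast (π ^ j), ← zpow_mul, mul_comm, zpow_mul,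
      zpow_natCast, hπ, one_zpow, Subgroup.coe_one]
  have h1 : (1 : W) ∈ MulAction.fixedPoints (Subgroup.zpowers π) W := by
    rintro ⟨g, hg⟩
    obtain ⟨j, rfl⟩ := Subgroup.mem_zpowers_iff.mp hg
    show (π ^ j) 1 = 1
    exact Equiv.Perm.zpow_apply_eq_self_of_apply_eq_self (Subtype.ext (map_one σ)) j
  obtain ⟨b, hb, hb1⟩ := hG.exists_fixed_point_of_prime_dvd_card_of_fixed_point (α := W)
    (hcard ▸ dvd_pow_self p hk.ne') h1
  refine ⟨b, b.2, fun e => hb1 (Subtype.ext e.symm), ?_⟩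
  exact congrArg Subtype.val (hb ⟨π, Subgroup.mem_zpowers π⟩)

theorem zpow_shift (σ : MulAut V) {u d : V} (hd : σ d = d) (hu : σ u = u * d) (i : ℤ) :
    (σ ^ i) u = u * d ^ i ∧ (σ ^ i) d = d := by
  induction i using Int.induction_on with
  | zero => simp
  | succ k ih =>
    rw [zpow_add_one]
    constructor
    · rw [MulAut.mul_apply, hu, map_mul, ih.1, ih.2, zpow_add_one, mul_assoc]
    · rw [MulAut.mul_apply, hd, ih.2]
  | pred k ih =>
    have hd' : σ⁻¹ d = d := by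
      conv_lhs => rw [← hd]
      simp
    have hu' : σ⁻¹ u = u * d⁻¹ := by
      apply σ.injective
      rw [MulAut.apply_inv_self, map_mul, map_inv, hu, hd, mul_inv_cancel_right]
    rw [zpow_sub_one]
    constructor
    · rw [MulAut.mul_apply, hu', map_mul, map_inv, ih.1, ih.2, zpow_sub_one, mul_assoc]
    · rw [MulAut.mul_apply, hd', ih.2]

theorem exists_inversion (hexp : ∀ v : V, v ^ p = 1) (hcard : Nat.card V = p ^ 2)
    (A : Subgroup (MulAut V)) {σ : MulAut V} (hσA : σ ∈ A) (hσp : σ ^ p = 1) (hσ1 : σ ≠ 1)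
    (hno : ∀ T : Subgroup (MulAut V), IsPGroup p T → (∀ β ∈ A, ∀ τ ∈ T, β * τ * β⁻¹ ∈ T) → σ ∉ T) :
    ∃ τ ∈ A, ∀ v : V, τ v = v⁻¹ := by
  classical
  have hp := (Fact.out : p.Prime)
  have hV : IsPGroup p V := fun v => ⟨1, by rw [pow_one, hexp]⟩
  have hord : ∀ v : V, v ≠ 1 → orderOf v = p := fun v hv => orderOf_eq_prime (hexp v) hv
  have hcardL : ∀ v : V, v ≠ 1 → Nat.card (Subgroup.zpowers v) = p := fun v hv => by
    rw [Nat.card_zpowers, hord v hv]
  haveI : Nontrivial V := by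
    rw [← Finite.one_lt_card_iff_nontrivial, hcard]
    exact Nat.one_lt_pow (by norm_num) hp.one_lt
  -- the fixed line
  obtain ⟨f, -, hf1, hff⟩ := exists_fixed_mem (⊤ : Subgroup V) hV top_ne_bot σ hσp
    fun _ _ => Subgroup.mem_top _
  set L := Subgroup.zpowers f with hL
  let δ : V →* V := MonoidHom.mk' (fun v => v⁻¹ * σ v) fun a b => by
    rw [map_mul, mul_inv_rev]
    simp [mul_comm, mul_left_comm, mul_assoc]
  have hfix : ∀ v, v ∈ δ.ker ↔ σ v = v := fun v => by
    rw [MonoidHom.mem_ker]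
    show v⁻¹ * σ v = 1 ↔ _
    rw [inv_mul_eq_one, eq_comm]
  have hKL : δ.ker = L := by
    have hle : L ≤ δ.ker := Subgroup.zpowers_le.mpr ((hfix f).mpr hff)
    obtain ⟨k, hk2, hk⟩ := (Nat.dvd_prime_pow hp).mp (hcard ▸ Subgroup.card_subgroup_dvd_card δ.ker)
    refine (Subgroup.eq_of_le_of_card_ge hle ?_).symm
    rw [hcardL f hf1, hk]
    interval_cases k
    · simp [hp.one_le]
    · simp
    · exfalso
      apply hσ1
      have htop : δ.ker = ⊤ := Subgroup.eq_top_of_card_eq _ (hk.trans hcard.symm)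
      exact MulEquiv.ext fun v => (hfix v).mp (htop ▸ Subgroup.mem_top v)
  have hrange : δ.range = L := by
    have hc : Nat.card δ.range = p := by
      have := Subgroup.card_mul_index δ.ker
      rw [Subgroup.index_ker, hKL, hcardL f hf1, hcard, sq] at this
      exact Nat.eq_of_mul_eq_mul_left hp.pos this
    have hne : δ.range ≠ ⊥ := fun e => by
      rw [e, Subgroup.card_bot] at hc
      exact hp.one_lt.ne hc
    obtain ⟨w, hw, hw1, hwf⟩ := exists_fixed_mem δ.range hV hne σ hσp (by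
      rintro _ ⟨v, rfl⟩
      exact ⟨σ v, by show (σ v)⁻¹ * σ (σ v) = σ (v⁻¹ * σ v); rw [map_mul, map_inv]⟩)
    have h1 : Subgroup.zpowers w = δ.range :=
      Subgroup.eq_of_le_of_card_ge (Subgroup.zpowers_le.mpr hw) (by rw [hc, hcardL w hw1])
    have h2 : Subgroup.zpowers w = L :=
      Subgroup.eq_of_le_of_card_ge (Subgroup.zpowers_le.mpr (hKL ▸ (hfix w).mpr hwf))
        (by rw [hcardL f hf1, hcardL w hw1])
    rw [← h1, h2]
  -- some element of `A` moves the line
  obtain ⟨β, hβ, hβf⟩ : ∃ β ∈ A, β f ∉ L := by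
    by_contra hnone
    push Not at hnone
    let T : Subgroup (MulAut V) :=
      { carrier := {τ | τ f = f ∧ ∀ v, v⁻¹ * τ v ∈ L}
        one_mem' := ⟨rfl, fun v => by simp⟩
        mul_mem' := fun {τ μ} hτ hμ => ⟨by rw [MulAut.mul_apply, hμ.1, hτ.1], fun v => by
          have := mul_mem (hμ.2 v) (hτ.2 (μ v))
          simpa [mul_assoc] using this⟩
        inv_mem' := fun {τ} hτ => ⟨by conv_lhs => rw [← hτ.1]; simp,
          fun v => by
            have := inv_mem (hτ.2 (τ⁻¹ v))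
            simpa [mul_comm] using this⟩ }
    refine hno T ?_ ?_ ⟨hff, fun v => hrange.le ⟨v, rfl⟩⟩
    · refine H87.isPGroup_of_stabilizes L (hV.to_subgroup L) T (fun τ hτ => hτ.2) ?_
      intro τ hτ r hr
      obtain ⟨k, rfl⟩ := Subgroup.mem_zpowers_iff.mp hr
      rw [map_zpow, hτ.1]
    · rintro γ hγ τ ⟨hτf, hτL⟩
      have hLL : ∀ δ' ∈ A, ∀ x ∈ L, δ' x ∈ L := by
        intro δ' hδ' x hx
        obtain ⟨k, rfl⟩ := Subgroup.mem_zpowers_iff.mp hx
        rw [map_zpow]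
        exact zpow_mem (hnone δ' hδ') k
      refine ⟨?_, fun v => ?_⟩
      · obtain ⟨k, hk⟩ := Subgroup.mem_zpowers_iff.mp (hnone _ (inv_mem hγ))
        rw [MulAut.mul_apply, MulAut.mul_apply, ← hk, map_zpow, hτf, hk, MulAut.apply_inv_self]
      · have := hLL γ hγ _ (hτL (γ⁻¹ v))
        simpa using this
  set u := β f with hu
  have hu1 : u ≠ 1 := fun e => hf1 (β.injective (e.trans (map_one β).symm))
  set σ' := β * σ * β⁻¹ with hσ'
  have hσ'u : σ' u = u := by
    rw [hσ', MulAut.mul_apply, MulAut.mul_apply, hu, MulAut.inv_apply_self, hff]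
  -- `f` and `u` generate
  have hgen : ∀ v, v ∈ Subgroup.zpowers f ⊔ Subgroup.zpowers u := by
    have hlt : Subgroup.zpowers f < Subgroup.zpowers f ⊔ Subgroup.zpowers u :=
      lt_of_le_of_ne le_sup_left fun e =>
        hβf (e.ge ((le_sup_right : Subgroup.zpowers u ≤ _) (Subgroup.mem_zpowers u)))
    obtain ⟨k, hk2, hk⟩ := (Nat.dvd_prime_pow hp).mp
      (hcard ▸ Subgroup.card_subgroup_dvd_card (Subgroup.zpowers f ⊔ Subgroup.zpowers u))
    have hlt' : p < p ^ k := by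
      rw [← hk, ← hcardL f hf1]
      by_contra hle
      exact hlt.ne (Subgroup.eq_of_le_of_card_ge hlt.le (not_lt.mp hle))
    have hk' : k = 2 := by
      interval_cases k
      · simp at hlt'; exact absurd hlt' (by have := hp.one_lt; omega)
      · simp at hlt'
      · rfl
    subst hk'
    rw [Subgroup.eq_top_of_card_eq _ (hk.trans hcard.symm)]
    exact fun v => Subgroup.mem_top v
  obtain ⟨a, ha⟩ : ∃ a : ℤ, f ^ a = u⁻¹ * σ u := Subgroup.mem_zpowers_iff.mp (show u⁻¹ * σ u ∈ L from hrange.le ⟨u, rfl⟩)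
  obtain ⟨b, hb⟩ : ∃ b : ℤ, u ^ b = f⁻¹ * σ' f := by
    obtain ⟨k, hk⟩ := Subgroup.mem_zpowers_iff.mp
      (show (β⁻¹ f)⁻¹ * σ (β⁻¹ f) ∈ L from hrange.le ⟨_, rfl⟩)
    exact ⟨k, by rw [hu, ← map_zpow, hk, map_mul, map_inv, MulAut.apply_inv_self, hσ']; rfl⟩
  have hne : ∀ (x : V) (k : ℤ), x ^ k ≠ 1 → x ∈ Subgroup.zpowers (x ^ k) := by
    intro x k hk
    have hx : x ≠ 1 := fun e => hk (by rw [e, one_zpow])
    rw [Subgroup.eq_of_le_of_card_ge (Subgroup.zpowers_le.mpr (Subgroup.zpow_mem_zpowers x k))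
      (by rw [hcardL x hx, hcardL _ hk])]
    exact Subgroup.mem_zpowers x
  have hσu : σ u = u * f ^ a := by rw [ha, mul_inv_cancel_left]
  have hσ'f : σ' f = f * u ^ b := by rw [hb, mul_inv_cancel_left]
  have hfa : f ^ a ≠ 1 := fun e => hσ1 (by
    refine MulEquiv.ext fun v => ?_
    obtain ⟨x, ⟨i, rfl⟩, y, ⟨j, rfl⟩, rfl⟩ := Subgroup.mem_sup.mp (hgen v)
    rw [e, mul_one] at hσu
    simp [map_mul, map_zpow, hff, hσu])
  have hub : u ^ b ≠ 1 := fun e => hσ1 (by
    have h' : σ' = 1 := by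
      refine MulEquiv.ext fun v => ?_
      obtain ⟨x, ⟨i, rfl⟩, y, ⟨j, rfl⟩, rfl⟩ := Subgroup.mem_sup.mp (hgen v)
      rw [e, mul_one] at hσ'f
      simp [map_mul, map_zpow, hσ'u, hσ'f]
    rwa [hσ', conj_eq_one_iff] at h')
  obtain ⟨i, hi⟩ := Subgroup.mem_zpowers_iff.mp (hne f a hfa)
  obtain ⟨j, hj⟩ := Subgroup.mem_zpowers_iff.mp (inv_mem (hne u b hub))
  have hAu : (σ ^ i) u = u * f := by
    rw [(zpow_shift σ (by rw [map_zpow, hff]) hσu i).1, hi]
  have hAf : (σ ^ i) f = f := by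
    have := (zpow_shift σ (u := f) (d := 1) (map_one σ) (by rw [hff, mul_one]) i).1
    rwa [one_zpow, mul_one] at this
  have hBf : (σ' ^ j) f = f * u⁻¹ := by
    rw [(zpow_shift σ' (by rw [map_zpow, hσ'u]) hσ'f j).1, hj]
  have hBu : (σ' ^ j) u = u := by
    have := (zpow_shift σ' (u := u) (d := 1) (map_one σ') (by rw [hσ'u, mul_one]) j).1
    rwa [one_zpow, mul_one] at this
  set w := σ ^ i * σ' ^ j * σ ^ i with hw
  have hwf : w f = u⁻¹ := by
    simp only [hw, MulAut.mul_apply, hAf, hBf, map_mul, map_inv, hAu]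
    simp [mul_comm, mul_left_comm]
  have hwu : w u = f := by
    simp only [hw, MulAut.mul_apply, hAu, map_mul, hBu, hBf, hAf, map_inv]
    simp [mul_comm, mul_left_comm]
  have hσ'A : σ' ∈ A := mul_mem (mul_mem hβ hσA) (inv_mem hβ)
  refine ⟨w * w, mul_mem (mul_mem (mul_mem (zpow_mem hσA i) (zpow_mem hσ'A j)) (zpow_mem hσA i))
    (mul_mem (mul_mem (zpow_mem hσA i) (zpow_mem hσ'A j)) (zpow_mem hσA i)), fun v => ?_⟩
  obtain ⟨x, ⟨k, rfl⟩, y, ⟨l, rfl⟩, rfl⟩ := Subgroup.mem_sup.mp (hgen v)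
  simp [MulAut.mul_apply, map_mul, map_zpow, hwf, hwu, mul_comm]

end H67
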