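import Cfsg.Agent.H67.MetacyclicOdd
import Cfsg.Agent.H67.DQHom
import Cfsg.Agent.H83.TrivAction
import Cfsg.Agent.H88.AutBasics
/-!
Automorphism groups of order prime to `p` of metacyclic `p`-groups that are not homocyclic.
-/
set_option autoImplicit false

namespace H67

variable {p : ℕ} [Fact p.Prime]

theorem card_ge_of_pow_range {A : Type*} [CommGroup A] [Finite A] (a : ℕ)
    (h : ∀ x : A, x ^ p ^ (a + 1) = 1)
    (h2 : p ^ 2 ≤ Nat.card (powMonoidHom (α := A) (p ^ a)).range) :
    (p ^ (a + 1)) ^ 2 ≤ Nat.card A := by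
  induction a generalizing A with
  | zero => simpa using h2.trans (Subgroup.card_le_card_group _)
  | succ a ih =>
    set φ : A →* A := powMonoidHom p with hφ
    have hsub : ∀ x : φ.range, x ^ p ^ (a + 1) = 1 := by
      rintro ⟨_, x, rfl⟩
      refine Subtype.ext ?_
      show (x ^ p) ^ p ^ (a + 1) = 1
      rw [← pow_mul, ← pow_succ', h]
    have hle : (powMonoidHom (α := A) (p ^ (a + 1))).range ≤ φ.ker := by
      rintro _ ⟨x, rfl⟩
      rw [MonoidHom.mem_ker]
      show (x ^ p ^ (a + 1)) ^ p = 1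
      rw [← pow_mul, ← pow_succ, h]
    have h3 : p ^ 2 ≤ Nat.card (powMonoidHom (α := φ.range) (p ^ a)).range := by
      refine h2.trans (le_of_eq ?_)
      rw [← Subgroup.card_map_of_injective φ.range.subtype_injective]
      congr 2
      ext z
      constructor
      · rintro ⟨x, rfl⟩
        exact ⟨(⟨x ^ p, x, rfl⟩ : φ.range) ^ p ^ a, ⟨_, rfl⟩, by
          show (x ^ p) ^ p ^ a = x ^ p ^ (a + 1)
          rw [← pow_mul, ← pow_succ']⟩
      · rintro ⟨_, ⟨⟨_, x, rfl⟩, rfl⟩, rfl⟩
        exact ⟨x, by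
          show x ^ p ^ (a + 1) = (x ^ p) ^ p ^ a
          rw [← pow_mul, ← pow_succ']⟩
    have h4 := ih hsub h3
    have h5 := h2.trans (Subgroup.card_le_of_le hle)
    rw [← Subgroup.card_mul_index φ.ker, Subgroup.index_ker]
    calc (p ^ (a + 1 + 1)) ^ 2 = p ^ 2 * (p ^ (a + 1)) ^ 2 := by ring
      _ ≤ _ := Nat.mul_le_mul h5 h4

/-- An abelian metacyclic group of exponent dividing `e` and order `e ^ 2` is homocyclic. -/
theorem homocyclic_of_card {S : Type*} [Group S] [Finite S] {e : ℕ} (he0 : 0 < e)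
    (hm : Cfsg.IsMetacyclic S) (hc : ∀ a b : S, a * b = b * a) (he : ∀ x : S, x ^ e = 1)
    (hcard : Nat.card S = e ^ 2) :
    Nonempty (S ≃* Multiplicative (ZMod e) × Multiplicative (ZMod e)) := by
  classical
  haveI : NeZero e := ⟨he0.ne'⟩
  obtain ⟨N, hN, hNc, hQ⟩ := hm
  haveI := hN
  haveI := hNc
  haveI := hQ
  obtain ⟨n, hn⟩ := IsCyclic.exists_generator (α := N)
  obtain ⟨b', hb⟩ := IsCyclic.exists_generator (α := S ⧸ N)
  obtain ⟨b, rfl⟩ := QuotientGroup.mk_surjective b'
  let f : Multiplicative (ZMod e) × Multiplicative (ZMod e) →* S :=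
    MonoidHom.mk' (fun u => zmodPow (n : S) u.1.toAdd * zmodPow b u.2.toAdd) fun u v => by
      show zmodPow (n : S) (u.1.toAdd + v.1.toAdd) * zmodPow b (u.2.toAdd + v.2.toAdd) = _
      rw [zmodPow_add _ (he _), zmodPow_add _ (he _), mul_assoc, mul_assoc,
        ← mul_assoc (zmodPow (n : S) v.1.toAdd), hc (zmodPow (n : S) v.1.toAdd)]
      simp only [mul_assoc]
  have hf : Function.Surjective f := by
    intro x
    obtain ⟨j, hj⟩ := Subgroup.mem_zpowers_iff.mp (hb (x : S ⧸ N))
    rw [← QuotientGroup.mk_zpow, QuotientGroup.eq] at hj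
    obtain ⟨i, hi⟩ := Subgroup.mem_zpowers_iff.mp (hn ⟨_, hj⟩)
    refine ⟨(Multiplicative.ofAdd (i : ZMod e), Multiplicative.ofAdd (j : ZMod e)), ?_⟩
    show zmodPow (n : S) (i : ZMod e) * zmodPow b (j : ZMod e) = x
    have hi' : (n : S) ^ i = (b ^ j)⁻¹ * x := by
      simpa using congrArg (Subtype.val (p := (· ∈ N))) hi
    rw [zmodPow_intCast _ (he _), zmodPow_intCast _ (he _), hi', hc, mul_inv_cancel_left]
  refine ⟨(MulEquiv.ofBijective f (hf.bijective_of_nat_card_le ?_)).symm⟩
  rw [hcard, Nat.card_prod, Nat.card_congr Multiplicative.toAdd, Nat.card_zmod, sq]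

theorem characteristic_of_apply {S : Type*} [Group S] (R : Subgroup S)
    (h : ∀ α : MulAut S, ∀ x ∈ R, α x ∈ R) : R.Characteristic :=
  Subgroup.characteristic_iff_le_comap.mpr fun α x hx => h α x hx

/-- The kernel of an `Aut S`-equivariant map onto a group of order `p`. -/
theorem char_index_of_hom {S Q : Type*} [Group S] [Group Q] (f : S →* Q)
    (hcard : Nat.card f.range = p) (h : ∀ α : MulAut S, ∀ x, f x = 1 → f (α x) = 1) :
    f.ker.Characteristic ∧ f.ker.index = p :=
  ⟨characteristic_of_apply _ fun α x hx => h α x hx, by rw [Subgroup.index_ker, hcard]⟩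

/-- A metacyclic `p`-group, `p` odd, not homocyclic of rank two has a characteristic subgroup of
index `p`. -/
theorem exists_char_index (hp2 : p ≠ 2) {S : Type*} [Group S] [Finite S] [Nontrivial S]
    (hS : IsPGroup p S) (hm : Cfsg.IsMetacyclic S)
    (hhom : ¬ ∃ n : ℕ, 0 < n ∧
      Nonempty (S ≃* Multiplicative (ZMod (p ^ n)) × Multiplicative (ZMod (p ^ n)))) :
    ∃ R : Subgroup S, R.Characteristic ∧ R.index = p := by
  classical
  have hp := (Fact.out : p.Prime)
  haveI : Group.IsNilpotent S := hS.isNilpotent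
  let A := Abelianization S
  have hof : Function.Surjective (Abelianization.of : S →* A) := QuotientGroup.mk_surjective
  have hAp : IsPGroup p A := hS.of_surjective _ hof
  have hAm : Cfsg.IsMetacyclic A := H83.isMetacyclic_of_surjective _ hof hm
  obtain ⟨k, hk⟩ := IsPGroup.iff_card.mp hAp
  have hex : ∃ a, ∀ x : A, x ^ p ^ a = 1 := ⟨k, fun x => by rw [← hk]; exact pow_card_eq_one'⟩
  have hmap : ∀ (α : MulAut S) (x : S),
      Abelianization.map α.toMonoidHom (Abelianization.of x) = Abelianization.of (α x) := fun α x => by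
    simp
  obtain ⟨a, ha, hmin⟩ : ∃ a, (∀ x : A, x ^ p ^ (a + 1) = 1) ∧ ∃ x : A, x ^ p ^ a ≠ 1 := by
    have h0 : Nat.find hex ≠ 0 := by
      intro e
      have h1 := Nat.find_spec hex
      rw [e] at h1
      simp only [pow_zero, pow_one] at h1
      have htop : commutator S = ⊤ := eq_top_iff.mpr fun x _ =>
        (QuotientGroup.eq_one_iff x).mp (h1 (Abelianization.of x))
      exact (IsSolvable.commutator_lt_top_of_nontrivial S).ne htop
    obtain ⟨a, ha⟩ := Nat.exists_eq_succ_of_ne_zero h0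
    refine ⟨a, ?_, ?_⟩
    · have := Nat.find_spec hex; rwa [ha] at this
    · have := Nat.find_min hex (show a < Nat.find hex by omega); push Not at this; exact this
  let φ : A →* A := powMonoidHom (p ^ a)
  have hφ1 : φ.range ≠ ⊥ := by
    obtain ⟨x, hx⟩ := hmin
    exact fun e => hx (Subgroup.mem_bot.mp (e ▸ ⟨x, rfl⟩ : φ x ∈ (⊥ : Subgroup A)))
  have hφe : ∀ x : φ.range, x ^ p = 1 := by
    rintro ⟨_, x, rfl⟩
    refine Subtype.ext ?_
    show (x ^ p ^ a) ^ p = 1
    rw [← pow_mul, ← pow_succ, ha]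
  have hφ2 : Nat.card φ.range ≤ p ^ 2 :=
    H83.card_le_sq_of_isMetacyclic hp.pos
      (H83.isMetacyclic_of_injective φ.range.subtype φ.range.subtype_injective hAm) hφe
  by_cases hsmall : Nat.card φ.range < p ^ 2
  · -- the power map has image of order `p`
    have hcard : Nat.card φ.range = p := by
      obtain ⟨j, hj⟩ := IsPGroup.iff_card.mp (hAp.to_subgroup φ.range)
      rw [hj] at hsmall ⊢
      have h1 := (Nat.pow_lt_pow_iff_right hp.one_lt).mp hsmall
      interval_cases j
      · exact absurd (Subgroup.card_eq_one.mp (by rw [hj, pow_zero])) hφ1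
      · exact pow_one p
    refine ⟨_, char_index_of_hom (p := p) (φ.comp Abelianization.of) ?_ fun α x hx => ?_⟩
    · rw [← hcard, MonoidHom.range_comp]
      congr 2
      rw [MonoidHom.range_eq_top.mpr hof, ← MonoidHom.range_eq_map]
    · show (Abelianization.of (α x)) ^ p ^ a = 1
      rw [← hmap, ← map_pow, show Abelianization.of x ^ p ^ a = 1 from hx, map_one]
  have hφcard : Nat.card φ.range = p ^ 2 := le_antisymm hφ2 (not_lt.mp hsmall)
  have hAge := card_ge_of_pow_range a ha hφcard.ge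
  have hAle : Nat.card A ≤ (p ^ (a + 1)) ^ 2 :=
    H83.card_le_sq_of_isMetacyclic (pow_pos hp.pos _) hAm ha
  have hAcard : Nat.card A = (p ^ (a + 1)) ^ 2 := le_antisymm hAle hAge
  by_cases hS' : commutator S = ⊥
  · exfalso
    have hinj : Function.Injective (Abelianization.of : S →* A) :=
      (MonoidHom.ker_eq_bot_iff _).mp (by rw [Abelianization.ker_of, hS'])
    exact hhom ⟨a + 1, by omega, homocyclic_of_card (e := p ^ (a + 1)) (pow_pos hp.pos _) hm
      (fun x y => hinj (by rw [map_mul, map_mul, mul_comm]))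
      (fun x => hinj (by rw [map_pow, ha, map_one]))
      (by rw [← hAcard]; exact Nat.card_congr (Equiv.ofBijective _ ⟨hinj, hof⟩))⟩
  -- the commutator subgroup is cyclic and nontrivial
  haveI : IsCyclic (commutator S) := by
    obtain ⟨N, hN, hNc, hQ⟩ := hm
    haveI := hN
    haveI := hNc
    haveI := hQ
    have hle : commutator S ≤ N := by
      rw [commutator_def, Subgroup.commutator_le]
      intro x _ y _
      refine (QuotientGroup.eq_one_iff _).mp ?_
      rw [← QuotientGroup.mk'_apply, map_commutatorElement, commutatorElement_eq_one_iff_mul_comm]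
      exact IsMulCommutative.is_comm.comm _ _
    exact isCyclic_of_injective (Subgroup.inclusion hle) (Subgroup.inclusion_injective hle)
  obtain ⟨⟨c, hc⟩, hgen⟩ := IsCyclic.exists_generator (α := commutator S)
  have hder : ∀ z ∈ commutator S, ∃ i : ℤ, c ^ i = z := fun z hz => by
    obtain ⟨i, hi⟩ := Subgroup.mem_zpowers_iff.mp (hgen ⟨z, hz⟩)
    exact ⟨i, by simpa using congrArg Subtype.val hi⟩
  set Z : Subgroup S := Subgroup.zpowers (c ^ p) with hZ
  haveI hZc : Z.Characteristic := characteristic_of_apply _ fun α x hx => by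
    obtain ⟨i, rfl⟩ := Subgroup.mem_zpowers_iff.mp hx
    obtain ⟨j, hj⟩ := hder _ (H87.apply_mem_of_characteristic (inferInstance : (commutator S).Characteristic) α hc)
    rw [map_zpow, map_pow, ← hj]
    refine Subgroup.mem_zpowers_iff.mpr ⟨j * i, ?_⟩
    rw [← zpow_natCast, ← zpow_natCast, ← zpow_mul, ← zpow_mul, ← zpow_mul]
    ring_nf
  have hc1 : c ≠ 1 := fun e => hS' (by
    rw [Subgroup.eq_bot_iff_forall]
    intro z hz
    obtain ⟨i, rfl⟩ := hder z hz
    rw [e, one_zpow])
  have hcZ : c ∉ Z := by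
    intro h
    obtain ⟨i, hi⟩ := Subgroup.mem_zpowers_iff.mp h
    obtain ⟨m, hm'⟩ := hS c
    obtain ⟨l, hl, hlo⟩ := (Nat.dvd_prime_pow hp).mp (orderOf_dvd_of_pow_eq_one hm')
    have h1 : c ^ ((p : ℤ) * i - 1) = 1 := by
      rw [zpow_sub_one, zpow_mul, zpow_natCast, hi, mul_inv_cancel]
    have h2 := orderOf_dvd_iff_zpow_eq_one.mpr h1
    rw [hlo] at h2
    rcases l with _ | l
    · exact hc1 (orderOf_eq_one_iff.mp (by rw [hlo, pow_zero]))
    · have h3 : (p : ℤ) ∣ (p : ℤ) * i - 1 := dvd_trans ⟨(p : ℤ) ^ l, by rw [← pow_succ']⟩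
        (by exact_mod_cast h2)
      have h4 : (p : ℤ) ∣ 1 := by simpa using dvd_sub (dvd_mul_right (p : ℤ) i) h3
      exact hp.one_lt.ne' (Nat.dvd_one.mp (by exact_mod_cast h4))
  let π := QuotientGroup.mk' Z
  set C : Subgroup (S ⧸ Z) := (commutator S).map π with hC
  have hCgen : C = Subgroup.zpowers (π c) := by
    refine le_antisymm ?_ (Subgroup.zpowers_le.mpr (Subgroup.mem_map_of_mem _ hc))
    rintro _ ⟨z, hz, rfl⟩
    obtain ⟨i, rfl⟩ := hder z hz
    rw [map_zpow]
    exact Subgroup.zpow_mem_zpowers _ _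
  have hcp : π c ^ p = 1 := by
    rw [← map_pow]
    exact (QuotientGroup.eq_one_iff _).mpr (Subgroup.mem_zpowers _)
  have hπc : π c ≠ 1 := fun e => hcZ ((QuotientGroup.eq_one_iff _).mp e)
  have hCcard : Nat.card C = p := by
    rw [hCgen, Nat.card_zpowers, orderOf_eq_prime hcp hπc]
  haveI : C.Normal := Subgroup.Normal.map inferInstance π (QuotientGroup.mk'_surjective Z)
  have hCcen : C ≤ Subgroup.center (S ⧸ Z) := H6.le_center_of_card_eq_prime (hS.to_quotient Z) hCcard
  have hCp : ∀ d ∈ C, d ^ p = 1 := fun d hd => by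
    have := Subgroup.orderOf_dvd_natCard C hd
    rw [hCcard] at this
    exact orderOf_dvd_iff_pow_eq_one.mp this
  let g : S →* S ⧸ Z := MonoidHom.mk' (fun x => π x ^ p ^ (a + 1)) fun x y => by
    set d := π (x⁻¹ * y⁻¹ * x * y) with hd
    have hdC : d⁻¹ ∈ C := inv_mem (Subgroup.mem_map_of_mem _ (by
      have h1 := Subgroup.commutator_mem_commutator (Subgroup.mem_top x⁻¹) (Subgroup.mem_top y⁻¹)
      rw [← commutator_def, commutatorElement_def] at h1
      simpa [mul_assoc] using h1))
    have hz := Subgroup.mem_center_iff.mp (hCcen hdC)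
    have h1 : π y * π x = π x * π y * d⁻¹ := by
      rw [hd, ← map_mul, ← map_mul, ← map_inv, ← map_mul]
      congr 1
      group
    obtain ⟨t, ht⟩ := Nat.Prime.dvd_choose_pow hp (n := a + 1) two_ne_zero (by
      intro e
      have h3 : p ≤ p ^ (a + 1) := Nat.le_self_pow (by omega) p
      have := hp.two_le
      omega)
    show π (x * y) ^ p ^ (a + 1) = _
    rw [map_mul, H83.mul_pow_class_two h1 (hz _).symm (hz _).symm, ht, pow_mul, hCp _ hdC,
      one_pow, mul_one]
  have hgC : g.range ≤ C := by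
    rintro _ ⟨x, rfl⟩
    refine ⟨x ^ p ^ (a + 1), (QuotientGroup.eq_one_iff _).mp ?_, map_pow π _ _⟩
    exact ha (Abelianization.of x)
  have hg1 : g.range ≠ ⊥ := by
    intro e
    have hexp : ∀ q : S ⧸ Z, q ^ p ^ (a + 1) = 1 := fun q => by
      obtain ⟨x, rfl⟩ := QuotientGroup.mk'_surjective Z q
      exact Subgroup.mem_bot.mp (e ▸ ⟨x, rfl⟩ : g x ∈ (⊥ : Subgroup (S ⧸ Z)))
    have hle := H83.card_le_sq_of_isMetacyclic (p := p ^ (a + 1)) (pow_pos hp.pos _)
      (H83.isMetacyclic_of_surjective π (QuotientGroup.mk'_surjective Z) hm) hexp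
    have hker : π.ker ≤ commutator S := by
      rw [QuotientGroup.ker_mk']
      exact Subgroup.zpowers_le.mpr (pow_mem hc p)
    have hidx : C.index = Nat.card A := Subgroup.index_map_eq _ (QuotientGroup.mk'_surjective Z) hker
    rw [← Subgroup.card_mul_index C, hCcard, hidx, hAcard] at hle
    have : (p ^ (a + 1)) ^ 2 < p * (p ^ (a + 1)) ^ 2 :=
      lt_mul_of_one_lt_left (pow_pos (pow_pos hp.pos _) _) hp.one_lt
    omega
  refine ⟨_, char_index_of_hom (p := p) g ?_ fun α x hx => ?_⟩
  · rcases (Nat.dvd_prime hp).mp (hCcard ▸ Subgroup.card_dvd_of_le hgC) with h | h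
    · exact absurd (Subgroup.card_eq_one.mp h) hg1
    · exact h
  · show π (α x) ^ p ^ (a + 1) = 1
    rw [← map_pow, QuotientGroup.mk'_apply, QuotientGroup.eq_one_iff, ← map_pow]
    refine H87.apply_mem_of_characteristic hZc α ((QuotientGroup.eq_one_iff _).mp ?_)
    exact (map_pow π x _).trans hx

theorem aut_small_cyclic {X : Type*} [Group X] [Finite X] (h : Nat.card X ∣ p) :
    (∀ u v : MulAut X, u * v = v * u) ∧ ∀ u : MulAut X, u ^ (p - 1) = 1 := by
  have hp := (Fact.out : p.Prime)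
  rcases (Nat.dvd_prime hp).mp h with h1 | h1
  · haveI : Subsingleton X := (Nat.card_eq_one_iff_unique.mp h1).1
    exact ⟨fun u v => MulEquiv.ext fun x => Subsingleton.elim _ _,
      fun u => MulEquiv.ext fun x => Subsingleton.elim _ _⟩
  · haveI : IsCyclic X := isCyclic_of_prime_card h1
    refine ⟨fun u v => (IsCyclic.mulAutMulEquiv X).injective (by rw [map_mul, map_mul, mul_comm]),
      fun u => ?_⟩
    have h2 : u ^ Nat.card (MulAut X) = 1 := pow_card_eq_one'
    rwa [IsCyclic.card_mulAut, h1, Nat.totient_prime hp] at h2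

/-- Automorphisms of order prime to `p` form abelian groups of exponent dividing `p - 1`. -/
theorem coprime_aut_abelian (hp2 : p ≠ 2) {S : Type*} [Group S] [Finite S] (hS : IsPGroup p S)
    (hm : Cfsg.IsMetacyclic S)
    (hhom : ¬ ∃ n : ℕ, 0 < n ∧
      Nonempty (S ≃* Multiplicative (ZMod (p ^ n)) × Multiplicative (ZMod (p ^ n))))
    (H : Subgroup (MulAut S)) (hH : (Nat.card H).Coprime p) :
    IsMulCommutative H ∧ ∀ h ∈ H, h ^ (p - 1) = 1 := by
  classical
  have hp := (Fact.out : p.Prime)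
  rcases subsingleton_or_nontrivial S with hs | hs
  · have : ∀ u : MulAut S, u = 1 := fun u => MulEquiv.ext fun x => Subsingleton.elim _ _
    exact ⟨⟨⟨fun u v => Subtype.ext ((this _).trans (this _).symm)⟩⟩, fun h _ => this _⟩
  haveI : Finite (MulAut S) := Finite.of_injective _ DFunLike.coe_injective
  obtain ⟨R, hRc, hR⟩ := exists_char_index hp2 hS hm hhom
  haveI := hRc
  have hΦR : frattini S ≤ R := frattini_le_coatom ⟨fun e => by
    rw [e, Subgroup.index_top] at hR; exact hp.one_lt.ne hR, fun K hK => by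
    have h1 := Subgroup.relIndex_mul_index hK.le
    rw [hR] at h1
    rcases (Nat.dvd_prime hp).mp ⟨_, ((mul_comm _ _).trans h1).symm⟩ with h2 | h2
    · exact Subgroup.index_eq_one.mp h2
    · rw [h2] at h1
      exact absurd (Subgroup.relIndex_eq_one.mp
        (Nat.eq_of_mul_eq_mul_right hp.pos (h1.trans (one_mul p).symm))) hK.not_ge⟩
  set πV := QuotientGroup.mk' (frattini S) with hπV
  have hVle : Nat.card (S ⧸ frattini S) ≤ p ^ 2 :=
    H83.card_le_sq_of_isMetacyclic hp.pos
      (H83.isMetacyclic_of_surjective πV (QuotientGroup.mk'_surjective _) hm) fun v => by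
      obtain ⟨x, rfl⟩ := QuotientGroup.mk'_surjective (frattini S) v
      rw [← map_pow]
      exact (QuotientGroup.eq_one_iff _).mpr (H6.pow_prime_mem_frattini hS x)
  set W : Subgroup (S ⧸ frattini S) := R.map πV with hW
  have hWi : W.index = p := by
    rw [hW, Subgroup.index_map_eq _ (QuotientGroup.mk'_surjective _)
      (by rw [QuotientGroup.ker_mk']; exact hΦR), hR]
  have hWcard : Nat.card W ∣ p := by
    obtain ⟨j, hj⟩ := IsPGroup.iff_card.mp ((hS.to_quotient (frattini S)).to_subgroup W)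
    rw [hj]
    have h1 := Subgroup.card_mul_index W
    rw [hWi, hj, ← pow_succ] at h1
    have h2 : j + 1 ≤ 2 := (Nat.pow_le_pow_iff_right hp.one_lt).mp (h1 ▸ hVle)
    exact (pow_dvd_pow p (show j ≤ 1 by omega)).trans (pow_one p).dvd
  have hWinv : ∀ β ∈ (frattiniQuotAut S).range, ∀ w ∈ W, β w ∈ W := by
    rintro _ ⟨α, rfl⟩ _ ⟨x, hx, rfl⟩
    exact ⟨α x, H87.apply_mem_of_characteristic hRc α hx, rfl⟩
  let A₁ : MulAut S →* MulAut (S ⧸ R) :=
    { toFun := fun α => QuotientGroup.congr R R α (Subgroup.characteristic_iff_map_eq.mp hRc α)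
      map_one' := by ext x; induction x using QuotientGroup.induction_on; rfl
      map_mul' := fun α β => by ext x; induction x using QuotientGroup.induction_on; rfl }
  let A₂ : MulAut S →* MulAut W :=
    (restrictAut _ W hWinv).comp (frattiniQuotAut S).rangeRestrict
  obtain ⟨hc1, he1⟩ := aut_small_cyclic (p := p) (X := S ⧸ R) (by rw [← Subgroup.index, hR])
  obtain ⟨hc2, he2⟩ := aut_small_cyclic (p := p) (X := W) hWcard
  have hV : IsPGroup p (S ⧸ frattini S) := hS.to_quotient _
  let U : Subgroup (MulAut S) :=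
    { carrier := {β | ∀ a : S, a⁻¹ * β a ∈ frattini S}
      one_mem' := fun a => by simp
      mul_mem' := fun {β γ} hβ hγ a => by
        have := mul_mem (hγ a) (hβ (γ a))
        simpa [mul_assoc] using this
      inv_mem' := fun {β} hβ a => by
        have := inv_mem (hβ (β⁻¹ a))
        simpa using this }
  have hU : IsPGroup p U := H87.isPGroup_of_trivial_mod_frattini hS U fun β hβ => hβ
  have triv : ∀ u ∈ H, A₁ u = 1 → A₂ u = 1 → u = 1 := by
    intro u hu h1 h2
    have hcop : (orderOf u).Coprime p :=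
      Nat.Coprime.coprime_dvd_left (Subgroup.orderOf_dvd_natCard H hu) hH
    have hcop' : (orderOf (frattiniQuotAut S u)).Coprime p :=
      Nat.Coprime.coprime_dvd_left (orderOf_map_dvd _ u) hcop
    have hfix : ∀ v, frattiniQuotAut S u v = v := fun v => by
      refine H88.fixed_of_iterate_autComm hV _ hcop' 2 v ?_
      obtain ⟨x, rfl⟩ := QuotientGroup.mk'_surjective (frattini S) v
      have hw : (πV x)⁻¹ * frattiniQuotAut S u (πV x) ∈ W := by
        refine ⟨x⁻¹ * u x, QuotientGroup.eq.mp ?_, map_mul _ _ _⟩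
        have := DFunLike.congr_fun h1 (x : S ⧸ R)
        exact this.symm
      show ((πV x)⁻¹ * frattiniQuotAut S u (πV x))⁻¹ *
        frattiniQuotAut S u ((πV x)⁻¹ * frattiniQuotAut S u (πV x)) = 1
      rw [inv_mul_eq_one]
      exact (congrArg Subtype.val (DFunLike.congr_fun h2 ⟨_, hw⟩)).symm
    have huU : u ∈ U := fun a => QuotientGroup.eq.mp (hfix (a : S ⧸ frattini S)).symm
    obtain ⟨m, hm'⟩ := hU ⟨u, huU⟩
    exact orderOf_eq_one_iff.mp (Nat.eq_one_of_dvd_coprimes (hcop.pow_right m) dvd_rfl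
      (orderOf_dvd_of_pow_eq_one (congrArg Subtype.val hm')))
  refine ⟨⟨⟨fun u v => Subtype.ext ?_⟩⟩, fun u hu => triv _ (pow_mem hu _) (by rw [map_pow, he1])
    (by rw [map_pow, he2])⟩
  show (u : MulAut S) * v = v * u
  refine mul_inv_eq_one.mp (triv _ (mul_mem (mul_mem u.2 v.2) (inv_mem (mul_mem v.2 u.2))) ?_ ?_)
  · rw [map_mul, map_inv, map_mul, map_mul, hc1 (A₁ (u : MulAut S)), mul_inv_cancel]
  · rw [map_mul, map_inv, map_mul, map_mul, hc2 (A₂ (u : MulAut S)), mul_inv_cancel]

end H67
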