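import Mathlib
import Cfsg.Agent.S5283
import Cfsg.Agent.H85.GroupSystem
import Cfsg.Agent.H89.SimpleRealize
import Cfsg.Agent.H87.Stability
import Cfsg.Agent.H67.GL2Sylow
import Cfsg.Agent.H67.QDStruct
import Cfsg.Agent.H70.DihedralIso
import Cfsg.Agent.H37.SylowTwo
import Cfsg.Agent.H37.Card
/-!
Saturated systems that are not supersoluble over dihedral, quasi-dihedral and quaternion 2-groups.
-/
set_option autoImplicit false

namespace H67

open Cfsg

/-- A finite group with an element of odd order acting nontrivially on a 2-subgroup yields a system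
that is not supersoluble. -/
theorem not_all_supersoluble {Ω : Type*} [Group Ω] {S : Subgroup Ω} [Finite S] (hS : IsPGroup 2 S)
    {G : Type*} [Group G] [Finite G] (T : Sylow 2 G) (e : Nonempty (S ≃* (T : Subgroup G)))
    (hG : ∃ (R : Subgroup G) (g r : G), IsPGroup 2 R ∧ g ∈ Subgroup.normalizer (R : Set G) ∧
      Odd (orderOf g) ∧ r ∈ R ∧ g * r * g⁻¹ ≠ r) :
    ¬ ∀ F : Cfsg.FusionSystem S, F.IsSaturated 2 →
      (∃ (m : ℕ) (c : Fin (m + 1) → Subgroup Ω), c 0 = ⊥ ∧ c (Fin.last m) = S ∧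
        (∀ i : Fin (m + 1), F.StronglyClosed (c i)) ∧
        ∀ i : Fin m, c i.castSucc ≤ c i.succ ∧ ∃ x ∈ S, c i.succ = c i.castSucc ⊔ Subgroup.zpowers x) := by
  intro h
  haveI : Fact (Nat.Prime 2) := ⟨Nat.prime_two⟩
  obtain ⟨e⟩ := e
  obtain ⟨hres, haut⟩ := (Cfsg.Agent.S5283.result 2 hS).mp h
  haveI : Finite (MulAut S) := Finite.of_injective _ DFunLike.coe_injective
  have hA : IsPGroup 2 (MulAut S) := by
    refine H87.isPGroup_of_no_other_prime (fun u q hq hu => ?_)
    by_contra hne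
    have h1 := (haut (Subgroup.zpowers u) (by
      rw [Nat.card_zpowers, hu]
      exact (Nat.coprime_primes hq Nat.prime_two).mpr hne)).2 u (Subgroup.mem_zpowers u)
    rw [show 2 - 1 = 1 from rfl, pow_one] at h1
    rw [h1, orderOf_one] at hu
    exact hq.one_lt.ne hu
  obtain ⟨R, g, r, hR, hgN, hgo, hr, hne⟩ := hG
  -- move `R` into `T`
  obtain ⟨T', hT'⟩ := hR.exists_le_sylow
  obtain ⟨k, hk⟩ := MulAction.exists_smul_eq G T' T
  have hkR : ∀ x ∈ R, k * x * k⁻¹ ∈ (T : Subgroup G) := fun x hx => by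
    rw [← hk, Sylow.coe_subgroup_smul]
    exact Subgroup.mem_map_of_mem _ (hT' hx)
  let ι : S →* G := (T : Subgroup G).subtype.comp e.toMonoidHom
  have hι : Function.Injective ι := fun a b hab => e.injective (Subtype.ext hab)
  have hrange : (T : Subgroup G) = ι.range := by
    refine le_antisymm (fun x hx => ⟨e.symm ⟨x, hx⟩, by simp [ι]⟩) ?_
    rintro _ ⟨a, rfl⟩
    exact (e a).2
  set F := H89.realizedSystem ι hι with hF
  have hreal := H89.realized_realizedSystem ι hι
  have hN := hres F (H85.isSaturated_of_realized hreal T hrange)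
  let P₀ : Subgroup S := (R.map (MulAut.conj k).toMonoidHom).comap ι
  set P : Subgroup Ω := P₀.map S.subtype with hP
  have hPS : P ≤ S := Subgroup.map_subtype_le _
  set gc := k * g * k⁻¹ with hgc
  have hmemP : ∀ x : P, (ι ⟨x, hPS x.2⟩) ∈ R.map (MulAut.conj k).toMonoidHom := by
    rintro ⟨x, hx⟩
    obtain ⟨y, hy, rfl⟩ := hx
    exact hy
  have hconjmem : ∀ y ∈ R.map (MulAut.conj k).toMonoidHom,
      gc * y * gc⁻¹ ∈ R.map (MulAut.conj k).toMonoidHom := by
    rintro _ ⟨z, hz, rfl⟩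
    refine ⟨g * z * g⁻¹, (Subgroup.mem_normalizer_iff.mp hgN z).mp hz, ?_⟩
    simp [hgc, mul_assoc]
  obtain ⟨φ, hφ, hφS, hφeq⟩ := H85.exists_hom_of_conj hreal hPS gc fun x => by
    obtain ⟨z, hz, hze⟩ := hconjmem _ (hmemP x)
    rw [← hze, ← hrange]
    exact hkR z hz
  obtain ⟨ψ, hψ, hext, -⟩ := hN.2 P φ hφ
  have htop : S ≤ P ⊔ S := le_sup_right
  let χ : S →* S := (ψ.comp (Subgroup.inclusion htop)).codRestrict S fun x => H85.map_mem hψ _
  have hχ : Function.Injective χ := fun a b hab =>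
    Subgroup.inclusion_injective htop (F.injective_of_mem hψ (congrArg Subtype.val hab))
  let α : MulAut S := MulEquiv.ofBijective χ ⟨hχ, Finite.surjective_of_injective hχ⟩
  obtain ⟨j, hj⟩ := hA α
  have hα : ∀ x : P, α ⟨x, hPS x.2⟩ = ⟨φ x, hφS x⟩ := fun x =>
    Subtype.ext (hext x)
  have hiter : ∀ (i : ℕ) (x : P),
      ι ((α ^ i) ⟨x, hPS x.2⟩) = gc ^ i * ι ⟨x, hPS x.2⟩ * (gc ^ i)⁻¹ := by
    intro i
    induction i with
    | zero => intro x; simp
    | succ i ih =>
      intro x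
      have hmem : φ x ∈ P := by
        refine ⟨⟨φ x, hφS x⟩, ?_, rfl⟩
        refine Subgroup.mem_comap.mpr ?_
        rw [hφeq]
        exact hconjmem _ (hmemP x)
      rw [pow_succ, MulAut.mul_apply, hα, ih ⟨φ x, hmem⟩, hφeq, pow_succ]
      group
  have hr' : k * r * k⁻¹ ∈ ι.range := hrange ▸ hkR r hr
  obtain ⟨x, hx⟩ := hr'
  have hxP : (x : Ω) ∈ P := ⟨x, by
    refine Subgroup.mem_comap.mpr ?_
    rw [hx]
    exact ⟨r, hr, rfl⟩, rfl⟩
  have h1 := hiter (2 ^ j) ⟨x, hxP⟩
  rw [hj, MulAut.one_apply, hx] at h1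
  have hcom : Commute (g ^ 2 ^ j) r := by
    show g ^ 2 ^ j * r = r * g ^ 2 ^ j
    rw [hgc, conj_pow] at h1
    calc g ^ 2 ^ j * r = k⁻¹ * (k * g ^ 2 ^ j * k⁻¹ * (k * r * k⁻¹) * (k * g ^ 2 ^ j * k⁻¹)⁻¹) * k *
          g ^ 2 ^ j := by group
      _ = r * g ^ 2 ^ j := by rw [← h1]; group
  obtain ⟨m, hm⟩ := exists_pow_eq_self_of_coprime (x := g) (n := 2 ^ j)
    ((Nat.coprime_two_left.mpr hgo).pow_left j)
  have hc2 : Commute g r := hm ▸ hcom.pow_left m
  exact hne (by rw [hc2.eq, mul_inv_cancel_right])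

/-- A group acting by an element of order three on a quaternion subgroup of `SL₂`. -/
theorem sl2_triality {F : Type*} [Field F] [Finite F] (h2 : (2 : F) ≠ 0) :
    ∃ (R : Subgroup (Matrix.SpecialLinearGroup (Fin 2) F)) (g r : Matrix.SpecialLinearGroup (Fin 2) F),
      IsPGroup 2 R ∧ g ∈ Subgroup.normalizer (R : Set (Matrix.SpecialLinearGroup (Fin 2) F)) ∧
      g ^ 3 = 1 ∧ r ∈ R ∧
      ∀ c : F, ((g * r * g⁻¹ * r⁻¹ : Matrix.SpecialLinearGroup (Fin 2) F) : Matrix (Fin 2) (Fin 2) F) ≠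
        c • (1 : Matrix (Fin 2) (Fin 2) F) := by
  classical
  obtain ⟨p, hp⟩ := CharP.exists F
  haveI : Fact p.Prime := ⟨CharP.char_is_prime F p⟩
  haveI : NeZero p := ⟨(Fact.out : p.Prime).ne_zero⟩
  obtain ⟨a, b, hab⟩ := CharP.sq_add_sq F p (-1)
  set u : F := (a : F) with hu
  set v : F := (b : F) with hv
  have huv : u ^ 2 + v ^ 2 = -1 := by simpa using hab
  let I : Matrix.SpecialLinearGroup (Fin 2) F := ⟨!![u, v; v, -u], by
    rw [Matrix.det_fin_two_of]; linear_combination -huv⟩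
  let J : Matrix.SpecialLinearGroup (Fin 2) F := ⟨!![0, 1; -1, 0], by
    rw [Matrix.det_fin_two_of]; ring⟩
  let w : Matrix.SpecialLinearGroup (Fin 2) F :=
    ⟨!![(-1 + u - v) / 2, (1 + u + v) / 2; (-1 + u + v) / 2, (-1 - u + v) / 2], by
      rw [Matrix.det_fin_two_of]; field_simp; linear_combination -2 * huv⟩
  have hI : I * I = J * J := by
    apply Subtype.ext
    simp only [Matrix.SpecialLinearGroup.coe_mul]
    ext i j
    fin_cases i <;> fin_cases j <;>
      simp [I, J, Matrix.mul_apply, Fin.sum_univ_two] <;>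
      first | ring1 | linear_combination huv
  have hJI : I * J * I = J := by
    apply Subtype.ext
    simp only [Matrix.SpecialLinearGroup.coe_mul]
    ext i j
    fin_cases i <;> fin_cases j <;>
      simp [I, J, Matrix.mul_apply, Fin.sum_univ_two] <;>
      first | ring1 | linear_combination huv | linear_combination -huv
  have hI4 : I ^ 4 = 1 := by
    apply Subtype.ext
    rw [Matrix.SpecialLinearGroup.coe_pow, show (4 : ℕ) = 2 * 2 from rfl, pow_mul]
    have : (I : Matrix (Fin 2) (Fin 2) F) ^ 2 = -1 := by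
      ext i j
      fin_cases i <;> fin_cases j <;>
        simp [I, sq, Matrix.mul_apply, Fin.sum_univ_two] <;>
        first | ring1 | linear_combination huv
    rw [this]
    simp
  have hwI : w * I = I * J * w := by
    apply Subtype.ext
    simp only [Matrix.SpecialLinearGroup.coe_mul]
    ext i j
    fin_cases i <;> fin_cases j <;>
      simp [I, J, w, Matrix.mul_apply, Fin.sum_univ_two] <;> field_simp <;>
      first | ring1 | linear_combination huv | linear_combination -huv |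
        linear_combination 2 * huv | linear_combination -2 * huv
  have hwJ : w * J = I * w := by
    apply Subtype.ext
    simp only [Matrix.SpecialLinearGroup.coe_mul]
    ext i j
    fin_cases i <;> fin_cases j <;>
      simp [I, J, w, Matrix.mul_apply, Fin.sum_univ_two] <;> field_simp <;>
      first | ring1 | linear_combination huv | linear_combination -huv |
        linear_combination 2 * huv | linear_combination -2 * huv
  have hw3 : w ^ 3 = 1 := by
    apply Subtype.ext
    rw [Matrix.SpecialLinearGroup.coe_pow, Matrix.SpecialLinearGroup.coe_one]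
    have hsq : (w : Matrix (Fin 2) (Fin 2) F) * w = -1 - w := by
      ext i j
      fin_cases i <;> fin_cases j <;>
        simp [w, Matrix.mul_apply, Fin.sum_univ_two] <;> field_simp <;>
        first | ring1 | linear_combination huv | linear_combination -huv |
          linear_combination 2 * huv | linear_combination -2 * huv
    rw [pow_succ, sq, hsq, sub_mul, neg_mul, one_mul, hsq]
    abel
  let R : Subgroup (Matrix.SpecialLinearGroup (Fin 2) F) := Subgroup.closure {I, J}
  have hIR : I ∈ R := Subgroup.subset_closure (by simp)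
  have hJR : J ∈ R := Subgroup.subset_closure (by simp)
  have hab' : J * I * J⁻¹ = I⁻¹ := by
    rw [mul_inv_eq_iff_eq_mul]
    calc J * I = I⁻¹ * (I * J * I) := by group
      _ = I⁻¹ * J := by rw [hJI]
  refine ⟨R, w, I, ?_, ?_, hw3, hIR, ?_⟩
  · rw [show R = _ from (quatHom_range (k := 2) I J hI4 (by rw [sq, hI]) hab').symm]
    exact H37.range_q8_isPGroup _
  · haveI : Finite R := inferInstance
    refine Subgroup.mem_normalizer_fintype fun x hx => ?_
    have hle : R ≤ R.comap (MulAut.conj w).toMonoidHom := by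
      refine (Subgroup.closure_le _).mpr ?_
      rintro y (rfl | rfl)
      · show w * I * w⁻¹ ∈ R
        rw [hwI, mul_inv_cancel_right]
        exact mul_mem hIR hJR
      · show w * J * w⁻¹ ∈ R
        rw [hwJ, mul_inv_cancel_right]
        exact hIR
    exact hle hx
  · intro c hc
    rw [hwI, mul_inv_cancel_right] at hc
    have e : ((I * J : Matrix.SpecialLinearGroup (Fin 2) F) : Matrix (Fin 2) (Fin 2) F) =
        c • (I : Matrix (Fin 2) (Fin 2) F) := by
      rw [← inv_mul_cancel_right (I * J) I, Matrix.SpecialLinearGroup.coe_mul, hc, smul_mul_assoc,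
        one_mul]
    rw [Matrix.SpecialLinearGroup.coe_mul] at e
    have e00 := congrFun (congrFun e 0) 0
    have e01 := congrFun (congrFun e 0) 1
    simp [I, J, Matrix.mul_apply, Fin.sum_univ_two] at e00 e01
    have hv0 : v = 0 := by
      have : v * (1 + c ^ 2) = 0 := by linear_combination -e00 - c * e01
      rcases mul_eq_zero.mp this with h | h
      · exact h
      · exact absurd (show (-1 : F) = 0 by
          rw [← huv, e01]; linear_combination v ^ 2 * h) (neg_ne_zero.mpr one_ne_zero)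
    have hu0 : u = 0 := by rw [e01, hv0, mul_zero]
    rw [hu0, hv0] at huv
    simp at huv

theorem qd_iso {S T : Type*} [Group S] [Group T] {n : ℕ} {x y : S} (h : QD n x y) {x' y' : T}
    (h' : QD n x' y') : Nonempty (S ≃* T) := by
  haveI := h.finite
  haveI := h'.finite
  let K : Subgroup (S × T) :=
    { carrier := {g | ∃ i : ℤ, g = (x ^ i, x' ^ i) ∨ g = (x ^ i * y, x' ^ i * y')}
      one_mem' := ⟨0, Or.inl (Prod.ext (zpow_zero x).symm (zpow_zero x').symm)⟩
      mul_mem' := by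
        rintro _ _ ⟨i, rfl | rfl⟩ ⟨j, rfl | rfl⟩
        · exact ⟨_, Or.inl (Prod.ext (h.mul_cc i j) (h'.mul_cc i j))⟩
        · exact ⟨_, Or.inr (Prod.ext (h.mul_cy i j) (h'.mul_cy i j))⟩
        · exact ⟨_, Or.inr (Prod.ext (h.mul_yc i j) (h'.mul_yc i j))⟩
        · exact ⟨_, Or.inl (Prod.ext (h.mul_yy i j) (h'.mul_yy i j))⟩
      inv_mem' := by
        rintro _ ⟨i, rfl | rfl⟩
        · exact ⟨-i, Or.inl (Prod.ext (zpow_neg x i).symm (zpow_neg x' i).symm)⟩
        · exact ⟨_, Or.inr (Prod.ext (h.inv_y_form i) (h'.inv_y_form i))⟩ }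
  let f : K →* S := (MonoidHom.fst S T).comp K.subtype
  let g : K →* T := (MonoidHom.snd S T).comp K.subtype
  have hf : Function.Bijective f := by
    refine ⟨(injective_iff_map_eq_one f).mpr ?_, fun s => ?_⟩
    · rintro ⟨_, i, rfl | rfl⟩ (e : _ = (1 : S))
      · exact Subtype.ext (Prod.ext e
          ((h'.zpow_x_eq_one_iff i).mpr ((h.zpow_x_eq_one_iff i).mp e)))
      · exact absurd (e.trans (zpow_zero x).symm) (h.zpow_mul_y_ne i 0)
    · rcases h.cases s with ⟨i, rfl⟩ | ⟨i, rfl⟩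
      · exact ⟨⟨_, i, Or.inl rfl⟩, rfl⟩
      · exact ⟨⟨_, i, Or.inr rfl⟩, rfl⟩
  have hg : Function.Surjective g := fun s => by
    rcases h'.cases s with ⟨i, rfl⟩ | ⟨i, rfl⟩
    · exact ⟨⟨_, i, Or.inl rfl⟩, rfl⟩
    · exact ⟨⟨_, i, Or.inr rfl⟩, rfl⟩
  have hc : Nat.card K ≤ Nat.card T := by
    rw [Nat.card_eq_of_bijective f hf, h.card_eq, h'.card_eq]
  exact ⟨(MulEquiv.ofBijective f hf).symm.trans
    (MulEquiv.ofBijective g (hg.bijective_of_nat_card_le hc))⟩

/-- Primes with prescribed 2-parts of `q - 1` and `q + 1`. -/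
theorem exists_prime_two_parts (j : ℕ) (hj : 2 ≤ j) :
    ∃ q a b : ℕ, q.Prime ∧ q % 4 = 3 ∧ Odd a ∧ Odd b ∧ q = 2 * a + 1 ∧ q + 1 = 2 ^ j * b := by
  have hc : Nat.Coprime (2 ^ j - 1) (2 ^ (j + 1)) := by
    refine Nat.Coprime.pow_right _ (Nat.coprime_two_right.mpr ?_)
    exact Nat.Even.sub_odd Nat.one_le_two_pow (even_two.pow_of_ne_zero (by omega)) odd_one
  obtain ⟨q, hq, hqp, hmod⟩ := Nat.forall_exists_prime_gt_and_modEq (2 ^ (j + 1)) (by positivity) hc
  have h1 : q % 2 ^ (j + 1) = 2 ^ j - 1 := by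
    rw [hmod]
    exact Nat.mod_eq_of_lt (by have := Nat.two_pow_succ j; have := Nat.one_le_two_pow (n := j); omega)
  have h2 := Nat.div_add_mod q (2 ^ (j + 1))
  rw [h1, pow_succ] at h2
  set d := q / (2 ^ j * 2)
  obtain ⟨i, rfl⟩ : ∃ i, j = i + 2 := ⟨j - 2, by omega⟩
  have h3 : 2 ^ (i + 2) = 4 * 2 ^ i := by ring
  have h4 := Nat.one_le_two_pow (n := i)
  rw [h3] at h2
  refine ⟨q, 4 * (2 ^ i * d) + 2 * 2 ^ i - 1, 2 * d + 1, hqp, ?_, ?_, odd_two_mul_add_one d, ?_, ?_⟩
  · rw [mul_assoc, mul_assoc] at h2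
    have : 4 * 2 ^ i * 2 * d = 8 * (2 ^ i * d) := by ring
    omega
  · refine Nat.odd_iff.mpr ?_
    omega
  · have : 4 * 2 ^ i * 2 * d = 8 * (2 ^ i * d) := by ring
    omega
  · rw [h3, mul_add, mul_one]
    have : 4 * 2 ^ i * (2 * d) = 4 * 2 ^ i * 2 * d := by ring
    omega

theorem card_sylow_two {G : Type*} [Group G] [Finite G] (e m : ℕ) (hm : Odd m)
    (hG : Nat.card G = 2 ^ e * m) (P : Sylow 2 G) : Nat.card P = 2 ^ e := by
  haveI : Fact (Nat.Prime 2) := ⟨Nat.prime_two⟩
  rw [Sylow.card_eq_multiplicity, hG]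
  congr 1
  rw [Nat.factorization_mul (by positivity) (Nat.pos_iff_ne_zero.mp hm.pos), Finsupp.add_apply,
    Nat.Prime.factorization_pow Nat.prime_two, Finsupp.single_eq_same,
    Nat.factorization_eq_zero_of_not_dvd (by simpa [← even_iff_two_dvd] using hm), add_zero]

variable {Ω : Type*} [Group Ω] {S : Subgroup Ω} [Finite S]

/-- Dihedral, quaternion and quasi-dihedral groups carry non-supersoluble saturated systems. -/
theorem not_all_supersoluble_small (hS : IsPGroup 2 S)
    (hsh : (∃ j, 2 ≤ j ∧ Nonempty (S ≃* DihedralGroup (2 ^ j))) ∨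
      (∃ j, 2 ≤ j ∧ Nonempty (S ≃* QuaternionGroup (2 ^ (j - 1)))) ∨ Cfsg.IsQuasiDihedral S) :
    ¬ ∀ F : Cfsg.FusionSystem S, F.IsSaturated 2 →
      (∃ (m : ℕ) (c : Fin (m + 1) → Subgroup Ω), c 0 = ⊥ ∧ c (Fin.last m) = S ∧
        (∀ i : Fin (m + 1), F.StronglyClosed (c i)) ∧
        ∀ i : Fin m, c i.castSucc ≤ c i.succ ∧ ∃ x ∈ S, c i.succ = c i.castSucc ⊔ Subgroup.zpowers x) := by
  classical
  obtain ⟨j, hj, hsh'⟩ : ∃ j, 2 ≤ j ∧ (Nonempty (S ≃* DihedralGroup (2 ^ j)) ∨
      Nonempty (S ≃* QuaternionGroup (2 ^ (j - 1))) ∨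
      ∃ x y : S, QD (j + 1) x y) := by
    rcases hsh with ⟨j, hj, h⟩ | ⟨j, hj, h⟩ | h
    · exact ⟨j, hj, Or.inl h⟩
    · exact ⟨j, hj, Or.inr (Or.inl h)⟩
    · obtain ⟨n, x, y, h⟩ := exists_QD h
      have := h.three_le
      exact ⟨n - 1, by omega, Or.inr (Or.inr ⟨x, y, by rwa [show n - 1 + 1 = n by omega]⟩)⟩
  obtain ⟨q, a, b, hq, hq4, ha, hb, hqa, hqb⟩ := exists_prime_two_parts j hj
  haveI : Fact q.Prime := ⟨hq⟩
  let K := ZMod q
  have h2 : (2 : K) ≠ 0 := two_ne_zero_of_odd_card (by rw [ZMod.card]; exact Nat.odd_iff.mpr (by omega))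
  have hK : Nat.card K = q := Nat.card_zmod q
  have hSL : Nat.card (Matrix.SpecialLinearGroup (Fin 2) K) = 2 ^ (j + 1) * (q * a * b) := by
    have h1 := H37.card_SL_fin (F := K) 2 (by norm_num)
    rw [Fin.prod_univ_two] at h1
    simp only [Fin.val_zero, Fin.val_one, pow_zero, pow_one, hK] at h1
    have h3 : q ^ 2 - 1 = (q - 1) * (q + 1) := by
      rw [hqa, Nat.add_sub_cancel]
      exact Nat.sub_eq_of_eq_add (by ring)
    have h4 : q ^ 2 - q = (q - 1) * q := by rw [Nat.sub_one_mul, sq]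
    rw [h3, h4, mul_assoc] at h1
    rw [Nat.eq_of_mul_eq_mul_left (show 0 < q - 1 by omega) h1, hqb,
      show q - 1 = 2 * a by omega, pow_succ]
    ring
  have hGL : Nat.card (GL (Fin 2) K) = 2 ^ (j + 2) * (q * a * a * b) := by
    rw [Matrix.card_GL_field, Fin.prod_univ_two, show Fintype.card K = q from ZMod.card q]
    simp only [Fin.val_zero, Fin.val_one, pow_zero, pow_one]
    have h3 : q ^ 2 - 1 = (q - 1) * (q + 1) := by
      rw [hqa, Nat.add_sub_cancel]
      exact Nat.sub_eq_of_eq_add (by ring)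
    have h4 : q ^ 2 - q = (q - 1) * q := by rw [Nat.sub_one_mul, sq]
    rw [h3, h4, hqb, show q - 1 = 2 * a by omega, pow_succ, pow_succ]
    ring
  have hoddq : Odd q := Nat.odd_iff.mpr (by omega)
  obtain ⟨R, g, r, hR, hgN, hg3, hr, hne⟩ := sl2_triality (F := K) h2
  have hodd3 : ∀ {G : Type} [Group G] (x : G), x ^ 3 = 1 → Odd (orderOf x) := fun x hx =>
    Odd.of_dvd_nat (by decide) (orderOf_dvd_of_pow_eq_one hx)
  have hact : ∀ {G : Type} [Group G] (f : Matrix.SpecialLinearGroup (Fin 2) K →* G),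
      f (g * r * g⁻¹ * r⁻¹) ≠ 1 → ∃ (R' : Subgroup G) (g' r' : G), IsPGroup 2 R' ∧
        g' ∈ Subgroup.normalizer (R' : Set G) ∧ Odd (orderOf g') ∧ r' ∈ R' ∧
        g' * r' * g'⁻¹ ≠ r' := fun f hf =>
    ⟨R.map f, f g, f r, hR.map f, Subgroup.le_normalizer_map f ⟨g, hgN, rfl⟩,
      hodd3 _ (by rw [← map_pow, hg3, map_one]), ⟨r, hr, rfl⟩, fun e => hf (by
        rw [map_mul, map_mul, map_mul, map_inv, map_inv, e, mul_inv_cancel])⟩
  obtain ⟨T⟩ : Nonempty (Sylow 2 (GL (Fin 2) K)) := inferInstance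
  obtain ⟨x, y, hT⟩ := exists_QD_of_card
    ((gl2_sylow T).1 (by rw [ZMod.card]; exact hq4)) (j + 1)
    (card_sylow_two _ _ ((((hoddq.mul ha).mul ha)).mul hb) hGL T)
  rcases hsh' with ⟨⟨e⟩⟩ | ⟨⟨e⟩⟩ | ⟨x', y', h'⟩
  · -- dihedral: the projective linear group
    haveI : Fact (Nat.Prime 2) := ⟨Nat.prime_two⟩
    set Z := Subgroup.center (GL (Fin 2) K) with hZ
    let π := QuotientGroup.mk' Z
    let TP : Sylow 2 (GL (Fin 2) K ⧸ Z) :=
      T.mapSurjective (f := π) (QuotientGroup.mk'_surjective Z)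
    have hcardP : Nat.card TP = 2 ^ (j + 1) := by
      refine card_sylow_two _ _ ((hoddq.mul ha).mul hb) ?_ TP
      have h1 := Subgroup.card_eq_card_quotient_mul_card_subgroup Z
      rw [hZ, H37.card_center_GL, hK, show q - 1 = 2 * a by omega, hGL] at h1
      refine Nat.eq_of_mul_eq_mul_right (show 0 < 2 * a by have := ha.pos; omega) ?_
      rw [← h1, pow_succ _ (j + 1)]
      ring
    let f : (T : Subgroup (GL (Fin 2) K)) →* (TP : Subgroup (GL (Fin 2) K ⧸ Z)) :=
      π.subgroupMap (T : Subgroup (GL (Fin 2) K))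
    have hf : Function.Surjective f := π.subgroupMap_surjective _
    have hkerc : f.ker ≤ Subgroup.center (T : Subgroup (GL (Fin 2) K)) := by
      intro t ht
      rw [Subgroup.mem_center_iff]
      intro s
      have h1 : (t : GL (Fin 2) K) ∈ Z := (QuotientGroup.eq_one_iff _).mp (congrArg Subtype.val ht)
      exact Subtype.ext (Subgroup.mem_center_iff.mp h1 s)
    have hkcard : Nat.card f.ker = 2 := by
      have h1 := Subgroup.card_mul_index f.ker
      rw [Subgroup.index_ker, MonoidHom.range_eq_top.mpr hf, Subgroup.card_top, hcardP, hT.card_eq,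
        pow_succ 2 (j + 1), mul_comm (2 ^ (j + 1)) 2] at h1
      exact Nat.eq_of_mul_eq_mul_right (by positivity) h1
    have hker : f.ker = Subgroup.zpowers (x ^ (2 * qdQ (j + 1))) := by
      rw [← hT.center_eq]
      haveI := hT.finite
      exact Subgroup.eq_of_le_of_card_ge hkerc (by rw [hkcard, hT.card_center])
    have hxi : ∀ i : ℤ, f x ^ i = 1 ↔ 2 * qdQ (j + 1) ∣ i := by
      intro i
      rw [← map_zpow, ← MonoidHom.mem_ker, hker, Subgroup.mem_zpowers_iff]
      constructor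
      · rintro ⟨k, hk⟩
        rw [← zpow_mul, hT.zpow_x_eq_iff] at hk
        have h1 : 2 * qdQ (j + 1) ∣ 2 * qdQ (j + 1) * k - i :=
          dvd_trans ⟨2, by ring⟩ hk
        simpa using dvd_sub (dvd_mul_right (2 * qdQ (j + 1)) k) h1
      · rintro ⟨k, rfl⟩
        exact ⟨k, (zpow_mul x _ k).symm⟩
    have hord : orderOf (f x) = 2 ^ j := by
      refine Nat.dvd_antisymm (orderOf_dvd_iff_pow_eq_one.mpr ?_) ?_
      · rw [← zpow_natCast, hxi, hT.two_q]
        simp
      · have h1 := (hxi (orderOf (f x))).mp (by rw [zpow_natCast, pow_orderOf_eq_one])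
        rw [hT.two_q, show j + 1 - 1 = j by omega] at h1
        exact_mod_cast h1
    have hy2 : f y * f y = 1 := by rw [← map_mul, hT.y_mul_y, map_one]
    have hyx : f y ∉ Subgroup.zpowers (f x) := by
      intro h
      obtain ⟨i, hi⟩ := Subgroup.mem_zpowers_iff.mp h
      have h1 : y⁻¹ * x ^ i ∈ f.ker := by
        rw [MonoidHom.mem_ker, map_mul, map_inv, map_zpow, hi, inv_mul_cancel]
      rw [hker, Subgroup.mem_zpowers_iff] at h1
      obtain ⟨k, hk⟩ := h1
      rw [← zpow_mul, eq_inv_mul_iff_mul_eq] at hk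
      exact hT.zpow_mul_y_ne (i * (2 * qdQ (j + 1) - 1) * 0 + 0) (i - 2 * qdQ (j + 1) * k) (by
        simp only [mul_zero, add_zero, zpow_zero, one_mul]
        rw [zpow_sub, ← hk, mul_inv_cancel_right])
    have hinv : f y * f x * (f y)⁻¹ = (f x)⁻¹ := by
      have h1 : y * x * y⁻¹ = x ^ (2 * qdQ (j + 1) - 1) := by
        simpa using hT.y_conj 1
      rw [← map_inv f y, ← map_mul, ← map_mul, h1, map_zpow, zpow_sub_one, (hxi _).mpr dvd_rfl, one_mul]
    obtain ⟨eT⟩ := H70.nonempty_mulEquiv_dihedral (c := f x) (x := f y)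
      (by rw [hcardP, hord, pow_succ, mul_comm]) hy2 hyx hinv
    rw [hord] at eT
    refine not_all_supersoluble hS TP ⟨e.trans eT.symm⟩ (hact (π.comp Matrix.SpecialLinearGroup.toGL) ?_)
    intro h
    have h1 := (QuotientGroup.eq_one_iff (N := Z) _).mp h
    rw [hZ, Matrix.GeneralLinearGroup.center_eq_range_scalar] at h1
    obtain ⟨c, hc⟩ := h1
    apply hne c
    have h3 := congrArg (fun z : GL (Fin 2) K => (z : Matrix (Fin 2) (Fin 2) K)) hc
    simp only [Matrix.GeneralLinearGroup.coe_scalar, Matrix.SpecialLinearGroup.coe_GL_coe_matrix] at h3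
    rw [← h3]
    simp [Matrix.smul_one_eq_diagonal]
  · -- quaternion: the special linear group
    obtain ⟨TS⟩ : Nonempty (Sylow 2 (Matrix.SpecialLinearGroup (Fin 2) K)) := inferInstance
    obtain ⟨k, hk, ⟨eT⟩⟩ := H37.sylow_two_quaternion q (by omega) TS
    have h1 := Nat.card_congr eT.toEquiv
    rw [card_sylow_two _ _ ((hoddq.mul ha).mul hb) hSL TS, Nat.card_eq_fintype_card, QuaternionGroup.card,
      show 4 * 2 ^ k = 2 ^ (k + 2) by ring] at h1
    have h2 := Nat.pow_right_injective le_rfl h1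
    obtain rfl : k = j - 1 := by omega
    refine not_all_supersoluble hS TS ⟨e.trans eT.symm⟩ (hact (MonoidHom.id _) ?_)
    intro h
    apply hne 1
    rw [show g * r * g⁻¹ * r⁻¹ = 1 from h, one_smul, Matrix.SpecialLinearGroup.coe_one]
  · -- quasi-dihedral: the general linear group
    refine not_all_supersoluble hS T (qd_iso h' hT) (hact Matrix.SpecialLinearGroup.toGL ?_)
    intro h
    apply hne 1
    rw [show g * r * g⁻¹ * r⁻¹ = 1 from Matrix.SpecialLinearGroup.toGL_injective (h.trans (map_one _).symm),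
      one_smul, Matrix.SpecialLinearGroup.coe_one]

end H67
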