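import Cfsg.Agent.H67.TwoTools
import Cfsg.Prelude.Def_CaseTheorems
/-!
Strong embedding for subgroups of large rank.
-/
set_option autoImplicit false

namespace H67

theorem prank_mono {G : Type*} [Group G] [Finite G] (p k : ℕ) {X Y : Subgroup G} (hle : X ≤ Y)
    (h : Cfsg.PRankLE p k Y) : Cfsg.PRankLE p k X := by
  intro A hA hAp
  have := hA
  set f := Subgroup.inclusion hle
  rw [← Subgroup.card_map_of_injective (f := f) (Subgroup.inclusion_injective hle)]
  refine h _ ⟨⟨?_⟩⟩ ?_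
  · rintro ⟨_, a, ha, rfl⟩ ⟨_, b, hb, rfl⟩
    apply Subtype.ext
    show f a * f b = f b * f a
    rw [← map_mul, ← map_mul]
    exact congrArg f (congrArg Subtype.val (hA.is_comm.comm ⟨a, ha⟩ ⟨b, hb⟩))
  · rintro _ ⟨a, ha, rfl⟩
    rw [← map_pow, hAp a ha, map_one]

theorem prank_conj {G : Type*} [Group G] [Finite G] (p k : ℕ) (X : Subgroup G) (g : G)
    (h : Cfsg.PRankLE p k ↥(X.map (MulAut.conj g).toMonoidHom)) : Cfsg.PRankLE p k X := by
  intro A hA hAp
  set e := X.equivMapOfInjective (MulAut.conj g).toMonoidHom (MulAut.conj g).injective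
  rw [← Subgroup.card_map_of_injective (f := e.toMonoidHom) e.injective]
  refine h _ ⟨⟨?_⟩⟩ ?_
  · rintro ⟨_, a, ha, rfl⟩ ⟨_, b, hb, rfl⟩
    apply Subtype.ext
    show e a * e b = e b * e a
    rw [← map_mul, ← map_mul]
    exact congrArg e (congrArg Subtype.val (hA.is_comm.comm ⟨a, ha⟩ ⟨b, hb⟩))
  · rintro _ ⟨a, ha, rfl⟩
    rw [← map_pow, hAp a ha, map_one]

/-- Normalisers of subgroups of large rank inside `H` control all their fusion. -/
theorem mem_of_conj_le {G : Type*} [Group G] [Finite G] {p : ℕ} [Fact p.Prime] (k : ℕ)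
    (H : Subgroup G) (P : Sylow p ↥H)
    (hN : ∀ X : Subgroup G, X ≤ (P : Subgroup ↥H).map H.subtype → ¬ Cfsg.PRankLE p k ↥X →
      Subgroup.normalizer (X : Set G) ≤ H)
    (hP : ¬ Cfsg.PRankLE p k ↥((P : Subgroup ↥H).map H.subtype)) :
    ∀ X : Subgroup G, X ≤ (P : Subgroup ↥H).map H.subtype → ¬ Cfsg.PRankLE p k ↥X →
      ∀ x : G, (∀ v ∈ X, x * v * x⁻¹ ∈ H) → x ∈ H := by
  set P' := (P : Subgroup ↥H).map H.subtype with hP'
  have hP'H : P' ≤ H := Subgroup.map_subtype_le _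
  have hP'p : IsPGroup p P' := P.isPGroup'.map _
  have conjP : ∀ Y : Subgroup G, Y ≤ H → IsPGroup p Y →
      ∃ a ∈ H, ∀ v ∈ Y, a * v * a⁻¹ ∈ P' := by
    intro Y hY hYp
    obtain ⟨R, hR⟩ := (hYp.of_equiv (Subgroup.subgroupOfEquivOfLe hY).symm).exists_le_sylow
    obtain ⟨a, ha⟩ := MulAction.exists_smul_eq ↥H R P
    refine ⟨a, a.2, fun v hv => ⟨a * ⟨v, hY hv⟩ * a⁻¹, ?_, rfl⟩⟩
    have h1 : a * (⟨v, hY hv⟩ : H) * a⁻¹ ∈ ((a • R : Sylow p ↥H) : Subgroup ↥H) :=
      Subgroup.smul_mem_pointwise_smul _ (MulAut.conj a) _ (hR hv)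
    rwa [ha] at h1
  have main : ∀ d : ℕ, ∀ X : Subgroup G, Nat.card P' - Nat.card X ≤ d → X ≤ P' →
      ¬ Cfsg.PRankLE p k ↥X → ∀ x : G, (∀ v ∈ X, x * v * x⁻¹ ∈ H) → x ∈ H := by
    intro d
    induction d with
    | zero =>
      intro X hd hX hXr x hx
      have hXe : X = P' := Subgroup.eq_of_le_of_card_ge hX (by omega)
      obtain ⟨a, ha, haP⟩ := conjP (X.map (MulAut.conj x).toMonoidHom)
        (by rintro _ ⟨v, hv, rfl⟩; exact hx v hv) ((hP'p.to_le hX).map _)
      have hax : a * x ∈ Subgroup.normalizer (P' : Set G) :=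
        mem_normalizer_of_conj_mem _ _ fun v hv => by
          rw [show a * x * v * (a * x)⁻¹ = a * (x * v * x⁻¹) * a⁻¹ by group]
          exact haP _ ⟨v, hXe ▸ hv, rfl⟩
      exact (Subgroup.mul_mem_cancel_left H ha).mp (hN P' le_rfl hP hax)
    | succ d ih =>
      intro X hd hX hXr x hx
      by_cases hXe : X = P'
      · exact ih X (by rw [hXe, Nat.sub_self]; exact Nat.zero_le _) hX hXr x hx
      set Y := X.map (MulAut.conj x).toMonoidHom with hY
      have hYH : Y ≤ H := by rintro _ ⟨v, hv, rfl⟩; exact hx v hv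
      obtain ⟨a, ha, haP⟩ := conjP Y hYH ((hP'p.to_le hX).map _)
      set Y' := X.map (MulAut.conj (a * x)).toMonoidHom with hY'
      have hY'P : Y' ≤ P' := by
        rintro _ ⟨v, hv, rfl⟩
        show a * x * v * (a * x)⁻¹ ∈ P'
        rw [show a * x * v * (a * x)⁻¹ = a * (x * v * x⁻¹) * a⁻¹ by group]
        exact haP _ ⟨v, hv, rfl⟩
      have hY'r : ¬ Cfsg.PRankLE p k ↥Y' := fun c => hXr (prank_conj p k X (a * x) c)
      set M := P' ⊓ Subgroup.normalizer (X : Set G) with hM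
      have hXM : X < M := by
        have := hP'p.isNilpotent
        have hnc := Group.normalizerCondition_of_isNilpotent (G := ↥P')
          (X.subgroupOf P') (lt_top_iff_ne_top.mpr fun e => hXe (le_antisymm hX
            (Subgroup.subgroupOf_eq_top.mp e)))
        obtain ⟨v, hv, hvX⟩ := SetLike.exists_of_lt hnc
        refine lt_of_le_of_ne (le_inf hX Subgroup.le_normalizer) fun e => hvX ?_
        rw [Subgroup.mem_subgroupOf, e]
        refine ⟨v.2, mem_normalizer_of_conj_mem _ _ fun w hw => ?_⟩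
        have h1 := (Subgroup.mem_normalizer_iff.mp hv ⟨w, hX hw⟩).mp hw
        exact h1
      have hMd : Nat.card P' - Nat.card M ≤ d := by
        have h1 : Nat.card X < Nat.card M := by
          have h2 := Set.ncard_lt_ncard (SetLike.coe_ssubset_coe.mpr hXM) (Set.toFinite _)
          rwa [← Nat.card_coe_set_eq, ← Nat.card_coe_set_eq] at h2
        omega
      refine ih M hMd inf_le_left (fun c => hXr (prank_mono p k hXM.le c)) x fun v hv => ?_
      have hvH : a * x * v * (a * x)⁻¹ ∈ H := by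
        refine hN Y' hY'P hY'r (mem_normalizer_of_conj_mem _ _ ?_)
        rintro _ ⟨w, hw, rfl⟩
        refine ⟨v * w * v⁻¹, (Subgroup.mem_normalizer_iff.mp hv.2 w).mp hw, ?_⟩
        simp [mul_assoc]
      have h3 : x * v * x⁻¹ = a⁻¹ * (a * x * v * (a * x)⁻¹) * a := by group
      rw [h3]
      exact mul_mem (mul_mem (inv_mem ha) hvH) ha
  exact fun X hX hXr x hx => main _ X le_rfl hX hXr x hx

/-- The two forms of strong embedding in rank `k + 1`. -/
theorem rank_embedded_iff {G : Type*} [Group G] [Finite G] {p : ℕ} [Fact p.Prime] (k : ℕ)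
    (H : Subgroup G) (P : Sylow p ↥H) (hP : ¬ Cfsg.PRankLE p k ↥(P : Subgroup ↥H)) :
    (∀ X : Subgroup G, X ≤ (P : Subgroup ↥H).map H.subtype → ¬ Cfsg.PRankLE p k ↥X →
      Subgroup.normalizer (X : Set G) ≤ H) ↔
    (∀ g : G, g ∉ H → Cfsg.PRankLE p k ↥(H ⊓ H.map (MulAut.conj g).toMonoidHom)) := by
  have hP'r : ¬ Cfsg.PRankLE p k ↥((P : Subgroup ↥H).map H.subtype) := by
    intro c
    apply hP
    intro A hA hAp
    set e := (P : Subgroup ↥H).equivMapOfInjective _ (Subgroup.subtype_injective H)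
    rw [← Subgroup.card_map_of_injective (f := e.toMonoidHom) e.injective]
    refine c _ ⟨⟨?_⟩⟩ ?_
    · rintro ⟨_, a, ha, rfl⟩ ⟨_, b, hb, rfl⟩
      apply Subtype.ext
      show e a * e b = e b * e a
      rw [← map_mul, ← map_mul]
      exact congrArg e (congrArg Subtype.val (hA.is_comm.comm ⟨a, ha⟩ ⟨b, hb⟩))
    · rintro _ ⟨a, ha, rfl⟩
      rw [← map_pow, hAp a ha, map_one]
  constructor
  · intro hN g hg
    set I := H ⊓ H.map (MulAut.conj g).toMonoidHom with hI
    intro A hA hAp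
    by_contra hbig
    -- push `A` down to a `p`-subgroup of `G`
    set A' := A.map I.subtype with hA'
    have hA'p : IsPGroup p A' := by
      rintro ⟨_, a, ha, rfl⟩
      refine ⟨1, Subtype.ext ?_⟩
      rw [pow_one, Subgroup.coe_pow, Subgroup.coe_one, ← map_pow, hAp a ha, map_one]
    have hA'H : A' ≤ H := (Subgroup.map_subtype_le _).trans inf_le_left
    have hA'r : ¬ Cfsg.PRankLE p k ↥A' := by
      intro c
      apply hbig
      set e := A.equivMapOfInjective _ (Subgroup.subtype_injective I)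
      have h1 := c ⊤ ⟨⟨fun u v => ?_⟩⟩ ?_
      · rw [Subgroup.card_top, ← Nat.card_congr e.toEquiv] at h1
        exact h1
      · obtain ⟨a, ha⟩ := e.surjective (u : ↥A')
        obtain ⟨b, hb⟩ := e.surjective (v : ↥A')
        apply Subtype.ext
        rw [Subgroup.coe_mul, Subgroup.coe_mul, ← ha, ← hb, ← map_mul, ← map_mul,
          hA.is_comm.comm a b]
      · intro u _
        obtain ⟨a, rfl⟩ := e.surjective u
        rw [← map_pow, ← map_one e]
        congr 1
        exact Subtype.ext (by rw [Subgroup.coe_pow, Subgroup.coe_one]; exact hAp a a.2)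
    obtain ⟨R, hR⟩ := (hA'p.of_equiv (Subgroup.subgroupOfEquivOfLe hA'H).symm).exists_le_sylow
    obtain ⟨a, ha⟩ := MulAction.exists_smul_eq ↥H R P
    set X := A'.map (MulAut.conj (a : G)).toMonoidHom with hX
    have hXP : X ≤ (P : Subgroup ↥H).map H.subtype := by
      rintro _ ⟨v, hv, rfl⟩
      refine ⟨a * ⟨v, hA'H hv⟩ * a⁻¹, ?_, rfl⟩
      have h1 : a * (⟨v, hA'H hv⟩ : H) * a⁻¹ ∈ ((a • R : Sylow p ↥H) : Subgroup ↥H) :=
        Subgroup.smul_mem_pointwise_smul _ (MulAut.conj a) _ (hR hv)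
      rwa [ha] at h1
    have hXr : ¬ Cfsg.PRankLE p k ↥X := fun c => hA'r (prank_conj p k A' _ c)
    have hx := mem_of_conj_le k H P hN hP'r X hXP hXr (g⁻¹ * (a : G)⁻¹) fun v hv => by
      obtain ⟨w, hw, rfl⟩ := hv
      obtain ⟨u, -, hue⟩ : ∃ u, u ∈ (⊤ : Subgroup G) ∧ g⁻¹ * w * g = u := ⟨_, trivial, rfl⟩
      show g⁻¹ * (a : G)⁻¹ * ((a : G) * w * (a : G)⁻¹) * (g⁻¹ * (a : G)⁻¹)⁻¹ ∈ H
      rw [show g⁻¹ * (a : G)⁻¹ * ((a : G) * w * (a : G)⁻¹) * (g⁻¹ * (a : G)⁻¹)⁻¹ = g⁻¹ * w * g by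
        group]
      obtain ⟨t, ht, hte⟩ := ((Subgroup.map_subtype_le _ : A' ≤ I) hw).2
      rw [show g⁻¹ * w * g = t by rw [← hte]; simp [mul_assoc]]
      exact ht
    apply hg
    rw [← inv_mem_iff]
    exact (Subgroup.mul_mem_cancel_right H (inv_mem a.2)).mp hx
  · intro hI X hXP hXr g hg
    by_contra hgH
    refine hXr (prank_mono p k ?_ (hI g hgH))
    intro v hv
    refine ⟨(Subgroup.map_subtype_le _) (hXP hv), ?_⟩
    refine ⟨g⁻¹ * v * g, (Subgroup.map_subtype_le _) (hXP ?_), by simp [mul_assoc]⟩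
    have := (Subgroup.mem_normalizer_iff.mp (inv_mem hg) v).mp hv
    rwa [inv_inv] at this

end H67
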