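import Mathlib

/-!
Fixed points of Sylow subgroups in transitive actions of groups generated by `p`-elements:
a Sylow `p`-subgroup fixes at most `(p - 1) / (2 p - 1)` of the points.
-/

set_option autoImplicit false
set_option linter.style.haveILetI false
set_option maxHeartbeats 1000000

universe u v

namespace H67.SylowFix

open scoped Pointwise

variable {p : ℕ} [Fact p.Prime]

/-- `G` is generated by its elements of `p`-power order. -/
def GenP (p : ℕ) (G : Type u) [Group G] : Prop :=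
  Subgroup.closure {g : G | ∃ k : ℕ, orderOf g = p ^ k} = ⊤

/-- The Sylow subgroups fixing the point `z`. -/
def fixSyl (p : ℕ) (G : Type u) [Group G] {Z : Type v} [MulAction G Z] (z : Z) :
    Set (Sylow p G) := {Q | ∀ g ∈ (Q : Subgroup G), g • z = z}

/-- The points fixed by a Sylow subgroup. -/
def fixSet {G : Type u} [Group G] (P : Sylow p G) (Z : Type v) [MulAction G Z] : Set Z :=
  {z | ∀ g ∈ (P : Subgroup G), g • z = z}

/-- The bound in degree `n`. -/
def Bound (p n : ℕ) : Prop :=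
  ∀ (G : Type u) [Group G] [Finite G] (Z : Type v) [Finite Z] [MulAction G Z],
    Nat.card Z = n → GenP p G → MulAction.IsPretransitive G Z → 2 ≤ Nat.card Z →
    ∀ P : Sylow p G, (2 * p - 1) * (fixSet P Z).ncard ≤ (p - 1) * Nat.card Z

variable {G : Type u} [Group G] [Finite G] {Z : Type v} [MulAction G Z]

omit [Fact p.Prime] [Finite G] in
theorem mem_smul_sylow (g : G) (Q : Sylow p G) (x : G) :
    x ∈ ((g • Q : Sylow p G) : Subgroup G) ↔ g⁻¹ * x * g ∈ (Q : Subgroup G) := by
  rw [Sylow.coe_subgroup_smul, Subgroup.mem_pointwise_smul_iff_inv_smul_mem]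
  simp [MulAut.smul_def]

omit [Fact p.Prime] [Finite G] in
theorem smul_fixSyl_iff (g : G) (z : Z) (Q : Sylow p G) :
    g • Q ∈ fixSyl p G (g • z) ↔ Q ∈ fixSyl p G z := by
  refine ⟨fun h x hx => ?_, fun h x hx => ?_⟩
  · have := h (g * x * g⁻¹) (by rw [mem_smul_sylow]; simpa [mul_assoc] using hx)
    rwa [mul_smul, inv_smul_smul, mul_smul, smul_left_cancel_iff] at this
  · have := h _ ((mem_smul_sylow g Q x).mp hx)
    rw [mul_smul, mul_smul, inv_smul_eq_iff] at this
    exact this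

omit [Fact p.Prime] [Finite G] in
theorem fixSyl_smul (g : G) (z : Z) : fixSyl p G (g • z) = (g • ·) '' fixSyl p G z := by
  ext Q
  refine ⟨fun h => ⟨g⁻¹ • Q, ?_, smul_inv_smul g Q⟩, ?_⟩
  · exact (smul_fixSyl_iff g z _).mp (by rwa [smul_inv_smul])
  · rintro ⟨Q', h, rfl⟩
    exact (smul_fixSyl_iff g z Q').mpr h

omit [Fact p.Prime] [Finite G] in
theorem ncard_fixSyl_smul (g : G) (z : Z) :
    (fixSyl p G (g • z)).ncard = (fixSyl p G z).ncard := by
  rw [fixSyl_smul]
  exact Set.ncard_image_of_injective _ (MulAction.injective g)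

theorem fixSet_ncard_eq (P Q : Sylow p G) : (fixSet Q Z).ncard = (fixSet P Z).ncard := by
  obtain ⟨g, rfl⟩ := MulAction.exists_smul_eq G P Q
  have : fixSet (g • P) Z = (g • ·) '' fixSet P Z := by
    ext z
    refine ⟨fun h => ⟨g⁻¹ • z, ?_, smul_inv_smul g z⟩, ?_⟩
    · exact (smul_fixSyl_iff g (g⁻¹ • z) P).mp (by rwa [smul_inv_smul])
    · rintro ⟨z', h, rfl⟩
      exact (smul_fixSyl_iff g z' P).mpr h
  rw [this]
  exact Set.ncard_image_of_injective _ (MulAction.injective g)

omit [Fact p.Prime] [Finite G] in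
theorem GenP.fixed_of_forall (hG : GenP p G) (z : Z)
    (h : ∀ Q : Sylow p G, Q ∈ fixSyl p G z) (g : G) : g • z = z := by
  have hle : Subgroup.closure {g : G | ∃ k : ℕ, orderOf g = p ^ k} ≤ MulAction.stabilizer G z := by
    rw [Subgroup.closure_le]
    rintro x ⟨k, hk⟩
    obtain ⟨Q, hQ⟩ := (IsPGroup.of_card (G := Subgroup.zpowers x) (p := p) (n := k)
      (by rw [Nat.card_zpowers, hk])).exists_le_sylow
    exact h Q x (hQ (Subgroup.mem_zpowers x))
  exact hle (by rw [hG]; trivial)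

omit [Finite G] in
theorem modEq_fixSet [Finite Z] (P : Sylow p G) :
    Nat.card Z ≡ (fixSet P Z).ncard [MOD p] := by
  have h := P.isPGroup'.card_modEq_card_fixedPoints Z
  have e : MulAction.fixedPoints (P : Subgroup G) Z = fixSet P Z := by
    ext z
    exact ⟨fun h g hg => h ⟨g, hg⟩, fun h g => h g g.2⟩
  rwa [e, Nat.card_coe_set_eq] at h

omit [Finite G] in
/-- The action on an invariant set. -/
@[reducible] def actOn (U : Set Z) (hU : ∀ (g : G), ∀ z ∈ U, g • z ∈ U) : MulAction G U where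
  smul g z := ⟨g • (z : Z), hU g z z.2⟩
  one_smul z := Subtype.ext (one_smul G (z : Z))
  mul_smul g h z := Subtype.ext (mul_smul g h (z : Z))

omit [Fact p.Prime] [Finite G] in
theorem fixSet_actOn (U : Set Z) (hU : ∀ (g : G), ∀ z ∈ U, g • z ∈ U) (P : Sylow p G) :
    (letI := actOn U hU; (fixSet P U).ncard) = (U ∩ fixSet P Z).ncard := by
  letI := actOn U hU
  rw [← Set.ncard_image_of_injective (fixSet P U) Subtype.val_injective]
  congr 1
  ext z
  refine ⟨?_, fun ⟨hz, h⟩ => ⟨⟨z, hz⟩, fun g hg => Subtype.ext (h g hg), rfl⟩⟩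
  rintro ⟨w, hw, rfl⟩
  exact ⟨w.2, fun g hg => congrArg Subtype.val (hw g hg)⟩

theorem invariant_le [Finite Z] (hB : ∀ k ≤ Nat.card Z, Bound.{u, v} p k) (hG : GenP p G)
    (P : Sylow p G) : ∀ (U : Set Z), (∀ (g : G), ∀ z ∈ U, g • z ∈ U) →
      (∀ z ∈ U, ∃ g : G, g • z ≠ z) →
      (2 * p - 1) * (U ∩ fixSet P Z).ncard ≤ (p - 1) * U.ncard := by
  intro U
  induction h : U.ncard using Nat.strong_induction_on generalizing U with
  | h k ih =>
  subst h
  intro hU hmv
  rcases U.eq_empty_or_nonempty with rfl | ⟨z, hz⟩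
  · simp
  set O : Set Z := MulAction.orbit G z with hOdef
  have hO : ∀ (g : G), ∀ w ∈ O, g • w ∈ O := fun g w hw => by
    rw [hOdef] at hw ⊢
    exact (MulAction.mem_orbit_iff).mpr (by
      obtain ⟨a, rfl⟩ := hw; exact ⟨g * a, mul_smul g a z⟩)
  have hOU : O ⊆ U := by
    rintro w ⟨a, rfl⟩
    exact hU a z hz
  have hOb : (2 * p - 1) * (O ∩ fixSet P Z).ncard ≤ (p - 1) * O.ncard := by
    letI := actOn O hO
    have hz' : z ∈ O := MulAction.mem_orbit_self z
    have h2 : 2 ≤ Nat.card O := by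
      obtain ⟨g, hg⟩ := hmv z hz
      rw [Nat.card_coe_set_eq, ← Set.ncard_pair hg]
      exact Set.ncard_le_ncard (Set.pair_subset (hO g z hz') hz') (Set.toFinite _)
    have htr : MulAction.IsPretransitive G O := ⟨fun x y => by
      obtain ⟨a, ha⟩ := x.2
      obtain ⟨b, hb⟩ := y.2
      refine ⟨b * a⁻¹, Subtype.ext ?_⟩
      show (b * a⁻¹) • (x : Z) = y
      rw [← ha, ← hb]
      simp [mul_smul]⟩
    have := hB _ (by
      rw [Nat.card_coe_set_eq, ← Set.ncard_univ]
      exact Set.ncard_le_ncard (Set.subset_univ _) Set.finite_univ) G O rfl hG htr h2 P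
    rwa [fixSet_actOn, Nat.card_coe_set_eq] at this
  have hrest : (2 * p - 1) * ((U \ O) ∩ fixSet P Z).ncard ≤ (p - 1) * (U \ O).ncard := by
    refine ih _ ?_ (U \ O) rfl ?_ (fun w hw => hmv w hw.1)
    · exact Set.ncard_lt_ncard ⟨Set.diff_subset, fun h => (h hz).2 (MulAction.mem_orbit_self z)⟩
        (Set.toFinite _)
    · rintro g w ⟨hw, hwO⟩
      refine ⟨hU g w hw, fun h => hwO ?_⟩
      simpa using hO g⁻¹ _ h
  have e1 : U.ncard = O.ncard + (U \ O).ncard := by
    rw [← Set.ncard_union_eq Set.disjoint_sdiff_right (Set.toFinite _) (Set.toFinite _),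
      Set.union_sdiff_cancel hOU]
  have e2 : (U ∩ fixSet P Z).ncard =
      (O ∩ fixSet P Z).ncard + ((U \ O) ∩ fixSet P Z).ncard := by
    rw [← Set.ncard_union_eq (Set.disjoint_sdiff_right.mono Set.inter_subset_left
      Set.inter_subset_left) (Set.toFinite _) (Set.toFinite _), ← Set.union_inter_distrib_right,
      Set.union_sdiff_cancel hOU]
  rw [e1, e2, mul_add, mul_add]
  exact Nat.add_le_add hOb hrest

theorem univ_le [Finite Z] (hB : ∀ k ≤ Nat.card Z, Bound.{u, v} p k) (hG : GenP p G)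
    (P : Sylow p G) (hmv : ∀ z : Z, ∃ g : G, g • z ≠ z) :
    (2 * p - 1) * (fixSet P Z).ncard ≤ (p - 1) * Nat.card Z := by
  have := invariant_le hB hG P Set.univ (fun _ _ _ => Set.mem_univ _) (fun z _ => hmv z)
  rwa [Set.univ_inter, Set.ncard_univ] at this

theorem weight_le [Fintype Z] (hB : ∀ k ≤ Nat.card Z, Bound.{u, v} p k) (hG : GenP p G)
    (P : Sylow p G) [DecidablePred (· ∈ fixSet P Z)] (hmv : ∀ z : Z, ∃ g : G, g • z ≠ z) :
    ∀ w : Z → ℕ, (∀ (g : G) z, w (g • z) = w z) →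
      (2 * p - 1) * ∑ z ∈ Finset.univ.filter (· ∈ fixSet P Z), w z ≤ (p - 1) * ∑ z, w z := by
  classical
  intro w
  induction h : (∑ z, w z) using Nat.strong_induction_on generalizing w with
  | h k ih =>
  subst h
  intro hw
  by_cases h0 : ∀ z, w z = 0
  · simp [h0]
  push_neg at h0
  obtain ⟨z₀, hz₀⟩ := h0
  set U : Set Z := {z | w z ≠ 0} with hU
  have hUb := invariant_le hB hG P U (fun g z hz => by simpa [hU, hw] using hz) (fun z _ => hmv z)
  set w' : Z → ℕ := fun z => w z - 1 with hw'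
  have hsum : ∀ s : Finset Z, ∑ z ∈ s, w z = (∑ z ∈ s, w' z) + (s.filter (w · ≠ 0)).card := by
    intro s
    rw [Finset.card_filter, ← Finset.sum_add_distrib]
    refine Finset.sum_congr rfl fun z _ => ?_
    simp only [hw']
    split_ifs <;> omega
  have hlt : ∑ z, w' z < ∑ z, w z := by
    refine Finset.sum_lt_sum (fun z _ => Nat.sub_le _ _) ⟨z₀, Finset.mem_univ _, ?_⟩
    simp only [hw']; omega
  have hrec := ih _ hlt w' rfl (fun g z => by simp [hw', hw])
  have eU : U.ncard = (Finset.univ.filter (w · ≠ 0)).card := by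
    rw [← Set.ncard_coe_finset]; congr 1; ext z; simp [hU]
  have eF : (U ∩ fixSet P Z).ncard =
      ((Finset.univ.filter (· ∈ fixSet P Z)).filter (w · ≠ 0)).card := by
    rw [← Set.ncard_coe_finset]; congr 1; ext z; simp [hU, and_comm]
  rw [eU, eF] at hUb
  rw [hsum, hsum Finset.univ, mul_add, mul_add]
  exact Nat.add_le_add hrec hUb

/-! ### Classes of points with the same fixing Sylow subgroups -/

/-- Points are identified if the same Sylow subgroups fix them. -/
@[reducible] def clsSetoid (p : ℕ) (G : Type u) [Group G] (Z : Type v) [MulAction G Z] :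
    Setoid Z := Setoid.ker (fun z => fixSyl p G z)

/-- The classes of points. -/
def Cls (p : ℕ) (G : Type u) [Group G] (Z : Type v) [MulAction G Z] : Type v :=
  Quotient (clsSetoid p G Z)

/-- The class of a point. -/
def cls (p : ℕ) (G : Type u) [Group G] {Z : Type v} [MulAction G Z] (z : Z) : Cls p G Z :=
  Quotient.mk (clsSetoid p G Z) z

omit [Fact p.Prime] [Finite G] in
theorem cls_eq_iff {z w : Z} : cls p G z = cls p G w ↔ fixSyl p G z = fixSyl p G w :=
  Quotient.eq (r := clsSetoid p G Z)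

omit [Fact p.Prime] [Finite G] in
theorem cls_surjective : Function.Surjective (cls p G (Z := Z)) := fun c =>
  Quotient.exists_rep c

instance clsAction : MulAction G (Cls p G Z) where
  smul g := Quotient.map (g • ·) (fun a b (h : fixSyl p G a = fixSyl p G b) => by
    show fixSyl p G (g • a) = fixSyl p G (g • b)
    rw [fixSyl_smul, fixSyl_smul, h])
  one_smul c := by
    obtain ⟨z, rfl⟩ := cls_surjective c
    exact congrArg (cls p G) (one_smul G z)
  mul_smul g h c := by
    obtain ⟨z, rfl⟩ := cls_surjective c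
    exact congrArg (cls p G) (mul_smul g h z)

omit [Fact p.Prime] [Finite G] in
theorem smul_cls (g : G) (z : Z) : g • cls p G z = cls p G (g • z) := rfl

instance [Finite Z] : Finite (Cls p G Z) := Finite.of_surjective _ cls_surjective

theorem fixSyl_cls (z : Z) (hne : (fixSyl p G z).Nonempty) :
    fixSyl p G (cls p G z) = fixSyl p G z := by
  ext Q
  refine ⟨fun h => ?_, fun h g hg => by rw [smul_cls, h g hg]⟩
  obtain ⟨R, hR⟩ := hne
  set M : Subgroup G := MulAction.stabilizer G (cls p G z)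
  have hRM : (R : Subgroup G) ≤ M := fun g hg => by
    show g • cls p G z = cls p G z
    rw [smul_cls, hR g hg]
  have hQM : (Q : Subgroup G) ≤ M := h
  obtain ⟨m, hm⟩ := MulAction.exists_smul_eq M (R.subtype hRM) (Q.subtype hQM)
  have hmz : (m : G)⁻¹ • cls p G z = cls p G z := inv_smul_eq_iff.mpr m.2.symm
  rw [smul_cls, cls_eq_iff] at hmz
  intro g hg
  have hg' : (⟨g, hQM hg⟩ : M) ∈ ((Q.subtype hQM : Sylow p M) : Subgroup M) := hg
  rw [← hm, mem_smul_sylow] at hg'
  have hc : (m : G)⁻¹ * g * m ∈ (R : Subgroup G) := hg'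
  rw [← hmz] at hR
  have := hR _ hc
  rw [← mul_smul, mul_inv_cancel_right, mul_smul, inv_smul_eq_iff, smul_inv_smul] at this
  exact this

theorem cls_moved (hG : GenP p G) (hne : ∀ z : Z, (fixSyl p G z).Nonempty)
    (hmv : ∀ z : Z, ∃ g : G, g • z ≠ z) (c : Cls p G Z) : ∃ g : G, g • c ≠ c := by
  obtain ⟨z, rfl⟩ := cls_surjective c
  by_contra! h
  obtain ⟨g, hg⟩ := hmv z
  exact hg (hG.fixed_of_forall z (fun Q => by
    rw [← fixSyl_cls z (hne z)]; exact fun g _ => h g) g)

theorem cls_counts [Fintype Z] [Fintype (Cls p G Z)] (P : Sylow p G)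
    [DecidablePred (· ∈ fixSet P (Cls p G Z))] [DecidableEq (Cls p G Z)]
    (hne : ∀ z : Z, (fixSyl p G z).Nonempty) :
    (fixSet P Z).ncard = ∑ c ∈ Finset.univ.filter (· ∈ fixSet P (Cls p G Z)),
      (Finset.univ.filter (fun z : Z => cls p G z = c)).card ∧
    Nat.card Z = ∑ c, (Finset.univ.filter (fun z : Z => cls p G z = c)).card := by
  classical
  refine ⟨?_, ?_⟩
  · rw [Set.ncard_eq_toFinset_card', Finset.card_eq_sum_card_fiberwise
      (f := cls p G) (t := Finset.univ.filter (· ∈ fixSet P (Cls p G Z)))]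
    · refine Finset.sum_congr rfl fun c hc => ?_
      congr 1
      ext z
      simp only [Finset.mem_filter, Set.mem_toFinset, Finset.mem_univ, true_and,
        and_iff_right_iff_imp]
      rintro rfl
      have : P ∈ fixSyl p G (cls p G z) := (Finset.mem_filter.mp hc).2
      rwa [fixSyl_cls z (hne z)] at this
    · intro z hz
      refine Finset.mem_coe.mpr (Finset.mem_filter.mpr ⟨Finset.mem_univ _, ?_⟩)
      have : P ∈ fixSyl p G z :=
        (Set.mem_toFinset.mp (Finset.mem_coe.mp hz) : z ∈ fixSet P Z)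
      show P ∈ fixSyl p G (cls p G z)
      rwa [fixSyl_cls z (hne z)]
  · rw [Nat.card_eq_fintype_card, ← Finset.card_univ,
      Finset.card_eq_sum_card_fiberwise (f := cls p G) (t := Finset.univ)]
    intro z _; simp

omit [Fact p.Prime] [Finite G] in
theorem fiber_smul [Fintype Z] [DecidableEq (Cls p G Z)] (g : G) (c : Cls p G Z) :
    (Finset.univ.filter (fun z : Z => cls p G z = g • c)).card =
      (Finset.univ.filter (fun z : Z => cls p G z = c)).card := by
  refine Finset.card_bij' (fun z _ => g⁻¹ • z) (fun z _ => g • z) ?_ ?_ (fun z _ => by simp)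
    (fun z _ => by simp)
  · intro z hz
    simp only [Finset.mem_filter, Finset.mem_univ, true_and] at hz ⊢
    rw [← smul_cls, hz, inv_smul_smul]
  · intro z hz
    simp only [Finset.mem_filter, Finset.mem_univ, true_and] at hz ⊢
    rw [← smul_cls, hz]

theorem cls_le [Finite Z] (hB : ∀ k ≤ Nat.card (Cls p G Z), Bound.{u, v} p k) (hG : GenP p G)
    (P : Sylow p G) (hne : ∀ z : Z, (fixSyl p G z).Nonempty)
    (hmv : ∀ z : Z, ∃ g : G, g • z ≠ z) :
    (2 * p - 1) * (fixSet P Z).ncard ≤ (p - 1) * Nat.card Z ∧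
      (2 * p - 1) * (fixSet P Z).ncard + (p - 1) * Nat.card (Cls p G Z) ≤
        (p - 1) * Nat.card Z + (2 * p - 1) * (fixSet P (Cls p G Z)).ncard := by
  classical
  haveI := Fintype.ofFinite Z
  haveI := Fintype.ofFinite (Cls p G Z)
  obtain ⟨e1, e2⟩ := cls_counts P hne
  set b : Cls p G Z → ℕ := fun c => (Finset.univ.filter (fun z : Z => cls p G z = c)).card
    with hb
  have hmv' := cls_moved hG hne hmv
  refine ⟨?_, ?_⟩
  · rw [e1, e2]
    exact weight_le hB hG P hmv' b (fun g c => fiber_smul g c)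
  have hb1 : ∀ c, b c = (b c - 1) + 1 := fun c => by
    obtain ⟨z, rfl⟩ := cls_surjective c
    have : 0 < b (cls p G z) := Finset.card_pos.mpr ⟨z, by simp⟩
    omega
  have hw := weight_le hB hG P hmv' (fun c => b c - 1)
    (fun g c => congrArg (· - 1) (fiber_smul g c))
  have e3 : (fixSet P Z).ncard = (∑ c ∈ Finset.univ.filter (· ∈ fixSet P (Cls p G Z)), (b c - 1))
      + (fixSet P (Cls p G Z)).ncard := by
    have hs : (fixSet P (Cls p G Z)).ncard =
        (Finset.univ.filter (· ∈ fixSet P (Cls p G Z))).card := by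
      rw [← Set.ncard_coe_finset]; congr 1; ext c; simp
    rw [e1, hs, Finset.card_eq_sum_ones, ← Finset.sum_add_distrib]
    exact Finset.sum_congr rfl fun c _ => hb1 c
  have e4 : Nat.card Z = (∑ c, (b c - 1)) + Nat.card (Cls p G Z) := by
    rw [e2, Nat.card_eq_fintype_card, ← Finset.card_univ, Finset.card_eq_sum_ones,
      ← Finset.sum_add_distrib]
    exact Finset.sum_congr rfl fun c _ => hb1 c
  rw [e3, e4, mul_add, mul_add]
  omega

/-! ### The subgroup generated by the Sylow subgroups fixing a point -/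

/-- The subgroup generated by the Sylow subgroups fixing `b`. -/
def lineGroup (p : ℕ) (G : Type u) [Group G] {Z : Type v} [MulAction G Z] (b : Z) : Subgroup G :=
  ⨆ Q ∈ fixSyl p G b, (Q : Subgroup G)

omit [Fact p.Prime] [Finite G] in
theorem le_lineGroup {b : Z} {Q : Sylow p G} (h : Q ∈ fixSyl p G b) :
    (Q : Subgroup G) ≤ lineGroup p G b :=
  le_iSup₂ (f := fun (Q : Sylow p G) (_ : Q ∈ fixSyl p G b) => (Q : Subgroup G)) Q h

omit [Fact p.Prime] [Finite G] in
theorem lineGroup_fix {b : Z} {g : G} (hg : g ∈ lineGroup p G b) : g • b = b :=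
  (show lineGroup p G b ≤ MulAction.stabilizer G b from
    iSup₂_le fun _ hQ => fun x hx => hQ x hx) hg

theorem lineGroup_genP (b : Z) : GenP p (lineGroup p G b) := by
  set L := lineGroup p G b
  rw [GenP, eq_top_iff]
  intro x _
  have key : L ≤ (Subgroup.closure {g : L | ∃ k : ℕ, orderOf g = p ^ k}).map L.subtype := by
    refine iSup₂_le fun Q hQ g hg => ⟨⟨g, le_lineGroup hQ hg⟩, Subgroup.subset_closure ?_, rfl⟩
    obtain ⟨k, hk⟩ := IsPGroup.iff_orderOf.mp Q.isPGroup' ⟨g, hg⟩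
    exact ⟨k, by rw [Subgroup.orderOf_mk, ← hk, Subgroup.orderOf_mk]⟩
  obtain ⟨y, hy, hyx⟩ := key x.2
  rwa [← Subtype.ext (hyx : (y : G) = x)]

theorem lift_sylow {b : Z} (hb : (fixSyl p G b).Nonempty) (R : Sylow p (lineGroup p G b)) :
    ∃ R' : Sylow p G, R' ∈ fixSyl p G b ∧
      ∀ g ∈ (R' : Subgroup G), ∃ l : lineGroup p G b,
        l ∈ (R : Subgroup (lineGroup p G b)) ∧ (l : G) = g := by
  obtain ⟨Q, hQ⟩ := hb
  obtain ⟨l, hl⟩ := MulAction.exists_smul_eq (lineGroup p G b) (Q.subtype (le_lineGroup hQ)) R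
  refine ⟨(l : G) • Q, ?_, fun g hg => ?_⟩
  · have := (smul_fixSyl_iff (l : G) b Q).mpr hQ
    rwa [lineGroup_fix l.2] at this
  · rw [mem_smul_sylow] at hg
    have hgL : g ∈ lineGroup p G b := by
      have := mul_mem (mul_mem l.2 (le_lineGroup hQ hg)) (inv_mem l.2)
      simpa [mul_assoc] using this
    refine ⟨⟨g, hgL⟩, ?_, rfl⟩
    rw [← hl, mem_smul_sylow]
    exact hg

theorem away_moved {b : Z} (hinj : Function.Injective (fun z : Z => fixSyl p G z))
    (hmax : ∀ z : Z, (fixSyl p G z).ncard ≤ (fixSyl p G b).ncard) (z : Z) (hz : z ≠ b) :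
    ∃ g : lineGroup p G b, (g : G) • z ≠ z := by
  by_contra! h
  have hsub : fixSyl p G b ⊆ fixSyl p G z := fun Q hQ g hg => h ⟨g, le_lineGroup hQ hg⟩
  exact hz (hinj (Set.eq_of_subset_of_ncard_le hsub (hmax z) (Set.toFinite _)).symm)

theorem fixSet_away {b : Z} [Finite Z] {P : Sylow p G} (hP : P ∈ fixSyl p G b)
    (hU : ∀ (g : lineGroup p G b), ∀ z ∈ ({b}ᶜ : Set Z), g • z ∈ ({b}ᶜ : Set Z)) :
    (letI := actOn ({b}ᶜ : Set Z) hU;
      (fixSet (P.subtype (le_lineGroup hP)) ({b}ᶜ : Set Z)).ncard + 1) =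
      (fixSet P Z).ncard := by
  rw [fixSet_actOn]
  have e : ({b}ᶜ : Set Z) ∩ fixSet (P.subtype (le_lineGroup hP)) Z = fixSet P Z \ {b} := by
    ext z
    refine ⟨fun ⟨h1, h2⟩ => ⟨fun g hg => h2 ⟨g, le_lineGroup hP hg⟩ hg, h1⟩,
      fun ⟨h1, h2⟩ => ⟨h2, fun g hg => h1 g hg⟩⟩
  rw [e]
  exact Set.ncard_sdiff_singleton_add_one (show b ∈ fixSet P Z from hP) (Set.toFinite _)

theorem lineGroup_stable (b : Z) (g : lineGroup p G b) (z : Z) (hz : z ∈ ({b}ᶜ : Set Z)) :
    g • z ∈ ({b}ᶜ : Set Z) := by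
  intro h
  exact hz (MulAction.injective (g : G)
    ((show (g : G) • z = b from h).trans (lineGroup_fix g.2).symm))

omit [Finite G] in
theorem card_compl_singleton [Finite Z] (b : Z) :
    Nat.card ({b}ᶜ : Set Z) + 1 = Nat.card Z := by
  rw [Nat.card_coe_set_eq, ← Set.ncard_univ, Set.compl_eq_univ_sdiff,
    Set.ncard_sdiff_singleton_add_one (Set.mem_univ _) (Set.toFinite _)]

/-! ### Points with a common fixing Sylow subgroup -/

theorem exists_common (n : ℕ) (hB : ∀ k ≤ n, Bound.{u, v} p k) :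
    ∀ (G : Type u) [Group G] [Finite G] (Z : Type v) [Finite Z] [MulAction G Z],
      Nat.card Z ≤ n → GenP p G → (∀ z : Z, ∃ g : G, g • z ≠ z) →
      ∀ (P : Sylow p G) (Y : Set Z),
        p * Y.ncard + (p - 1) * Nat.card Z ≤ p * (p - 1) + (2 * p - 1) * (fixSet P Z).ncard →
        ∃ R : Sylow p G, ∀ y ∈ Y, R ∈ fixSyl p G y := by
  intro G _ _ Z _ _ hn hG hmv P Y
  induction hc : Nat.card Z using Nat.strong_induction_on generalizing G Z with
  | h k ih =>
  subst hc
  intro hY
  have hB' : ∀ j ≤ Nat.card Z, Bound.{u, v} p j := fun j hj => hB j (hj.trans hn)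
  rcases Y.eq_empty_or_nonempty with rfl | hYne
  · exact ⟨P, fun y hy => absurd hy (Set.notMem_empty y)⟩
  have hYpos : 0 < Y.ncard := (Set.ncard_pos (Set.toFinite _)).mpr hYne
  set U : Set Z := {z | ∃ g : G, g • z ∈ Y} with hUdef
  have hU : ∀ (g : G), ∀ z ∈ U, g • z ∈ U := by
    rintro g z ⟨a, ha⟩
    exact ⟨a * g⁻¹, by rwa [mul_smul, inv_smul_smul]⟩
  by_cases hUu : U = Set.univ
  swap
  · letI := actOn U hU
    have hlt : Nat.card U < Nat.card Z := by
      rw [Nat.card_coe_set_eq, ← Set.ncard_univ]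
      exact Set.ncard_lt_ncard (Set.ssubset_univ_iff.mpr hUu) (Set.toFinite _)
    have hcompl := invariant_le hB' hG P Uᶜ (fun g z hz h => hz (by
      simpa using hU g⁻¹ _ h)) (fun z _ => hmv z)
    have hYU : Y ⊆ U := fun y hy => ⟨1, by rwa [one_smul]⟩
    set Y' : Set U := Subtype.val ⁻¹' Y with hY'
    have eY : Y'.ncard = Y.ncard := by
      rw [← Set.ncard_image_of_injective Y' Subtype.val_injective, hY',
        Subtype.image_preimage_coe, Set.inter_eq_right.mpr hYU]
    have e1 : Nat.card Z = Nat.card U + Uᶜ.ncard := by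
      rw [Nat.card_coe_set_eq, Set.ncard_add_ncard_compl]
    have e2 : (fixSet P Z).ncard = (fixSet P U).ncard + (Uᶜ ∩ fixSet P Z).ncard := by
      rw [fixSet_actOn, Set.inter_comm U, Set.inter_comm Uᶜ, ← Set.sdiff_eq,
        Set.ncard_inter_add_ncard_sdiff_eq_ncard _ _ (Set.toFinite _)]
    rw [e1, e2, mul_add, mul_add] at hY
    obtain ⟨R, hR⟩ := ih _ hlt G U (le_trans hlt.le hn) hG
      (fun z => by
        obtain ⟨g, hg⟩ := hmv z
        exact ⟨g, fun h => hg (congrArg Subtype.val h)⟩)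
      P Y' rfl (by rw [eY]; omega)
    exact ⟨R, fun y hy g hg => congrArg Subtype.val (hR ⟨y, hYU hy⟩ hy g hg)⟩
  have hne : ∀ z : Z, (fixSyl p G z).Nonempty := by
    by_contra! h
    obtain ⟨z, hz⟩ := h
    set O : Set Z := MulAction.orbit G z with hOdef
    have hO : ∀ (g : G), ∀ w ∈ O, g • w ∈ O := fun g w ⟨a, ha⟩ =>
      ⟨g * a, by simp [mul_smul, ← ha]⟩
    have h0 : O ∩ fixSet P Z = ∅ := by
      refine Set.eq_empty_iff_forall_notMem.mpr ?_
      rintro w ⟨⟨a, rfl⟩, hw⟩
      have : a⁻¹ • P ∈ fixSyl p G z := (smul_fixSyl_iff a z _).mp (by rwa [smul_inv_smul])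
      rw [hz] at this
      exact this
    have hp : p ≤ O.ncard := by
      letI := actOn O hO
      have := modEq_fixSet (Z := O) P
      rw [fixSet_actOn, h0, Set.ncard_empty, Nat.card_coe_set_eq] at this
      exact Nat.le_of_dvd ((Set.ncard_pos (Set.toFinite _)).mpr ⟨z, MulAction.mem_orbit_self z⟩)
        (Nat.modEq_zero_iff_dvd.mp this)
    have hrest := invariant_le hB' hG P Oᶜ (fun g w hw h => hw (by
      simpa using hO g⁻¹ _ h)) (fun w _ => hmv w)
    have e1 : Nat.card Z = O.ncard + Oᶜ.ncard := (Set.ncard_add_ncard_compl O).symm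
    have e2 : Oᶜ ∩ fixSet P Z = fixSet P Z := by
      refine Set.inter_eq_right.mpr fun w hw hwO => ?_
      exact (Set.eq_empty_iff_forall_notMem.mp h0 w) ⟨hwO, hw⟩
    rw [e2] at hrest
    rw [e1, mul_add] at hY
    have h3 : (p - 1) * p ≤ (p - 1) * O.ncard := Nat.mul_le_mul_left _ hp
    have h4 : p * 1 ≤ p * Y.ncard := Nat.mul_le_mul_left _ hYpos
    have h5 := (Fact.out : p.Prime).pos
    rw [mul_comm (p - 1) p] at h3
    omega
  by_cases hinj : Function.Injective (fun z : Z => fixSyl p G z)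
  swap
  · have hlt : Nat.card (Cls p G Z) < Nat.card Z := by
      haveI := Fintype.ofFinite Z
      haveI := Fintype.ofFinite (Cls p G Z)
      rw [Nat.card_eq_fintype_card, Nat.card_eq_fintype_card]
      exact Fintype.card_lt_of_surjective_not_injective _ cls_surjective
        fun h => hinj fun a b hab => h (cls_eq_iff.mpr hab)
    obtain ⟨-, h2⟩ := cls_le (fun j hj => hB' j (hj.trans hlt.le)) hG P hne hmv
    obtain ⟨R, hR⟩ := ih _ hlt G (Cls p G Z) (le_trans hlt.le hn) hG (cls_moved hG hne hmv)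
      P (cls p G '' Y) rfl (by
        have : p * (cls p G '' Y).ncard ≤ p * Y.ncard :=
          Nat.mul_le_mul_left _ (Set.ncard_image_le (Set.toFinite _))
        omega)
    refine ⟨R, fun y hy => ?_⟩
    have := hR _ ⟨y, hy, rfl⟩
    rwa [fixSyl_cls y (hne y)] at this
  obtain ⟨b, hbY, hb⟩ := Set.exists_max_image Y (fun z => (fixSyl p G z).ncard) (Set.toFinite _)
    hYne
  have hmax : ∀ z, (fixSyl p G z).ncard ≤ (fixSyl p G b).ncard := fun z => by
    have hz : z ∈ U := hUu ▸ Set.mem_univ z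
    obtain ⟨g, hg⟩ := hz
    rw [← ncard_fixSyl_smul g z]
    exact hb _ hg
  obtain ⟨Q, hQ⟩ := hne b
  rw [← fixSet_ncard_eq P Q] at hY
  have hU' := lineGroup_stable (p := p) (G := G) b
  letI := actOn (G := lineGroup p G b) ({b}ᶜ : Set Z) hU'
  set Y' : Set ({b}ᶜ : Set Z) := Subtype.val ⁻¹' Y with hY'
  have eY : Y'.ncard + 1 = Y.ncard := by
    rw [← Set.ncard_image_of_injective Y' Subtype.val_injective, hY',
      Subtype.image_preimage_coe, Set.inter_comm, ← Set.sdiff_eq,
      Set.ncard_sdiff_singleton_add_one hbY (Set.toFinite _)]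
  have eZ := card_compl_singleton b
  have eF := fixSet_away hQ hU'
  rw [← eY, ← eZ, ← eF, mul_add, mul_add, mul_add, mul_one, mul_one, mul_one] at hY
  obtain ⟨R, hR⟩ := ih _ (by omega) (lineGroup p G b) ({b}ᶜ : Set Z) (by omega)
    (lineGroup_genP b) (fun z => by
      obtain ⟨g, hg⟩ := away_moved hinj hmax z z.2
      exact ⟨g, fun h => hg (congrArg Subtype.val h)⟩)
    (Q.subtype (le_lineGroup hQ)) Y' rfl (by
      have := (Fact.out : p.Prime).pos
      omega)
  obtain ⟨R', hR'b, hR'⟩ := lift_sylow ⟨Q, hQ⟩ R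
  refine ⟨R', fun y hy => ?_⟩
  rcases eq_or_ne y b with rfl | hne'
  · exact hR'b
  intro g hg
  obtain ⟨l, hl, rfl⟩ := hR' g hg
  exact congrArg Subtype.val (hR ⟨y, hne'⟩ hy l hl)

/-! ### The bound -/

omit [Fact p.Prime] [Finite G] in
theorem exists_step {x : G} {z : Z} (hx : x • z ≠ z) {k : ℕ} (hk : x ^ p ^ k = 1) :
    ∃ j : ℕ, (x ^ j) • z ≠ z ∧ ((x ^ j) ^ p) • z = z := by
  induction k generalizing x with
  | zero => exact absurd (by rw [pow_zero, pow_one] at hk; simp [hk]) hx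
  | succ k ih =>
    by_cases h : (x ^ p) • z = z
    · exact ⟨1, by rwa [pow_one], by rwa [pow_one]⟩
    · obtain ⟨j, h1, h2⟩ := ih h (by rw [← pow_mul, ← pow_succ']; exact hk)
      exact ⟨p * j, by rwa [pow_mul], by rwa [pow_mul]⟩

theorem bound_all (n : ℕ) : Bound.{u, v} p n := by
  induction n using Nat.strong_induction_on with
  | h n IH =>
  intro G _ _ Z _ _ hn hG htr h2 P
  haveI := htr
  have hp := (Fact.out : p.Prime)
  have hp1 := hp.two_le
  rcases (fixSet P Z).eq_empty_or_nonempty with h0 | ⟨a, ha⟩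
  · simp [h0]
  have hne : ∀ z : Z, (fixSyl p G z).Nonempty := fun z => by
    obtain ⟨g, rfl⟩ := MulAction.exists_smul_eq G a z
    exact ⟨g • P, (smul_fixSyl_iff g a P).mpr ha⟩
  have hmv : ∀ z : Z, ∃ g : G, g • z ≠ z := by
    intro z
    by_contra! h
    haveI : Subsingleton Z := ⟨fun u w => by
      obtain ⟨g, rfl⟩ := MulAction.exists_smul_eq G z u
      obtain ⟨g', rfl⟩ := MulAction.exists_smul_eq G z w
      rw [h, h]⟩
    have := Finite.card_le_one_iff_subsingleton.mpr ‹Subsingleton Z›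
    omega
  by_cases hinj : Function.Injective (fun z : Z => fixSyl p G z)
  swap
  · have hlt : Nat.card (Cls p G Z) < n := by
      haveI := Fintype.ofFinite Z
      haveI := Fintype.ofFinite (Cls p G Z)
      rw [← hn, Nat.card_eq_fintype_card, Nat.card_eq_fintype_card]
      exact Fintype.card_lt_of_surjective_not_injective _ cls_surjective
        fun h => hinj fun a b hab => h (cls_eq_iff.mpr hab)
    exact (cls_le (fun j hj => IH j (lt_of_le_of_lt hj hlt)) hG P hne hmv).1
  by_contra hbad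
  push_neg at hbad
  obtain ⟨x, hx, z, hxz⟩ : ∃ x ∈ (P : Subgroup G), ∃ z : Z, x • z ≠ z := by
    by_contra! h
    obtain ⟨g, hg⟩ := hmv a
    refine hg (hG.fixed_of_forall a (fun Q => ?_) g)
    obtain ⟨c, rfl⟩ := MulAction.exists_smul_eq G P Q
    have := (smul_fixSyl_iff c (c⁻¹ • a) P).mpr (fun y hy => h y hy _)
    rwa [smul_inv_smul] at this
  obtain ⟨k, hk⟩ := IsPGroup.iff_orderOf.mp P.isPGroup' ⟨x, hx⟩
  rw [Subgroup.orderOf_mk] at hk
  obtain ⟨j, hy1, hy2⟩ := exists_step (p := p) hxz (k := k) (by rw [← hk, pow_orderOf_eq_one])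
  set y := x ^ j with hy
  have hyP : y ∈ (P : Subgroup G) := pow_mem hx j
  obtain ⟨Q, hQ⟩ := hne z
  rw [← fixSet_ncard_eq P Q] at hbad
  have hmax : ∀ w : Z, (fixSyl p G w).ncard ≤ (fixSyl p G z).ncard := fun w => by
    obtain ⟨g, rfl⟩ := MulAction.exists_smul_eq G z w
    rw [ncard_fixSyl_smul]
  have hU' := lineGroup_stable (p := p) (G := G) z
  letI := actOn (G := lineGroup p G z) ({z}ᶜ : Set Z) hU'
  have eZ := card_compl_singleton z
  have eF := fixSet_away hQ hU'
  have hB' : ∀ i ≤ Nat.card ({z}ᶜ : Set Z), Bound.{u, v} p i := fun i hi => IH i (by omega)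
  have hmv' : ∀ w : ({z}ᶜ : Set Z), ∃ g : lineGroup p G z, g • w ≠ w := fun w => by
    obtain ⟨g, hg⟩ := away_moved hinj hmax w w.2
    exact ⟨g, fun h => hg (congrArg Subtype.val h)⟩
  have hle := univ_le hB' (lineGroup_genP z) (Q.subtype (le_lineGroup hQ)) hmv'
  -- the slack is exactly zero
  have hmod := modEq_fixSet (Z := Z) Q
  have hfn : (fixSet Q Z).ncard ≤ Nat.card Z := by
    rw [← Set.ncard_univ]
    exact Set.ncard_le_ncard (Set.subset_univ _) Set.finite_univ
  obtain ⟨A, hA⟩ := (Nat.modEq_iff_dvd' hfn).mp hmod.symm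
  set N := Nat.card ({z}ᶜ : Set Z) with hN
  set F := (fixSet (Q.subtype (le_lineGroup hQ)) ({z}ᶜ : Set Z)).ncard with hF
  obtain ⟨q, rfl⟩ : ∃ q, p = q + 1 := ⟨p - 1, by omega⟩
  have e1 : 2 * (q + 1) - 1 = 2 * q + 1 := by omega
  have hA' : N = F + (q + 1) * A := by omega
  rw [e1, Nat.add_sub_cancel] at hle hbad
  rw [← eZ, ← eF] at hbad
  have hFA : F = q * A := by
    have h1 : (q + 1) * F ≤ (q + 1) * (q * A) := by rw [hA'] at hle; linarith
    have h2 : (q + 1) * (q * A) < (q + 1) * (F + 1) := by rw [hA'] at hbad; linarith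
    have h1' := Nat.le_of_mul_le_mul_left h1 (by omega)
    have h2' := Nat.lt_of_mul_lt_mul_left h2
    omega
  -- an orbit of `y` with a common fixing Sylow subgroup
  set X : Set Z := (fun i => (y ^ i) • z) '' Set.Iio (q + 1) with hX
  have hzX : z ∈ X := ⟨0, by simp, by simp⟩
  have hXc : X.ncard ≤ q + 1 := by
    refine (Set.ncard_image_le (Set.finite_Iio _)).trans ?_
    simp
  set Y' : Set ({z}ᶜ : Set Z) := Subtype.val ⁻¹' X with hY'
  have eY : Y'.ncard + 1 = X.ncard := by
    rw [← Set.ncard_image_of_injective Y' Subtype.val_injective, hY',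
      Subtype.image_preimage_coe, Set.inter_comm, ← Set.sdiff_eq,
      Set.ncard_sdiff_singleton_add_one hzX (Set.toFinite _)]
  obtain ⟨R, hR⟩ := exists_common N hB' (lineGroup (q + 1) G z) ({z}ᶜ : Set Z) le_rfl (lineGroup_genP z)
    hmv' (Q.subtype (le_lineGroup hQ)) Y' (by
      rw [e1, Nat.add_sub_cancel, ← hN, ← hF, hA', hFA]
      have : (q + 1) * Y'.ncard ≤ (q + 1) * q := Nat.mul_le_mul_left _ (by omega)
      linarith)
  obtain ⟨R', hR'z, hR'⟩ := lift_sylow ⟨Q, hQ⟩ R
  have hR'X : ∀ w ∈ X, R' ∈ fixSyl (q + 1) G w := by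
    intro w hw
    rcases eq_or_ne w z with rfl | hne'
    · exact hR'z
    intro g hg
    obtain ⟨l, hl, rfl⟩ := hR' g hg
    exact congrArg Subtype.val (hR ⟨w, hne'⟩ hw l hl)
  set M : Subgroup G := MulAction.stabilizer G X with hM
  have hRM : (R' : Subgroup G) ≤ M := by
    intro g hg
    show g • X = X
    ext w
    refine ⟨?_, fun hw => ⟨w, hw, hR'X w hw g hg⟩⟩
    rintro ⟨w', hw', rfl⟩
    show g • w' ∈ X
    rwa [hR'X w' hw' g hg]
  have hyM : y ∈ M := by
    show y • X = X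
    refine Set.eq_of_subset_of_ncard_le ?_ ?_ (Set.toFinite _)
    · rintro w ⟨w', ⟨i, hi, rfl⟩, rfl⟩
      show y • (y ^ i • z) ∈ X
      rw [← mul_smul, ← pow_succ']
      rcases Nat.lt_or_ge (i + 1) (q + 1) with h | h
      · exact ⟨i + 1, h, rfl⟩
      · have : i + 1 = q + 1 := by have := Set.mem_Iio.mp hi; omega
        rw [this, hy2]
        exact hzX
    · exact (Set.ncard_image_of_injective X (MulAction.injective y)).ge
  obtain ⟨Q₂, hQ₂⟩ := (P.isPGroup'.comap_subtype (K := M)).exists_le_sylow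
  obtain ⟨m, hm⟩ := MulAction.exists_smul_eq M (R'.subtype hRM) Q₂
  have hy' : (⟨y, hyM⟩ : M) ∈ (Q₂ : Subgroup M) := hQ₂ hyP
  rw [← hm, mem_smul_sylow] at hy'
  have hc : (m : G)⁻¹ * y * m ∈ (R' : Subgroup G) := hy'
  have hmz : (m : G)⁻¹ • z ∈ X := by
    have : (m : G)⁻¹ • X = X := M.inv_mem m.2
    rw [← this]
    exact Set.smul_mem_smul_set hzX
  have := hR'X _ hmz _ hc
  rw [← mul_smul, mul_inv_cancel_right, mul_smul, smul_left_cancel_iff] at this
  exact hy1 this

/-- **The fixed point bound**: in an action without fixed points of a group generated by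
`p`-elements, a Sylow `p`-subgroup fixes at most `(p-1)/(2p-1)` of the points. -/
theorem sylow_fix_le [Finite Z] (hG : GenP p G) (hmv : ∀ z : Z, ∃ g : G, g • z ≠ z)
    (P : Sylow p G) : (2 * p - 1) * (fixSet P Z).ncard ≤ (p - 1) * Nat.card Z :=
  univ_le (fun k _ => bound_all k) hG P hmv

end H67.SylowFix
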