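import Cfsg.Agent.H67.SylowFix

/-!
The number of orbits of a Sylow subgroup in a faithful transitive action.
-/

set_option autoImplicit false
set_option linter.style.haveILetI false

namespace H67.SylowOrbits

open H67.SylowFix

variable {G Ω : Type*} [Group G] [Finite G] [MulAction G Ω] [Finite Ω]
variable {p : ℕ} [Fact p.Prime]

omit [Finite G] in
theorem normal_closure_of_conj {S : Set G} (h : ∀ g : G, ∀ x ∈ S, g * x * g⁻¹ ∈ S) :
    (Subgroup.closure S).Normal := by
  refine ⟨fun n hn g => ?_⟩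
  induction hn using Subgroup.closure_induction with
  | mem x hx => exact Subgroup.subset_closure (h g x hx)
  | one => simp
  | mul x y _ _ hx hy =>
    have : g * (x * y) * g⁻¹ = (g * x * g⁻¹) * (g * y * g⁻¹) := by group
    rw [this]; exact mul_mem hx hy
  | inv x _ hx =>
    have : g * x⁻¹ * g⁻¹ = (g * x * g⁻¹)⁻¹ := by group
    rw [this]; exact inv_mem hx

theorem orbits_le [FaithfulSMul G Ω] (htrans : MulAction.IsPretransitive G Ω)
    (hpG : p ∣ Nat.card G) (P : Sylow p G) (N : Subgroup G) [N.Normal]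
    (hN : N = Subgroup.closure {g : G | ∃ k : ℕ, orderOf g = p ^ k}) :
    (2 * p - 1) * Nat.card (MulAction.orbitRel.Quotient ↥(P : Subgroup G) Ω) ≤
      p * Nat.card Ω := by
  classical
  have hp := (Fact.out : p.Prime)
  haveI := htrans
  have hPN : (P : Subgroup G) ≤ N := by
    rw [hN]
    intro g hg
    refine Subgroup.subset_closure ?_
    obtain ⟨k, hk⟩ := IsPGroup.iff_orderOf.mp P.isPGroup' ⟨g, hg⟩
    exact ⟨k, by rwa [Subgroup.orderOf_mk] at hk⟩
  have hgen : GenP p N := by
    subst hN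
    rw [GenP, eq_top_iff, ← Subgroup.closure_closure_coe_preimage]
    refine Subgroup.closure_mono ?_
    rintro ⟨g, hg⟩ ⟨k, hk⟩
    exact ⟨k, by rw [Subgroup.orderOf_mk]; exact hk⟩
  have hmv : ∀ z : Ω, ∃ g : N, g • z ≠ z := by
    intro z
    by_contra! h
    obtain ⟨x, hx⟩ := exists_prime_orderOf_dvd_card' p hpG
    have hxN : x ∈ N := by rw [hN]; exact Subgroup.subset_closure ⟨1, by rw [hx, pow_one]⟩
    have : x = 1 := eq_of_smul_eq_smul (α := Ω) fun w => by
      obtain ⟨g, rfl⟩ := MulAction.exists_smul_eq G z w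
      have := h ⟨g⁻¹ * x * g⁻¹⁻¹, Subgroup.Normal.conj_mem inferInstance x hxN g⁻¹⟩
      rw [Subgroup.mk_smul, inv_inv, mul_smul, mul_smul, inv_smul_eq_iff] at this
      rw [this, one_smul]
    rw [this, orderOf_one] at hx
    exact hp.one_lt.ne hx
  have key := sylow_fix_le (Z := Ω) hgen hmv (P.subtype hPN)
  have ef : fixSet (P.subtype hPN) Ω = fixSet P Ω := by
    ext z
    exact ⟨fun h g hg => h ⟨g, hPN hg⟩ hg, fun h g hg => h g hg⟩
  rw [ef] at key
  haveI := Fintype.ofFinite Ω
  set q := MulAction.orbitRel.Quotient ↥(P : Subgroup G) Ω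
  haveI : Fintype q := Fintype.ofFinite q
  set one : Finset q := Finset.univ.filter
    (fun c => Nat.card (MulAction.orbit ↥(P : Subgroup G) c.out) = 1) with hone
  have h1 : one.card ≤ (fixSet P Ω).ncard := by
    rw [← Set.ncard_coe_finset]
    refine Set.ncard_le_ncard_of_injOn (fun c => Quotient.out c) ?_ ?_ (Set.toFinite _)
    · intro c hc g hg
      have hc' := (Finset.mem_filter.mp hc).2
      haveI := (Nat.card_eq_one_iff_unique.mp hc').1
      exact congrArg Subtype.val (Subsingleton.elim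
        (⟨g • c.out, ⟨⟨g, hg⟩, rfl⟩⟩ : MulAction.orbit ↥(P : Subgroup G) c.out)
        ⟨c.out, MulAction.mem_orbit_self _⟩)
    · intro a _ b _ h
      exact Quotient.out_injective h
  have h2 : p * Nat.card q ≤ Nat.card Ω + (p - 1) * one.card := by
    rw [Nat.card_congr (MulAction.selfEquivSigmaOrbits ↥(P : Subgroup G) Ω), Nat.card_sigma,
      Nat.card_eq_fintype_card, ← Finset.card_univ, Finset.card_eq_sum_ones, Finset.mul_sum,
      hone, Finset.card_filter, Finset.mul_sum, ← Finset.sum_add_distrib]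
    refine Finset.sum_le_sum fun c _ => ?_
    obtain ⟨k, hk⟩ := P.isPGroup'.card_orbit c.out
    split_ifs with h
    · rw [h]; omega
    · rcases k with _ | k
      · exact absurd (by simpa using hk) h
      · rw [hk, pow_succ']
        have : p * 1 ≤ p * p ^ k := Nat.mul_le_mul_left _ (Nat.one_le_pow _ _ hp.pos)
        omega
  have h3 := Nat.mul_le_mul_left (p - 1) h1
  obtain ⟨r, rfl⟩ : ∃ r, p = r + 1 := ⟨p - 1, by have := hp.pos; omega⟩
  rw [Nat.add_sub_cancel] at h2 h3 key
  have e1 : 2 * (r + 1) - 1 = 2 * r + 1 := by omega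
  rw [e1] at key ⊢
  refine Nat.le_of_mul_le_mul_left (?_ : (r + 1) * _ ≤ (r + 1) * _) (Nat.succ_pos r)
  have h4 := Nat.mul_le_mul_left r key
  have h5 := Nat.mul_le_mul_left (2 * r + 1) (h2.trans (Nat.add_le_add_left h3 _))
  linarith [h4, h5]

end H67.SylowOrbits
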