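import Cfsg.Agent.H85.ZStarApps
import Cfsg.Agent.H70.SolvableQuotTwo
/-!
Weakly closed subgroups of the centre of a Sylow 2-subgroup are weakly fixed elementwise.
-/
set_option autoImplicit false

namespace H67

theorem weaklyFixed_center_of_weaklyClosed {H : Type*} [Group H] [Finite H] (S : Sylow 2 H)
    (hw : ∀ Z₀ : Subgroup H, Z₀ ≤ ((Subgroup.center (S : Subgroup H)).map (S : Subgroup H).subtype) →
      Cfsg.IsWeaklyClosed Z₀ (S : Subgroup H)) :
    H85.WeaklyFixed (S : Subgroup H) ((Subgroup.center (S : Subgroup H)).map (S : Subgroup H).subtype) := by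
  classical
  haveI : Fact (Nat.Prime 2) := ⟨Nat.prime_two⟩
  set Z : Subgroup H := (Subgroup.center (S : Subgroup H)).map (S : Subgroup H).subtype with hZ
  have hZS : Z ≤ (S : Subgroup H) := Subgroup.map_subtype_le _
  have hZc : ∀ x ∈ Z, (S : Subgroup H) ≤ Subgroup.centralizer ({x} : Set H) := by
    rintro _ ⟨x, hx, rfl⟩ s hs
    rw [Subgroup.mem_centralizer_singleton_iff]
    exact congrArg Subtype.val (Subgroup.mem_center_iff.mp hx ⟨s, hs⟩)
  intro x hx
  refine ⟨hZS hx, fun g hg => ?_⟩
  set A := Subgroup.zpowers x with hA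
  obtain ⟨-, hwc⟩ := hw A (Subgroup.zpowers_le.mpr hx)
  have hmap : A.map (MulAut.conj g).toMonoidHom = A := hwc g (by
    rw [hA, MonoidHom.map_zpowers, Subgroup.zpowers_le]
    exact hg)
  set N := Subgroup.normalizer (A : Set H) with hN
  have hgN : g ∈ N := by
    rw [hN, Subgroup.mem_normalizer_iff]
    intro a
    constructor
    · intro ha
      rw [← hmap]
      exact ⟨a, ha, rfl⟩
    · intro ha
      rw [← hmap] at ha
      obtain ⟨b, hb, e⟩ := ha
      have e' : b = a := (MulAut.conj g).injective e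
      exact e' ▸ hb
  let φ : N →* MulAut A := A.normalizerMonoidHom
  have hSC : (S : Subgroup H) ≤ Subgroup.centralizer (A : Set H) := by
    intro s hs
    rw [hA, Subgroup.mem_centralizer_iff]
    rintro a ⟨k, rfl⟩
    exact ((Commute.zpow_right (Subgroup.mem_centralizer_singleton_iff.mp (hZc x hx hs)) k)).symm.eq
  have hSN : (S : Subgroup H) ≤ N := hSC.trans (Subgroup.centralizer_le_normalizer _)
  have hker : (S.subtype hSN : Subgroup N) ≤ φ.ker := by
    intro s hs
    rw [Subgroup.normalizerMonoidHom_ker]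
    exact hSC hs
  have hAp : IsPGroup 2 A := S.2.to_le (Subgroup.zpowers_le.mpr (hZS hx))
  have hAut : IsPGroup 2 (MulAut A) := H70.isPGroup_two_mulAut_cyclic hAp
  obtain ⟨k, hk⟩ := IsPGroup.iff_card.mp (hAut.to_subgroup φ.range)
  have h2 : ¬ 2 ∣ Nat.card φ.range := by
    rw [← Subgroup.index_ker]
    exact fun h => (S.subtype hSN).not_dvd_index (h.trans (Subgroup.index_dvd_of_le hker))
  have h1 : Nat.card φ.range = 1 := by
    rcases Nat.eq_zero_or_pos k with rfl | hk0
    · simpa using hk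
    · exact absurd (hk ▸ dvd_pow_self 2 hk0.ne') h2
  have hgk : (⟨g, hgN⟩ : N) ∈ φ.ker := by
    rw [MonoidHom.mem_ker]
    have : φ ⟨g, hgN⟩ ∈ φ.range := ⟨_, rfl⟩
    rwa [Subgroup.eq_bot_of_card_eq _ h1, Subgroup.mem_bot] at this
  rw [Subgroup.normalizerMonoidHom_ker] at hgk
  have : x * g = g * x := Subgroup.mem_centralizer_iff.mp hgk x (Subgroup.mem_zpowers x)
  show g * x * g⁻¹ = x
  rw [← this, mul_inv_cancel_right]

end H67
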